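import Cfsg.Agent.H2.PrRed
import Cfsg.Agent.H93.PRT
import Cfsg.Agent.H1.PrB1
import Cfsg.Agent.H41.PrB2
import Cfsg.Agent.H3.PrEv
import Cfsg.Agent.H84.PrLA1
import Cfsg.Agent.H76.PrTpm
import Cfsg.Agent.H30.PrC2

/-! Linear groups of degree below `p - 1` with a Sylow subgroup of order `p`. -/

set_option autoImplicit false
set_option linter.unusedSectionVars false

namespace H2.PR

open Cfsg H28 H35 H37 H39 H45 H87 Module
open scoped ComplexConjugate

universe u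

variable {G : Type u} [Group G] [Finite G] {p : ℕ} [hp : Fact p.Prime] {P : Sylow p G} {ζ : G → ℂ}
  {e t h d : ℕ} {x y : G} {ν : (P : Subgroup G) →* ℂˣ} {α : ℂ}

theorem t_mul (hP : Nat.card (P : Subgroup G) = p) :
    Nat.card {c : ConjClasses G // ∃ g : G, ConjClasses.mk g = c ∧ orderOf g = p} *
      (Cen (P : Subgroup G)).relIndex (Nor (P : Subgroup G)) = p - 1 := by
  refine Eq.trans ?_ ((card_ne_one_mem (P : Subgroup G)).trans (by rw [hP]))
  refine (card_eq_mul_of_fibers (fun g : {g : G // g ∈ (P : Subgroup G) ∧ g ≠ 1} =>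
    (⟨ConjClasses.mk g.1, g.1, rfl, orderOf_eq_of_mem_prime hP g.2.1 g.2.2⟩ :
      {c : ConjClasses G // ∃ g : G, ConjClasses.mk g = c ∧ orderOf g = p})) _ ?_).symm
  rintro ⟨_, g, rfl, hg⟩
  obtain ⟨y, hy, h1⟩ := exists_isConj_mem_sylow P hg
  have h2 : y ≠ 1 := ne_one_of_orderOf_prime ((orderOf_eq_of_isConj h1).symm.trans hg)
  rw [← card_isConj_mem_prime hP hy h2]
  exact Nat.card_congr ⟨fun a => ⟨a.1.1, h1.symm.trans (ConjClasses.mk_eq_mk_iff_isConj.1
    (congrArg Subtype.val a.2)).symm, a.1.2.1⟩, fun a => ⟨⟨a.1, a.2.2, fun h3 => h2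
      (isConj_one_left.1 (h3 ▸ a.2.1))⟩, Subtype.ext (ConjClasses.mk_eq_mk_iff_isConj.2
        (h1.trans a.2.1).symm)⟩, fun _ => rfl, fun _ => rfl⟩

theorem Lo.perfect (L : Lo p e h (P : Subgroup G) x y) (gen : Gen (P : Subgroup G)) :
    commutator G = ⊤ :=
  top_le_iff.1 (gen _ inferInstance ((zpowers_eq_of_mem_prime L.card
    (mul_mem ((Subgroup.mem_normalizer_iff.1 L.x_mem y).1 L.mem) (inv_mem L.mem)) fun h0 =>
      Nat.not_dvd_of_pos_of_lt one_pos L.two (L.pow_mem_cen_iff.1 (by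
        rw [pow_one]
        exact (centralizer_singleton_eq_prime L.card L.mem L.ne).le
          (Subgroup.mem_centralizer_singleton_iff.2 (mul_inv_eq_iff_eq_mul.1
            (mul_inv_eq_one.1 h0)))))).ge.trans (Subgroup.zpowers_le.2
      (Subgroup.commutator_mem_commutator (Subgroup.mem_top x) (Subgroup.mem_top y)))))

theorem le_cen_of_not_dvd (hP : Nat.card (P : Subgroup G) = p) (hζ : IsIrrCharacter G ζ)
    (hk : charKer ζ = ⊥) (hd : charDegree ζ + 1 < p) (T : Subgroup G) (hT : T.Normal)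
    (h1 : ¬ p ∣ Nat.card T) : T ≤ Cen (P : Subgroup G) := fun t ht y hy => by
  have h2 : y ^ p = 1 := congrArg Subtype.val (hP ▸ pow_card_eq_one' (x := (⟨y, hy⟩ : P.1)))
  by_contra h3
  obtain ⟨k, -, h4⟩ := Cfsg.Agent.S4468.degree_of hζ (by omega) T h1 (j := 1) (by rwa [pow_one]) ht
    (h2 ▸ one_mem _) fun h => h3 (mul_inv_eq_iff_eq_mul.1 (mul_inv_eq_one.1
      (Subgroup.mem_bot.1 (hk.le (hζ.mem_charKer.2 h)))))
  omega

theorem Lo.psl (L : Lo p e h (P : Subgroup G) x y) (gen : Gen (P : Subgroup G))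
    (he : p = 2 * e + 1) (h1 : Nat.card (Sylow p G) = p + 1) (K : Type*) [Field K] [Fintype K]
    (hc : Fintype.card K = p) :
    Nonempty (G ⧸ Subgroup.center G ≃* Matrix.ProjectiveSpecialLinearGroup (Fin 2) K) := by
  cases nonempty_fintype G
  have h7 := Subgroup.center_le_centralizer (G := G) ((P : Subgroup G) : Set G)
  have h8 := (card_sylows_quot L.card h7).trans h1
  have h2 : 2 * (Subgroup.center G).index = p * (p ^ 2 - 1) := by
    have h2 := card_sylow_mul_card_normalizer P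
    rw [h1, L.card_nor, ← (Subgroup.center G).index_mul_card, ← mul_assoc] at h2
    rw [← Nat.eq_of_mul_eq_mul_right Nat.card_pos h2, he, show (2 * e + 1) ^ 2 - 1 =
      2 * e * (2 * e + 2) from Nat.sub_eq_of_eq_add (by ring)]
    ring
  exact H88.PrimeDeg.nonempty_equiv_psl (a := P.mapSurjective (QuotientGroup.mk'_surjective _))
    ⟨card_sylow_quot L.card L.reg, sylow_le_stab _, fun _ hg => mem_nor hg, fun g =>
      eq_one_of_smul_sylow (card_sylow_quot L.card L.reg) (centralizer_quot L.card L.reg h7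
        fun c hc => by
          obtain ⟨z, hz, w, hw, rfl⟩ := L.cpl.ex c hc
          exact ⟨z⁻¹, inv_mem hz, by rwa [inv_mul_cancel_left]⟩)
        (by have := hp.out.pos; omega), fun Q => MulAction.exists_smul_eq _ _ Q, h8⟩
    (commutator_quot (L.perfect gen)) h2 K hc

theorem Dat.lt (D : Dat p e t h d P x y ζ ν α) : charDegree ζ + 1 < p := by
  have := D.lo.two
  have := D.de
  have := D.deg
  omega

theorem Dat.card_sylow (D : Dat p e 2 h d P x y ζ ν α) (h11 : 11 ≤ p) :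
    Nat.card (Sylow p G) = p + 1 := by
  cases nonempty_fintype G
  obtain ⟨M, hM⟩ := exists_isPModular p hp.out
  have := hM.2.1
  have := charP_F hM
  obtain ⟨n, ρ, l1, c1⟩ := H93.PR.jobLat G p M hM ζ D.irr
  obtain ⟨⟨-, a1⟩, -, a3, -⟩ := H93.PR.jobLift G p M hM _ ρ ζ l1
  have s1 : Scal ρ := fun z hz => a3 z (H76.PR.norm_cen D.irr hz)
  rw [← D.irr.cast_charDegree, Nat.cast_inj] at a1
  have h1 := (H1.PR.jobG1 _ p G P e h x y D.lo _ ρ s1).2 c1
  have h2 := D.lt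
  have h3 := D.pe
  have h4 := D.de
  have h5 := D.deg
  rw [pow_eq_zero_of_le (by omega) (pow_finrank_eq_zero ⟨p, sub_one_pow (F M) (D.lo.rep_pow ρ)⟩),
    LinearMap.range_zero, finrank_bot] at h1
  obtain ⟨τ, hτ⟩ := H1.PR.jobB1 H1.PR.jobG1 _ p G P e h x y D.lo (by omega) h11 _ ρ s1 (by omega) h1
  exact H41.PB.jobB2 H1.PR.jobS1 _ p G P D.lo.card (by omega) D.gen (D.lo.perfect D.gen)
    (le_cen_of_not_dvd D.lo.card D.irr D.ker h2) y D.lo.mem τ hτ

theorem Dat.three (D : Dat p e t h d P x y ζ ν α) (ht : 3 ≤ t) :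
    e = 2 ∨ (Odd e ∧ e + 3 ≤ t ∧ ¬ Odd (Nat.card (Subgroup.center G))) :=
  H30.PrC.jobCh H30.PrF.jobFam G p e t h d P x y ζ ν α D ht (H30.PrC.jobEt
    (H76.PR.jobTpm H93.PR.jobLat H93.PR.jobLift H93.PR.jobT H1.PR.jobG1 H3.Pr.jobEv H84.LA.jobLA)
    H30.PrF.jobFam G p e t h d P x y ζ ν α D ht)

omit [Finite G] in
theorem center_sub {K : Subgroup G} (h : ∀ g, ∃ a ∈ K, ∃ z ∈ Subgroup.center G, g = a * z) :
    Subgroup.center K = (Subgroup.center G).subgroupOf K := by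
  ext c
  refine ⟨fun hc => Subgroup.mem_center_iff.2 fun g => ?_,
    fun hc => Subgroup.mem_center_iff.2 fun g => Subtype.ext (Subgroup.mem_center_iff.1 hc g)⟩
  obtain ⟨a, ha, z, hz, rfl⟩ := h g
  have h1 : a * c = c * a := congrArg Subtype.val (Subgroup.mem_center_iff.1 hc ⟨a, ha⟩)
  change a * z * c = c * (a * z)
  rw [mul_assoc, ← Subgroup.mem_center_iff.1 hz, ← mul_assoc, h1, mul_assoc]

omit [Finite G] in
theorem quot_equiv {K : Subgroup G} (h : ∀ g, ∃ a ∈ K, ∃ z ∈ Subgroup.center G, g = a * z) :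
    Nonempty (G ⧸ Subgroup.center G ≃* K ⧸ Subgroup.center K) :=
  ⟨(QuotientGroup.quotientKerEquivOfSurjective
    ((QuotientGroup.mk' (Subgroup.center G)).comp K.subtype) fun g => by
      obtain ⟨g, rfl⟩ := QuotientGroup.mk'_surjective _ g
      obtain ⟨a, ha, z, hz, rfl⟩ := h g
      exact ⟨⟨a, ha⟩, by simp [(QuotientGroup.eq_one_iff z).2 hz]⟩).symm.trans
    (QuotientGroup.quotientMulEquivOfEq (by
      rw [center_sub h, ← MonoidHom.comap_ker, QuotientGroup.ker_mk']; rfl))⟩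

theorem exists_dat' (hP : Nat.card (P : Subgroup G) = p) (hnn : ¬ (P : Subgroup G).Normal)
    (hζ : IsIrrCharacter G ζ) (hk : charKer ζ = ⊥) (hd : charDegree ζ + 1 < p)
    (h2 : p < 2 * charDegree ζ + 1) : ∃ (K : Subgroup G) (Q : Sylow p K), ∃ t h x y ν α,
      Dat p ((Cen (P : Subgroup G)).relIndex (Nor (P : Subgroup G))) t h (charDegree ζ) Q x y
        (fun a => ζ a) ν α ∧ 2 ≤ t ∧ ∀ g, ∃ a ∈ K, ∃ z ∈ Subgroup.center G, g = a * z := by
  cases nonempty_fintype G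
  obtain ⟨h1, -, h3⟩ := deg_eq hP hnn hζ hk hd h2
  obtain ⟨e, t, r, x, y, ν, α, D⟩ := exists_dat (kk_card hP) (kk_nn hP hnn) (kk_gen _)
    (irr_kk hP hnn hζ hk hd) (ker_res hζ.isCharacter hk _) hd h2
  rw [charDegree_restrict] at D
  obtain rfl := Nat.add_left_cancel (D.de.trans h1.symm)
  refine ⟨_, _, t, r, x, y, ν, α, D, ?_, h3⟩
  have := D.pe
  have := two_le_deg hnn hζ hk
  rcases t with _ | _ | t <;> omega

theorem cases (h7 : 7 < p) (hP : Nat.card (P : Subgroup G) = p) (hnn : ¬ (P : Subgroup G).Normal)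
    (hζ : IsIrrCharacter G ζ) (hk : charKer ζ = ⊥) (hd : charDegree ζ + 1 < p) {e : ℕ}
    (he : (Cen (P : Subgroup G)).relIndex (Nor (P : Subgroup G)) = e) :
    (Nonempty (G ⧸ Subgroup.center G ≃* Matrix.ProjectiveSpecialLinearGroup (Fin 2) (ZMod p)) ∧
      (2 * charDegree ζ = p + 1 ∨ 2 * charDegree ζ = p - 1) ∧ p = 2 * e + 1) ∨
    ∃ t, p = e * t + 1 ∧ charDegree ζ + e = p ∧ e + 3 ≤ t ∧
      (e = 2 ∨ Odd e ∧ 3 ≤ e ∧ ¬ Odd (Nat.card (Subgroup.center G))) := by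
  subst he
  have h11 : 11 ≤ p := by
    by_contra h
    have := hp.out
    interval_cases p <;> revert this <;> norm_num
  rcases lt_or_ge p (2 * charDegree ζ + 1) with h | h
  swap
  · cases nonempty_fintype (P : Subgroup G)
    obtain ⟨h1, h2⟩ := brauer_half hP hnn hζ.isCharacter hk h
    have := (small_form hP hnn hζ hk h).1
    exact Or.inl ⟨h2 (ZMod p) (ZMod.card p), by omega, by omega⟩
  obtain ⟨K, Q, t, r, x, y, ν, α, D, h1, h2⟩ := exists_dat' hP hnn hζ hk hd h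
  have h3 := D.pe
  have h4 := D.de
  have h5 := D.lo.two
  rcases h1.eq_or_lt with rfl | h1
  · obtain ⟨a⟩ := quot_equiv h2
    obtain ⟨b⟩ := D.lo.psl D.gen (by omega) (D.card_sylow h11) (ZMod p) (ZMod.card p)
    exact Or.inl ⟨⟨a.trans b⟩, by omega, by omega⟩
  rcases D.three h1 with h6 | ⟨h6, h8, h9⟩
  · rw [h6] at h3
    exact Or.inr ⟨t, D.pe, h4, by omega, Or.inl h6⟩
  · refine Or.inr ⟨t, h3, h4, h8, Or.inr ⟨h6, by obtain ⟨k, hk⟩ := h6; omega, fun h => h9 ?_⟩⟩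
    rw [center_sub h2]
    exact h.of_dvd_nat (Subgroup.card_comap_dvd_of_injective _ _ K.subtype_injective)

end H2.PR
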