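/- Brauer's theorem: the number of simple modules of a finite group over an algebraically closed
field of characteristic `p` is the number of `p`-regular classes. -/
import Cfsg.Agent.H36.GA
import Cfsg.Agent.H38.Jacobson

set_option autoImplicit false
set_option linter.unusedSectionVars false

namespace H2

open Finset MonoidAlgebra
open scoped MonoidAlgebra

section Alg

theorem sum_pow_eq_sum_fun {A ι : Type*} [Semiring A] [Fintype ι] (a : ι → A) (n : ℕ) :
    (∑ i, a i) ^ n = ∑ f : Fin n → ι, (List.ofFn fun j => a (f j)).prod := by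
  classical
  induction n with
  | zero => simp
  | succ n ih =>
    rw [pow_succ', ih, sum_mul_sum, ← Fintype.sum_prod_type',
      ← (Fin.consEquiv fun _ : Fin (n + 1) => ι).sum_comp]
    exact sum_congr rfl fun x _ => by simp [Fin.consEquiv, List.ofFn_succ]

/-- Additivity of `p ^ k`-th powers modulo commutators. -/
theorem trace_sum_pow {F A ι : Type*} [Field F] [Ring A] [Algebra F A] [Fintype ι] {p : ℕ}
    [Fact p.Prime] [CharP F p] (τ : A →ₗ[F] F) (hτ : ∀ x y, τ (x * y) = τ (y * x)) (a : ι → A)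
    (k : ℕ) : τ ((∑ i, a i) ^ p ^ k) = ∑ i, τ (a i ^ p ^ k) := by
  classical
  obtain ⟨n, hn⟩ : ∃ n, p ^ k = n + 1 :=
    Nat.exists_eq_succ_of_ne_zero (pow_ne_zero k (Fact.out : p.Prime).ne_zero)
  let σ : Equiv.Perm (Fin (n + 1) → ι) := (finRotate (n + 1)).symm.arrowCongr (Equiv.refl ι)
  have hσ : ∀ f j, σ f j = f (j + 1) := fun f j => by simp [σ]
  have hσk : ∀ (m : ℕ) f j, (σ ^ m) f j = f (j + Fin.ofNat (n + 1) m) := by
    intro m
    induction m with
    | zero => simp
    | succ m ih =>
      intro f j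
      rw [pow_succ', Equiv.Perm.mul_apply, hσ, ih, add_assoc, add_comm 1]
      congr 2
      ext; simp [Fin.val_add]
  have hP : IsPGroup p (Subgroup.zpowers σ) := by
    have : σ ^ p ^ k = 1 := by
      ext f j
      rw [hσk, hn]; simp
    refine IsPGroup.iff_orderOf.2 ?_
    rintro ⟨_, m, rfl⟩
    have h1 : orderOf (σ ^ m) ∣ p ^ k :=
      (orderOf_dvd_of_mem_zpowers ⟨m, rfl⟩).trans (orderOf_dvd_of_pow_eq_one this)
    obtain ⟨j, -, hj⟩ := (Nat.dvd_prime_pow Fact.out).1 h1
    exact ⟨j, by rw [← hj, ← Subgroup.orderOf_coe]⟩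
  let φ : (Fin (n + 1) → ι) → F := fun f => τ (List.ofFn fun j => a (f j)).prod
  have h1 : ∀ f, φ (σ f) = φ f := fun f => by
    simp only [φ]
    rw [List.ofFn_succ', List.ofFn_succ, List.concat_eq_append, List.prod_append, List.prod_cons,
      List.prod_cons, List.prod_nil, mul_one, hτ]
    simp [hσ]
  have h2 : ∀ (u : Subgroup.zpowers σ) f, φ (u • f) = φ f := by
    rintro ⟨u, hu⟩
    obtain ⟨m, rfl⟩ := mem_powers_iff_mem_zpowers.2 hu
    change ∀ f, φ ((σ ^ m) f) = φ f
    clear hu
    induction m with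
    | zero => exact fun f => rfl
    | succ m ih => exact fun f => by rw [pow_succ', Equiv.Perm.mul_apply, h1, ih]
  rw [hn, sum_pow_eq_sum_fun, map_sum,
    H36.sum_eq_sum_fixed hP (fun v => by simp) φ h2]
  symm
  refine sum_bij (fun i _ _ => i) (fun i _ => ?_) (fun i _ j _ e => congrFun e 0) (fun f hf => ?_)
    fun i _ => by simp [φ, pow_succ']
  · simp only [mem_filter, mem_univ, true_and]
    rintro ⟨u, hu⟩
    obtain ⟨m, rfl⟩ := mem_powers_iff_mem_zpowers.2 hu
    ext j
    exact hσk m _ j
  · refine ⟨f 0, mem_univ _, ?_⟩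
    ext j
    have := congrFun ((mem_filter.1 hf).2 ⟨σ ^ (j : ℕ), Subgroup.npow_mem_zpowers _ _⟩) 0
    rw [← this]
    change (σ ^ (j : ℕ)) f 0 = _
    rw [hσk]; simp

theorem exists_eq_mul_trace {F W : Type*} [Field F] [AddCommGroup W] [Module F W]
    [FiniteDimensional F W] (τ : Module.End F W →ₗ[F] F) (hτ : ∀ x y, τ (x * y) = τ (y * x)) :
    ∃ c : F, ∀ φ, τ φ = c * LinearMap.trace F W φ := by
  rcases subsingleton_or_nontrivial W with _ | _
  · exact ⟨0, fun φ => by rw [Subsingleton.elim φ 0]; simp⟩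
  obtain ⟨w, hw⟩ := exists_ne (0 : W)
  obtain ⟨f, hf⟩ := Module.Projective.exists_dual_eq_one F hw
  refine ⟨τ (f.smulRight w), fun φ => ?_⟩
  obtain ⟨x, rfl⟩ := (dualTensorHomEquiv F W W).surjective φ
  induction x using TensorProduct.induction_on with
  | zero => simp
  | add x y hx hy => rw [map_add, map_add, map_add, hx, hy, mul_add]
  | tmul g v =>
    have h1 : dualTensorHomEquiv F W W (g ⊗ₜ v) = f.smulRight v * g.smulRight w := by
      ext x; simp [hf]
    have h2 : g.smulRight w * f.smulRight v = g v • f.smulRight w := by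
      ext x; simp [smul_smul, mul_comm]
    have h3 : LinearMap.trace F W (dualTensorHomEquiv F W W (g ⊗ₜ v)) = g v := by
      simp
    rw [h3, h1, hτ, h2, map_smul, smul_eq_mul, mul_comm]

/-- Density theorem for a finite family of pairwise non-isomorphic simple modules. -/
theorem exists_smul_eq_family {F A ι : Type*} [Field F] [IsAlgClosed F] [Ring A] [Algebra F A]
    [Finite ι] {M : ι → Type*} [∀ i, AddCommGroup (M i)] [∀ i, Module F (M i)]
    [∀ i, Module A (M i)] [∀ i, IsScalarTower F A (M i)] [∀ i, IsSimpleModule A (M i)]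
    [∀ i, FiniteDimensional F (M i)] (hne : ∀ i j, Nonempty (M i ≃ₗ[A] M j) → i = j)
    (φ : ∀ i, Module.End F (M i)) : ∃ a : A, ∀ i x, a • x = φ i x := by
  classical
  have := Fintype.ofFinite ι
  have key : ∀ ψ : Module.End A (∀ i, M i), ∃ c : ι → F, ∀ x i, ψ x i = c i • x i := by
    intro ψ
    choose c hc using fun i => (IsSimpleModule.algebraMap_end_bijective_of_isAlgClosed F).2
      (LinearMap.proj i ∘ₗ ψ ∘ₗ LinearMap.single A M i)
    refine ⟨c, fun x i => ?_⟩
    conv_lhs => rw [← univ_sum_single x, map_sum, Finset.sum_apply]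
    rw [sum_eq_single i]
    · simpa using (LinearMap.congr_fun (hc i) (x i)).symm
    · intro j _ hj
      rcases LinearMap.bijective_or_eq_zero (LinearMap.proj i ∘ₗ ψ ∘ₗ LinearMap.single A M j)
        with h | h
      · exact absurd (hne j i ⟨LinearEquiv.ofBijective _ h⟩) hj
      · exact LinearMap.congr_fun h (x j)
    · simp
  let f : Module.End (Module.End A (∀ i, M i)) (∀ i, M i) :=
    { toFun := fun x i => φ i (x i)
      map_add' := fun x y => by ext i; simp
      map_smul' := fun ψ x => by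
        obtain ⟨c, hc⟩ := key ψ
        ext i
        simp [hc] }
  obtain ⟨s, hs⟩ := Module.Finite.fg_top (R := F) (M := ∀ i, M i)
  obtain ⟨a, ha⟩ := jacobson_density f s
  have h1 : ∀ x : ∀ i, M i, f x = a • x := fun x => by
    induction hs.ge (trivial : x ∈ ⊤) using Submodule.span_induction with
    | mem m hm => exact ha m hm
    | zero => simp
    | add _ _ _ _ h₁ h₂ => rw [map_add, h₁, h₂, smul_add]
    | smul c y _ h =>
      rw [smul_comm, ← h]
      ext i
      simp [f]
  exact ⟨a, fun i x => by simpa [f] using (congrFun (h1 (Pi.single i x)) i).symm⟩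

theorem exists_smul_eq_of_simple {F A M : Type*} [Field F] [IsAlgClosed F] [Ring A] [Algebra F A]
    [AddCommGroup M] [Module F M] [Module A M] [IsScalarTower F A M] [IsSimpleModule A M]
    [FiniteDimensional F M] (φ : Module.End F M) : ∃ a : A, ∀ x, a • x = φ x := by
  obtain ⟨a, ha⟩ := exists_smul_eq_family (F := F) (A := A) (ι := Unit) (M := fun _ => M)
    (fun _ _ _ => rfl) fun _ => φ
  exact ⟨a, ha ()⟩

end Alg

variable {G : Type*} [Group G] [Finite G] {p : ℕ} [Fact p.Prime]

variable (G p) in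
theorem exists_pReg_pow : ∃ k, 0 < k ∧ (∀ g : G, (orderOf g).Coprime p → g ^ p ^ k = g) ∧
    ∀ g : G, (orderOf (g ^ p ^ k)).Coprime p := by
  have hp : p.Prime := Fact.out
  obtain ⟨e, m, hm, hem⟩ := Nat.exists_eq_pow_mul_and_not_dvd (Nat.card_pos (α := G)).ne' p
    hp.ne_one
  have hm0 : 0 < m := Nat.pos_of_ne_zero (by rintro rfl; exact hm (dvd_zero p))
  have hc : p.Coprime m := (Nat.Prime.coprime_iff_not_dvd hp).2 hm
  refine ⟨m.totient * (e + 1), Nat.mul_pos (Nat.totient_pos.2 hm0) e.succ_pos, fun g hg => ?_,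
    fun g => ?_⟩
  · have h1 : orderOf g ∣ m := (hg.pow_right e).dvd_of_dvd_mul_left (hem ▸ orderOf_dvd_natCard g)
    have h2 : p ^ (m.totient * (e + 1)) ≡ 1 [MOD m] := by
      simpa [pow_mul] using (Nat.ModEq.pow_totient hc).pow (e + 1)
    conv_rhs => rw [← pow_one g]
    exact pow_eq_pow_iff_modEq.2 (h2.of_dvd h1)
  · refine Nat.Coprime.coprime_dvd_left (orderOf_dvd_of_pow_eq_one ?_) hc.symm
    obtain ⟨d, hd⟩ : p ^ e ∣ p ^ (m.totient * (e + 1)) := pow_dvd_pow p (by
      nlinarith [Nat.totient_pos.2 hm0])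
    rw [hd, ← pow_mul, mul_right_comm, ← hem, pow_mul, pow_card_eq_one', one_pow]

variable {F : Type*} [Field F] [CharP F p]

theorem exists_class_functional (K : ConjClasses G) : ∃ τ : F[G] →ₗ[F] F,
    (∀ x y, τ (x * y) = τ (y * x)) ∧ (∀ x, IsNilpotent x → τ x = 0) ∧
    ∀ g : G, (orderOf g).Coprime p → (ConjClasses.mk g = K → τ (single g 1) = 1) ∧
      (ConjClasses.mk g ≠ K → τ (single g 1) = 0) := by
  classical
  have := Fintype.ofFinite G
  have hp : p.Prime := Fact.out
  obtain ⟨k, hk, h1, h2⟩ := exists_pReg_pow G p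
  let f : G → F := fun g => if ConjClasses.mk (g ^ p ^ k) = K then 1 else 0
  let τ : F[G] →ₗ[F] F :=
    { toFun := fun x => ∑ g, x.coeff g * f g
      map_add' := fun x y => by simp [add_mul, sum_add_distrib]
      map_smul' := fun c x => by simp [mul_sum, mul_assoc] }
  have hτ : ∀ g c, τ (single g c) = c * f g := fun g c => by
    simp [τ, Finsupp.single_apply]
  have hf : ∀ g h, f (g * h) = f (h * g) := fun g h => by
    have : ConjClasses.mk ((g * h) ^ p ^ k) = ConjClasses.mk ((h * g) ^ p ^ k) := by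
      rw [ConjClasses.mk_eq_mk_iff_isConj, isConj_iff]
      exact ⟨h, by rw [← conj_pow]; congr 1; group⟩
    simp only [f, this]
  have hcomm : ∀ x y, τ (x * y) = τ (y * x) := fun x y => by
    rw [H36.eq_sum_single x, H36.eq_sum_single y, sum_mul_sum, sum_mul_sum, sum_comm]
    simp only [map_sum, single_mul_single, hτ]
    exact sum_congr rfl fun g _ => sum_congr rfl fun h _ => by rw [hf, mul_comm (x.coeff h)]
  refine ⟨τ, hcomm, fun x ⟨n, hn⟩ => ?_, fun g hg => ?_⟩
  · have h3 : x ^ p ^ (k * n) = 0 := pow_eq_zero_of_le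
      ((Nat.le_mul_of_pos_left n hk).trans (Nat.lt_pow_self hp.one_lt).le) hn
    have h4 : ∀ g : G, f (g ^ p ^ (k * n)) = f g ^ p ^ (k * n) := fun g => by
      have h5 : ∀ j, (g ^ p ^ k) ^ p ^ (k * j) = g ^ p ^ k := fun j => by
        induction j with
        | zero => simp
        | succ j ih => rw [Nat.mul_succ, pow_add, pow_mul, ih, h1 _ (h2 g)]
      simp only [f]
      rw [← pow_mul, mul_comm, pow_mul, h5]
      split_ifs <;> simp [hp.ne_zero]
    have h5 := trace_sum_pow τ hcomm (fun g => single g (x.coeff g)) (k * n)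
    rw [← H36.eq_sum_single, h3, map_zero] at h5
    simp only [single_pow, hτ, h4, ← mul_pow, ← sum_pow_char_pow] at h5
    exact pow_eq_zero_iff (pow_ne_zero _ hp.ne_zero) |>.1 h5.symm
  · simp only [hτ, one_mul, f, h1 g hg]
    exact ⟨fun e => if_pos e, fun e => if_neg e⟩

/-- **Brauer**: the number of `p`-regular classes is the number of simple modules. -/
theorem card_pReg_classes [IsAlgClosed F] {ι : Type*} [Finite ι] {M : ι → Type*}
    [∀ i, AddCommGroup (M i)] [∀ i, Module F (M i)] [∀ i, Module F[G] (M i)]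
    [∀ i, IsScalarTower F F[G] (M i)] [∀ i, IsSimpleModule F[G] (M i)]
    [∀ i, FiniteDimensional F (M i)] (hne : ∀ i j, Nonempty (M i ≃ₗ[F[G]] M j) → i = j)
    (hall : ∀ I : Ideal F[G], I.IsMaximal → ∃ i, Nonempty ((F[G] ⧸ I) ≃ₗ[F[G]] M i)) :
    Nat.card {c : ConjClasses G // ∃ g, ConjClasses.mk g = c ∧ (orderOf g).Coprime p} =
      Nat.card ι := by
  classical
  have := Fintype.ofFinite ι
  have := Fintype.ofFinite G
  set R := {c : ConjClasses G // ∃ g, ConjClasses.mk g = c ∧ (orderOf g).Coprime p}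
  have : Fintype R := Fintype.ofFinite R
  choose r hr hr' using fun c : R => c.2
  let ρ : F[G] →ₐ[F] ∀ i, Module.End F (M i) := AlgHom.pi fun i => Algebra.lsmul F F (M i)
  have hρ : Function.Surjective ρ := fun φ => by
    obtain ⟨a, ha⟩ := exists_smul_eq_family hne φ
    exact ⟨a, funext fun i => LinearMap.ext (ha i)⟩
  have hker : ∀ a, ρ a = 0 → IsNilpotent a := fun a ha => by
    refine H38.isNilpotent_of_mem_jacobson ?_
    rw [Ring.jacobson_eq_sInf_isMaximal, Submodule.mem_sInf]
    intro I hI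
    obtain ⟨i, ⟨e⟩⟩ := hall I hI
    have h1 : a • e (Submodule.Quotient.mk 1) = 0 := LinearMap.congr_fun (congrFun ha i) _
    rwa [← map_smul, e.map_eq_zero_iff, ← Submodule.Quotient.mk_smul, smul_eq_mul, mul_one,
      Submodule.Quotient.mk_eq_zero] at h1
  let Φ : (ι → F) →ₗ[F] R → F :=
    { toFun := fun c K => ∑ i, c i * LinearMap.trace F (M i) (ρ (single (r K) 1) i)
      map_add' := fun x y => by ext K; simp [add_mul, sum_add_distrib]
      map_smul' := fun c x => by ext K; simp [mul_sum, mul_assoc] }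
  have hinj : Function.Injective Φ := by
    rw [injective_iff_map_eq_zero]
    intro c hc
    obtain ⟨k, -, h1, h2⟩ := exists_pReg_pow G p
    have h3 : ∀ g : G, ∑ i, c i * LinearMap.trace F (M i) (ρ (single g 1) i) = 0 := fun g => by
      rw [← show Φ c ⟨_, _, rfl, h2 g⟩ = 0 from congrFun hc _]
      refine sum_congr rfl fun i _ => ?_
      obtain ⟨x, hx⟩ := isConj_iff.1 (ConjClasses.mk_eq_mk_iff_isConj.1 (hr ⟨_, _, rfl, h2 g⟩))
      have h4 : IsNilpotent (single g (1 : F) - single (g ^ p ^ k) 1) := by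
        have : CharP F[G] p := charP_of_injective_algebraMap (algebraMap F F[G]).injective p
        refine ⟨p ^ k, ?_⟩
        rw [sub_pow_char_pow_of_commute _ _ (single_commute_single
          (Commute.self_pow g _) (Commute.refl _)), single_pow, single_pow, h1 _ (h2 g), sub_self]
      have h5 := (LinearMap.isNilpotent_trace_of_isNilpotent
        (h4.map ((Pi.evalAlgHom F _ i).comp ρ))).eq_zero
      rw [map_sub, map_sub, sub_eq_zero] at h5
      congr 1
      refine h5.trans ?_
      change LinearMap.trace F _ (ρ _ i) = _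
      generalize r _ = y at hx ⊢
      rw [← hx, ← one_mul (1 : F), ← single_mul_single, map_mul, Pi.mul_apply,
        LinearMap.trace_mul_comm, ← Pi.mul_apply, ← map_mul, single_mul_single,
        inv_mul_cancel_left]
    have h4 : ∀ a, ∑ i, c i * LinearMap.trace F (M i) (ρ a i) = 0 := fun a => by
      induction a using MonoidAlgebra.induction_linear with
      | zero => simp
      | add x y hx hy => simp only [map_add, Pi.add_apply, mul_add, sum_add_distrib, hx, hy, add_zero]
      | single g t =>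
        rw [← mul_one t, ← smul_single', map_smul]
        simp only [Pi.smul_apply, map_smul, smul_eq_mul, mul_left_comm _ t, ← mul_sum, h3, mul_zero]
    ext i
    have := IsSimpleModule.nontrivial F[G] (M i)
    obtain ⟨w, hw⟩ := exists_ne (0 : M i)
    obtain ⟨f, hf⟩ := Module.Projective.exists_dual_eq_one F hw
    obtain ⟨a, ha⟩ := hρ (Pi.single i (dualTensorHom F _ _ (f ⊗ₜ w)))
    have h5 := h4 a
    rw [ha, sum_eq_single i (fun j _ hj => by simp [Pi.single_eq_of_ne hj]) (by simp),
      Pi.single_eq_same, LinearMap.trace_eq_contract_apply] at h5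
    simpa [hf] using h5
  have hsurj : Function.Surjective Φ := by
    rw [← LinearMap.range_eq_top, eq_top_iff, ← (Pi.basisFun F R).span_eq, Submodule.span_le]
    rintro _ ⟨K, rfl⟩
    obtain ⟨τ, h1, h2, h3⟩ := exists_class_functional (p := p) (F := F) K.1
    obtain ⟨s, hs⟩ := ρ.toLinearMap.exists_rightInverse_of_surjective
      (LinearMap.range_eq_top.2 hρ)
    have hs' : ∀ a, τ (s (ρ a)) = τ a := fun a => by
      rw [← sub_eq_zero, ← map_sub]
      exact h2 _ (hker _ (by rw [map_sub, sub_eq_zero]; exact LinearMap.congr_fun hs (ρ a)))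
    have h4 : ∀ x y, τ (s (x * y)) = τ (s (y * x)) := fun x y => by
      obtain ⟨a, rfl⟩ := hρ x
      obtain ⟨b, rfl⟩ := hρ y
      rw [← map_mul, ← map_mul, hs', hs', h1]
    choose c hc using fun i => exists_eq_mul_trace
      (τ ∘ₗ s ∘ₗ LinearMap.single F (fun i => Module.End F (M i)) i) fun x y => by
        simp only [LinearMap.comp_apply, LinearMap.coe_single, Pi.single_mul, h4]
    refine ⟨c, funext fun L => ?_⟩
    have h5 : Φ c L = τ (single (r L) 1) := by
      rw [← hs', ← univ_sum_single (ρ _), map_sum, map_sum]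
      exact sum_congr rfl fun i _ => (hc i _).symm
    rw [h5, Pi.basisFun_apply]
    by_cases e : L = K
    · rw [e, Pi.single_eq_same]; exact (h3 _ (hr' K)).1 (hr K)
    · rw [Pi.single_eq_of_ne e]
      exact (h3 _ (hr' L)).2 (by rw [hr]; exact fun e' => e (Subtype.ext e'))
  have := (LinearEquiv.ofBijective Φ ⟨hinj, hsurj⟩).finrank_eq
  rw [Module.finrank_fintype_fun_eq_card, Module.finrank_fintype_fun_eq_card] at this
  rw [Nat.card_eq_fintype_card, Nat.card_eq_fintype_card, this]

end H2
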