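/- Split BN-pairs of characteristic `p`: the combinatorial lemmas used in the Curtis-Richen
theory of modules in the defining characteristic. -/
import Cfsg.Agent.H67.Chamber
import Cfsg.Agent.H67.BNPar
import Cfsg.Agent.H67.CoxDouble
import Mathlib.GroupTheory.Sylow

set_option autoImplicit false

namespace H2

open Cfsg H67

variable {G : Type*} [Group G]

/-- A split BN-pair of characteristic `p`: `B = U H` with `U` a normal `p`-subgroup of `B` and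
`H = B ⊓ N` an abelian group of order prime to `p`. -/
structure SBN (P : BNPair G) (p : ℕ) (U : Subgroup G) : Prop where
  pgrp : IsPGroup p U
  le : U ≤ P.B
  conj : ∀ b ∈ P.B, ∀ u ∈ U, b * u * b⁻¹ ∈ U
  fac : ∀ b ∈ P.B, ∃ u ∈ U, ∃ h ∈ P.B ⊓ P.N, b = u * h
  comm : ∀ h ∈ P.B ⊓ P.N, ∀ h' ∈ P.B ⊓ P.N, h * h' = h' * h
  cop : ∀ h ∈ P.B ⊓ P.N, (orderOf h).Coprime p

/-- The strong splitting condition: `U ∩ s U s⁻¹` is normal in `U` for every `s ∈ S`. -/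
def SStrong (P : BNPair G) (U : Subgroup G) : Prop :=
  ∀ s ∈ P.S, ∀ u ∈ U, ∀ y ∈ U, s⁻¹ * y * s ∈ U → s⁻¹ * (u * y * u⁻¹) * s ∈ U

/-- Existence of an opposite subgroup: `U ∩ n U n⁻¹ = 1` for some `n ∈ N`. -/
def SOpp (P : BNPair G) (U : Subgroup G) : Prop :=
  ∃ n ∈ P.N, ∀ u ∈ U, n⁻¹ * u * n ∈ U → u = 1

variable {P : BNPair G}

theorem wOf_mul_N {n n' : G} (hn : n ∈ P.N) (hn' : n' ∈ P.N) :
    wOf P (n * n') = wOf P n * wOf P n' := by
  have h1 := wOf_coe (P := P) ⟨n, hn⟩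
  have h2 := wOf_coe (P := P) ⟨n', hn'⟩
  have h3 := wOf_coe (P := P) (⟨n, hn⟩ * ⟨n', hn'⟩)
  simp only [Subgroup.coe_mul] at h1 h2 h3
  rw [h1, h2, h3, QuotientGroup.mk_mul]

theorem exists_N_wOf (w : Weyl P) : ∃ n ∈ P.N, wOf P n = w := by
  obtain ⟨n, rfl⟩ := QuotientGroup.mk_surjective w
  exact ⟨n, n.2, wOf_coe n⟩

theorem inv_mul_mem_B_of_wOf {n n' : G} (hn : n ∈ P.N) (hn' : n' ∈ P.N)
    (h : wOf P n = wOf P n') : n⁻¹ * n' ∈ P.B := by
  rw [← wOf_eq_one_iff, wOf_mul_N (inv_mem hn) hn', wOf_inv, h, inv_mul_cancel]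

theorem S_mem_N (s : P.S) : (s : G) ∈ P.N := P.subset s.2

theorem conj_H_mem {n h : G} (hn : n ∈ P.N) (hh : h ∈ P.B ⊓ P.N) : n * h * n⁻¹ ∈ P.B ⊓ P.N :=
  ⟨P.conj_mem n hn h hh, P.N.mul_mem (P.N.mul_mem hn hh.2) (inv_mem hn)⟩

theorem conj_H_mem' {n h : G} (hn : n ∈ P.N) (hh : h ∈ P.B ⊓ P.N) : n⁻¹ * h * n ∈ P.B ⊓ P.N := by
  simpa using conj_H_mem (inv_mem hn) hh

theorem sq_mem_H (s : P.S) : (s : G) * s ∈ P.B ⊓ P.N :=
  ⟨P.sq_mem s s.2, P.N.mul_mem (S_mem_N s) (S_mem_N s)⟩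

theorem wOf_inv_S (s : P.S) : wOf P (s : G)⁻¹ = sim P s := by
  rw [wOf_inv, wOf_S, sim_inv]

/-- `s⁻¹ b s ∈ B ∪ B s B`. -/
theorem wOf_conj_S (s : P.S) {b : G} (hb : b ∈ P.B) :
    (s : G)⁻¹ * b * s ∈ P.B ∨ wOf P ((s : G)⁻¹ * b * s) = sim P s := by
  have h1 : InCell P (sim P s) ((s : G)⁻¹ * b) :=
    (wOf_eq_iff.1 (wOf_inv_S s)).mul_right hb
  rcases h1.step (inCell_sim s) with h | h
  · rw [sim_sq, inCell_one_iff] at h; exact Or.inl h
  · exact Or.inr h.wOf_eq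

theorem wOf_step_of_lt {s : P.S} {x g : G} (hx : wOf P x = sim P s)
    (hlt : len (sim P) (wOf P g) < len (sim P) (sim P s * wOf P g)) :
    wOf P (x * g) = sim P s * wOf P g :=
  ((wOf_eq_iff.1 hx).step_of_lt (inCell_wOf P g) hlt).wOf_eq

theorem wOf_step_of_lt_right {s : P.S} {x g : G} (hx : wOf P x = sim P s)
    (hlt : len (sim P) (wOf P g) < len (sim P) (wOf P g * sim P s)) :
    wOf P (g * x) = wOf P g * sim P s := by
  have h1 : wOf P x⁻¹ = sim P s := by rw [wOf_inv, hx, sim_inv]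
  have h2 : len (sim P) (wOf P g⁻¹) < len (sim P) (sim P s * wOf P g⁻¹) := by
    rwa [wOf_inv, (bn_exch P).len_inv, ← (bn_exch P).len_mul_s]
  have h3 := wOf_step_of_lt h1 h2
  rw [← mul_inv_rev, wOf_inv, wOf_inv] at h3
  rw [← inv_inj, h3, mul_inv_rev, sim_inv]

theorem wOf_step {s : P.S} {x : G} (hx : wOf P x = sim P s) (g : G) :
    wOf P (x * g) = sim P s * wOf P g ∨ wOf P (x * g) = wOf P g := by
  rcases (wOf_eq_iff.1 hx).step (inCell_wOf P g) with h | h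
  · exact Or.inl h.wOf_eq
  · exact Or.inr h.wOf_eq

theorem sim_mul_ne (s : P.S) (w : Weyl P) : sim P s * w ≠ w := fun h =>
  sim_ne_one P s (mul_right_cancel (h.trans (one_mul w).symm))

theorem mul_sim_ne (s : P.S) (w : Weyl P) : w * sim P s ≠ w := fun h =>
  sim_ne_one P s (mul_left_cancel (h.trans (mul_one w).symm))

namespace SBN

variable {p : ℕ} {U : Subgroup G} (h : SBN P p U)
include h

theorem conj' {b u : G} (hb : b ∈ P.B) (hu : u ∈ U) : b⁻¹ * u * b ∈ U := by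
  simpa using h.conj _ (inv_mem hb) u hu

theorem exists_pow {u : G} (hu : u ∈ U) : ∃ k, u ^ p ^ k = 1 := by
  obtain ⟨k, hk⟩ := h.pgrp ⟨u, hu⟩
  exact ⟨k, congrArg Subtype.val hk⟩

theorem eq_one_of_pow {x : G} (hx : x ∈ P.B ⊓ P.N) {k : ℕ} (hk : x ^ p ^ k = 1) : x = 1 := by
  have h1 := orderOf_dvd_of_pow_eq_one hk
  have h2 : (orderOf x).Coprime (p ^ k) := (h.cop x hx).pow_right k
  exact orderOf_eq_one_iff.1 (h2.eq_one_of_dvd h1)

theorem eq_one_of_mem {x : G} (hu : x ∈ U) (hx : x ∈ P.B ⊓ P.N) : x = 1 := by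
  obtain ⟨k, hk⟩ := h.exists_pow hu
  exact h.eq_one_of_pow hx hk

theorem exists_pow_eq {u t : G} (hu : u ∈ U) (ht : t ∈ P.B) (n : ℕ) :
    ∃ v ∈ U, (u * t) ^ n = v * t ^ n := by
  induction n with
  | zero => exact ⟨1, U.one_mem, by simp⟩
  | succ n ih =>
    obtain ⟨v, hv, e⟩ := ih
    refine ⟨v * (t ^ n * u * (t ^ n)⁻¹), U.mul_mem hv (h.conj _ (P.B.pow_mem ht n) u hu), ?_⟩
    rw [pow_succ, e, pow_succ]; group

/-- `p`-elements of `B` lie in `U`. -/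
theorem mem_of_pow {b : G} (hb : b ∈ P.B) {k : ℕ} (hk : b ^ p ^ k = 1) : b ∈ U := by
  obtain ⟨u, hu, t, ht, rfl⟩ := h.fac b hb
  obtain ⟨v, hv, e⟩ := h.exists_pow_eq hu ht.1 (p ^ k)
  have h1 : t ^ p ^ k ∈ U := by
    have : t ^ p ^ k = v⁻¹ := by rw [hk] at e; exact (eq_inv_of_mul_eq_one_right e.symm)
    rw [this]; exact inv_mem hv
  have h2 := h.eq_one_of_mem h1 ((P.B ⊓ P.N).pow_mem ht _)
  rw [h.eq_one_of_pow ht h2, mul_one]; exact hu

theorem conj_mem {g u : G} (hu : u ∈ U) (hg : g * u * g⁻¹ ∈ P.B) : g * u * g⁻¹ ∈ U := by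
  obtain ⟨k, hk⟩ := h.exists_pow hu
  exact h.mem_of_pow hg (k := k) (by rw [conj_pow, hk]; simp)

theorem conj_mem' {g u : G} (hu : u ∈ U) (hg : g⁻¹ * u * g ∈ P.B) : g⁻¹ * u * g ∈ U := by
  simpa using h.conj_mem (g := g⁻¹) hu (by simpa using hg)

theorem fac' {b : G} (hb : b ∈ P.B) : ∃ t ∈ P.B ⊓ P.N, ∃ u ∈ U, b = t * u := by
  obtain ⟨u, hu, t, ht, rfl⟩ := h.fac b hb
  exact ⟨t, ht, t⁻¹ * u * t, h.conj' ht.1 hu, by group⟩

/-- Bruhat decomposition in the form `B n B = U n B`. -/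
theorem exists_eq_of_wOf {n g : G} (hn : n ∈ P.N) (hg : wOf P g = wOf P n) :
    ∃ u ∈ U, ∃ b ∈ P.B, g = u * n * b := by
  obtain ⟨b, hb, b', hb', rfl⟩ := (inCell_wOf P n).exists_eq (wOf_eq_iff.1 hg)
  obtain ⟨u, hu, t, ht, rfl⟩ := h.fac b hb
  exact ⟨u, hu, (n⁻¹ * t * n) * b', P.B.mul_mem (conj_H_mem' hn ht).1 hb', by group⟩

/-- Bruhat decomposition `G = U N U`. -/
theorem exists_UNU (g : G) : ∃ u ∈ U, ∃ n ∈ P.N, ∃ u' ∈ U, g = u * n * u' ∧ wOf P n = wOf P g := by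
  obtain ⟨n, hn, e⟩ := exists_N_wOf (wOf P g)
  obtain ⟨u, hu, b, hb, rfl⟩ := h.exists_eq_of_wOf hn e.symm
  obtain ⟨t, ht, u', hu', rfl⟩ := h.fac' hb
  refine ⟨u, hu, n * t, P.N.mul_mem hn ht.2, u', hu', by group, ?_⟩
  rw [wOf_mul_right _ ht.1, e]

theorem S_conj_iff (s : P.S) {y : G} : (s : G) * y * (s : G)⁻¹ ∈ U ↔ (s : G)⁻¹ * y * s ∈ U := by
  constructor
  · intro hy
    have := h.conj' (sq_mem_H s).1 hy
    convert this using 1; group
  · intro hy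
    have := h.conj _ (sq_mem_H s).1 _ hy
    convert this using 1; group

/-- `U = (U ∩ s U s⁻¹)(U ∩ n U n⁻¹)` when `ℓ(s w) > ℓ(w)`. -/
theorem split (s : P.S) {n : G} (hn : n ∈ P.N)
    (hlt : len (sim P) (wOf P n) < len (sim P) (sim P s * wOf P n)) {u : G} (hu : u ∈ U) :
    ∃ y ∈ U, (s : G)⁻¹ * y * s ∈ U ∧ ∃ z ∈ U, n⁻¹ * z * n ∈ U ∧ u = y * z := by
  have h1 : wOf P (s * u * n) = wOf P (s * n) := by
    rw [wOf_step_of_lt (by rw [wOf_mul_right _ (h.le hu), wOf_S]) hlt,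
      wOf_mul_N (S_mem_N s) hn, wOf_S]
  obtain ⟨u₁, hu₁, b, hb, e⟩ := h.exists_eq_of_wOf (P.N.mul_mem (S_mem_N s) hn) h1
  have e' : u = ((s : G)⁻¹ * u₁ * s) * (n * b * n⁻¹) := by
    calc u = (s : G)⁻¹ * (s * u * n) * n⁻¹ := by group
      _ = _ := by rw [e]; group
  rcases wOf_conj_S s (h.le hu₁) with h2 | h2
  · have h3 := h.conj_mem' hu₁ h2
    have h4 : n * b * n⁻¹ ∈ U := by
      have : n * b * n⁻¹ = ((s : G)⁻¹ * u₁ * s)⁻¹ * u := by rw [e']; group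
      rw [this]; exact U.mul_mem (inv_mem h3) hu
    refine ⟨_, h3, (h.S_conj_iff s).1 (by simpa [mul_assoc] using hu₁), _, h4,
      h.conj_mem' h4 (by simpa [mul_assoc] using hb), e'⟩
  · exfalso
    have h3 : wOf P (((s : G)⁻¹ * u₁ * s)⁻¹ * u) = sim P s := by
      rw [wOf_mul_right _ (h.le hu), wOf_inv, h2, sim_inv]
    have h4 := wOf_step_of_lt h3 hlt
    have h5 : ((s : G)⁻¹ * u₁ * s)⁻¹ * u * n = n * b := by rw [e']; group
    rw [h5, wOf_mul_right _ hb] at h4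
    exact sim_mul_ne s _ h4.symm

/-- `U = (U ∩ n⁻¹ U n)(U ∩ s U s⁻¹)` when `ℓ(w s) > ℓ(w)`. -/
theorem split_right (s : P.S) {n : G} (hn : n ∈ P.N)
    (hlt : len (sim P) (wOf P n) < len (sim P) (wOf P n * sim P s)) {u : G} (hu : u ∈ U) :
    ∃ z ∈ U, n * z * n⁻¹ ∈ U ∧ ∃ y ∈ U, (s : G)⁻¹ * y * s ∈ U ∧ u = z * y := by
  have h2 : len (sim P) (wOf P n⁻¹) < len (sim P) (sim P s * wOf P n⁻¹) := by
    rwa [wOf_inv, (bn_exch P).len_inv, ← (bn_exch P).len_mul_s]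
  obtain ⟨y, hy, hy', z, hz, hz', e⟩ := h.split s (inv_mem hn) h2 (inv_mem hu)
  refine ⟨z⁻¹, inv_mem hz, ?_, y⁻¹, inv_mem hy, ?_, ?_⟩
  · simpa [mul_assoc] using inv_mem hz'
  · simpa [mul_assoc] using inv_mem hy'
  · rw [← mul_inv_rev, ← e, inv_inv]

/-- `U ∩ (n t) U (n t)⁻¹ ≤ n U n⁻¹` when `ℓ(w t) > ℓ(w)`. -/
theorem prefix_mem (t : P.S) {n : G}
    (hlt : len (sim P) (wOf P n) < len (sim P) (wOf P n * sim P t)) {u : G} (hu : u ∈ U)
    (hu' : (n * t)⁻¹ * u * (n * t) ∈ U) : n⁻¹ * u * n ∈ U := by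
  have hu'' : (t : G)⁻¹ * ((t : G) * t * ((n * t)⁻¹ * u * (n * t)) * ((t : G) * t)⁻¹) * t =
      n⁻¹ * u * n := by group
  rcases wOf_conj_S t (h.le (h.conj _ (sq_mem_H t).1 _ hu')) with h2 | h2
  · rw [hu''] at h2; exact h.conj_mem' hu h2
  · exfalso
    rw [hu''] at h2
    have h3 := wOf_step_of_lt_right h2 hlt
    rw [show n * (n⁻¹ * u * n) = u * n by group, wOf_mul_left (h.le hu)] at h3
    exact mul_sim_ne t _ h3.symm

theorem exists_not_mem (s : P.S) : ∃ u ∈ U, (s : G)⁻¹ * u * s ∉ P.B := by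
  obtain ⟨b, hb, hb'⟩ := exists_conj_not_mem P s.2
  obtain ⟨u, hu, t, ht, rfl⟩ := h.fac b hb
  refine ⟨u, hu, fun hc => hb' ?_⟩
  have h1 := (h.S_conj_iff s).2 (h.conj_mem' hu hc)
  have h2 := (conj_H_mem (S_mem_N s) ht).1
  have := P.B.mul_mem (P.B.mul_mem (h.le h1) h2) (sq_mem_H s).1
  convert this using 1; group

theorem mem_B_of_normalizes {g : G} (hg : ∀ u ∈ U, g * u * g⁻¹ ∈ U) : g ∈ P.B := by
  by_contra hc
  obtain ⟨u₁, hu₁, n, hn, u₂, hu₂, rfl, e⟩ := h.exists_UNU g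
  have hn1 : wOf P n ≠ 1 := by rw [e, Ne, wOf_eq_one_iff]; exact hc
  obtain ⟨s, -, hs⟩ := (bn_exch P).exists_right_descent (J := Set.univ)
    (by rw [(bn_exch P).WJ_univ]; trivial) hn1
  have hN : n * (s : G)⁻¹ ∈ P.N := P.N.mul_mem hn (inv_mem (S_mem_N s))
  have e1 : wOf P (n * (s : G)⁻¹) = wOf P n * sim P s := by
    rw [wOf_mul_N hn (inv_mem (S_mem_N s)), wOf_inv_S]
  obtain ⟨u, hu, hu'⟩ := h.exists_not_mem s
  have h1 : n * u * n⁻¹ ∈ U := by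
    have h2 := hg _ (h.conj' (h.le hu₂) hu)
    have h3 := h.conj' (h.le hu₁) h2
    convert h3 using 1; group
  have h2 := h.prefix_mem s (n := n * (s : G)⁻¹)
    (by rw [e1, (bn_exch P).mul_s_mul_s]; exact hs) h1 (by simpa [mul_assoc] using hu)
  apply hu'
  apply h.le
  rw [← h.S_conj_iff s]
  convert h2 using 1; group

theorem comm_of_centralizes (hs : SStrong P U) {n u : G} (hn : n ∈ P.N) (hu : u ∈ U)
    (hc : ∀ y ∈ U, n⁻¹ * y * n ∈ U → n⁻¹ * y * n = u * y * u⁻¹) (t : P.S)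
    (ht : len (sim P) (wOf P n) < len (sim P) (sim P t * wOf P n)) :
    sim P t * wOf P n = wOf P n * sim P t := by
  have E := bn_exch P
  refine E.exch t t _ (E.mem_iff_len.2 ht) fun hc' => ?_
  rw [E.mem_iff_len] at hc'
  obtain ⟨u₀, hu₀, hu₀'⟩ := h.exists_not_mem t
  have key : ∀ y ∈ U, (t : G)⁻¹ * y * t ∈ U → ∀ z ∈ U, n⁻¹ * z * n ∈ U →
      (t : G)⁻¹ * (n⁻¹ * z * n) * t ∈ U → u₀ ≠ y * z := by
    intro y hy hy' z hz hz1 hz2 e
    rw [hc z hz hz1] at hz2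
    have h3 := hs t t.2 u⁻¹ (inv_mem hu) _ (h.conj _ (h.le hu) z hz) hz2
    apply hu₀'
    have := U.mul_mem hy' h3
    rw [e]
    apply h.le
    convert this using 1; group
  rcases E.len_mul_s_ne (wOf P n) t with h1 | h1
  · have hN : n * t ∈ P.N := P.N.mul_mem hn (S_mem_N t)
    obtain ⟨y, hy, hy', z, hz, hz', e⟩ := h.split t hN
      (by rw [wOf_mul_N hn (S_mem_N t), wOf_S]; exact hc') hu₀
    refine key y hy hy' z hz (h.prefix_mem t (by omega) hz hz') ?_ e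
    convert hz' using 1; group
  · obtain ⟨y, hy, hy', z, hz, hz', e⟩ := h.split t hn ht hu₀
    have e1 : wOf P (n * (t : G)⁻¹) = wOf P n * sim P t := by
      rw [wOf_mul_N hn (inv_mem (S_mem_N t)), wOf_inv_S]
    have h2 := h.prefix_mem t (n := n * (t : G)⁻¹)
      (by rw [e1, E.mul_s_mul_s]; omega) hz (by simpa [mul_assoc] using hz')
    refine key y hy hy' z hz hz' ((h.S_conj_iff t).1 ?_) e
    convert h2 using 1; group

/-- In an irreducible strongly split BN-pair, an element `x` of a proper standard parabolic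
subgroup that centralizes `U ∩ x U x⁻¹` lies in `B`. -/
theorem mem_B_of_centralizes (hs : SStrong P U) (hirr : P.Irreducible) {K : Set P.S}
    (hK : K ≠ Set.univ) {x : G} (hx : wOf P x ∈ WJ (sim P) K)
    (hc : ∀ y ∈ U, x⁻¹ * y * x ∈ U → x * y = y * x) : x ∈ P.B := by
  have E := bn_exch P
  obtain ⟨u₁, hu₁, n, hn, u₂, hu₂, rfl, e⟩ := h.exists_UNU x
  rw [← e] at hx
  have hc' : ∀ y ∈ U, n⁻¹ * y * n ∈ U → n⁻¹ * y * n = (u₂ * u₁) * y * (u₂ * u₁)⁻¹ := by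
    intro y hy hy'
    have h1 := hc (u₁ * y * u₁⁻¹) (h.conj _ (h.le hu₁) y hy) (by
      have := h.conj' (h.le hu₂) hy'
      convert this using 1; group)
    calc n⁻¹ * y * n = n⁻¹ * u₁⁻¹ * (u₁ * y * u₁⁻¹ * (u₁ * n * u₂)) * u₂⁻¹ := by group
      _ = _ := by rw [← h1]; group
  obtain ⟨l, hlK, hl, hw⟩ := E.exists_reduced_of_mem_closure K hx
  suffices hnil : l = [] by
    rw [← wOf_eq_one_iff, ← e, ← hw, hnil, wp_nil]
  by_contra hne
  let L : Set P.S := {s | s ∈ l}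
  have hwL : wOf P n ∈ WJ (sim P) L := hw ▸ wp_mem_closure _ L l fun i hi => hi
  have hcomm : ∀ t ∉ L, ∀ j ∈ L, sim P j * sim P t = sim P t * sim P j := by
    intro t ht j hj
    have h1 : len (sim P) (wOf P n) < len (sim P) (sim P t * wOf P n) := by
      rcases E.len_s_mul_ne t (wOf P n) with h2 | h2
      · omega
      · exact absurd (E.mem_of_left_descent (sim_injective P) hwL (by omega)) ht
    have h2 := h.comm_of_centralizes hs hn (U.mul_mem hu₂ hu₁) hc' t h1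
    have h3 : IsMinD (sim P) L L (sim P t) := by
      rw [E.isMinD_iff]
      refine ⟨fun i hi => ?_, fun i hi => ?_⟩
      · rcases E.len_s_mul_ne i (sim P t) with h4 | h4
        · omega
        · rw [E.len_s] at h4
          have h5 := E.len_eq_zero (show len (sim P) (sim P i * sim P t) = 0 by omega)
          have h6 : sim P i = sim P t := by rw [eq_inv_of_mul_eq_one_left h5, sim_inv]
          exact absurd (sim_injective P h6 ▸ hi) ht
      · rcases E.len_mul_s_ne (sim P t) i with h4 | h4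
        · omega
        · rw [E.len_s] at h4
          have h5 := E.len_eq_zero (show len (sim P) (sim P t * sim P i) = 0 by omega)
          have h6 : sim P i = sim P t := by rw [eq_inv_of_mul_eq_one_right h5, sim_inv]
          exact absurd (sim_injective P h6 ▸ hi) ht
    have h4 := E.kilmoyer h3 hwL (by
      rw [mul_assoc, ← h2, inv_mul_cancel_left]; exact hwL)
    obtain ⟨-, k, hk, e2⟩ := letters_mem_of_reduced _ l (by rw [hw]; exact hl) (hw ▸ h4) j hj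
    have h5 : sim P k ∈ Subgroup.closure (sim P '' {j, t}) := by
      have : sim P k = (sim P t)⁻¹ * (sim P j * sim P t) := by rw [e2, inv_mul_cancel_left]
      rw [this]
      exact Subgroup.mul_mem _ (inv_mem (s_mem_WJ _ (by simp)))
        (Subgroup.mul_mem _ (s_mem_WJ _ (by simp)) (s_mem_WJ _ (by simp)))
    rcases E.mem_of_s_mem_closure (sim_injective P) _ h5 with rfl | rfl
    · exact e2
    · exact absurd hk ht
  obtain ⟨a, ha⟩ := List.exists_mem_of_ne_nil l hne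
  obtain ⟨b, hb⟩ := (Set.ne_univ_iff_exists_notMem K).1 hK
  obtain ⟨s, ⟨s, hs', rfl⟩, s', ⟨hs'1, hs'2⟩, hss⟩ := hirr (Subtype.val '' L)
    (by rintro _ ⟨s, -, rfl⟩; exact s.2) ⟨a, a, ha, rfl⟩
    ⟨b, b.2, by rintro ⟨c, hc, e⟩; exact hb (Subtype.ext e ▸ hlK c hc)⟩
  apply hss
  have h1 := hcomm ⟨s', hs'1⟩ (fun hc => hs'2 ⟨_, hc, rfl⟩) s hs'
  have hN := S_mem_N s
  have hN' := S_mem_N (P := P) ⟨s', hs'1⟩
  rw [← wOf_eq_one_iff, wOf_mul_N (P.N.mul_mem (P.N.mul_mem hN hN') (inv_mem hN)) (inv_mem hN'),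
    wOf_mul_N (P.N.mul_mem hN hN') (inv_mem hN), wOf_mul_N hN hN', wOf_inv, wOf_inv, wOf_S,
    wOf_S ⟨s', hs'1⟩, h1]
  group

/-- An element of `H` centralizing `U` is central. -/
theorem mem_center_of_comm {t : G} (ht : t ∈ P.B ⊓ P.N) (hc : ∀ u ∈ U, t * u = u * t) :
    t ∈ Subgroup.center G := by
  have hS : ∀ s : P.S, t * s = s * t := by
    intro s
    obtain ⟨u, hu, hu'⟩ := h.exists_not_mem s
    have h1 := (wOf_conj_S s (h.le hu)).resolve_left hu'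
    obtain ⟨u₁, hu₁, n, hn, u₂, hu₂, e, e'⟩ := h.exists_UNU ((s : G)⁻¹ * u * s)
    have hb : (s : G)⁻¹ * n ∈ P.B ⊓ P.N := ⟨inv_mul_mem_B_of_wOf (S_mem_N s) hn
      (by rw [e', h1, wOf_S]), P.N.mul_mem (inv_mem (S_mem_N s)) hn⟩
    have h2 : t * n * t⁻¹ * n⁻¹ ∈ P.B ⊓ P.N := by
      have := (P.B ⊓ P.N).mul_mem ht (conj_H_mem hn (inv_mem ht))
      convert this using 1; group
    have h3 : u₁ * (t * n * t⁻¹ * n⁻¹) * u₁⁻¹ =
        (s : G)⁻¹ * (((s : G) * t * (s : G)⁻¹) * u * ((s : G) * t * (s : G)⁻¹)⁻¹ * u⁻¹) * s := by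
      calc u₁ * (t * n * t⁻¹ * n⁻¹) * u₁⁻¹
          = (u₁ * t) * n * (t⁻¹ * u₂) * (u₁ * n * u₂)⁻¹ := by group
        _ = (t * u₁) * n * (u₂ * t⁻¹) * (u₁ * n * u₂)⁻¹ := by
            rw [hc u₁ hu₁, show t⁻¹ * u₂ = u₂ * t⁻¹ by
              rw [inv_mul_eq_iff_eq_mul, ← mul_assoc, hc u₂ hu₂, mul_inv_cancel_right]]
        _ = t * (u₁ * n * u₂) * t⁻¹ * (u₁ * n * u₂)⁻¹ := by group
        _ = _ := by rw [← e]; group
    obtain ⟨k, hk⟩ := h.exists_pow (U.mul_mem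
      (h.conj _ (conj_H_mem (S_mem_N s) ht).1 u hu) (inv_mem hu))
    have h4 : (t * n * t⁻¹ * n⁻¹) ^ p ^ k = 1 := by
      have h5 : (u₁ * (t * n * t⁻¹ * n⁻¹) * u₁⁻¹) ^ p ^ k = 1 := by
        rw [h3]
        have := conj_pow (a := (s : G)⁻¹) (i := p ^ k)
          (b := ((s : G) * t * (s : G)⁻¹) * u * ((s : G) * t * (s : G)⁻¹)⁻¹ * u⁻¹)
        rw [inv_inv] at this
        rw [this, hk]; simp
      rw [conj_pow] at h5
      simpa using h5
    have h5 := h.eq_one_of_pow h2 h4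
    have h6 : t * n = n * t := by
      rw [← mul_inv_eq_iff_eq_mul, ← mul_inv_eq_one]; exact h5
    have h7 := h.comm _ hb t ht
    calc t * s = t * n * ((s : G)⁻¹ * n)⁻¹ := by group
      _ = n * (t * ((s : G)⁻¹ * n)⁻¹) := by rw [h6, mul_assoc]
      _ = n * (((s : G)⁻¹ * n)⁻¹ * t) := by
          rw [h.comm _ ht _ (inv_mem hb)]
      _ = s * t := by group
  have hN : P.N ≤ Subgroup.centralizer {t} := by
    rw [← P.closure_sup]
    refine sup_le ((Subgroup.closure_le _).2 fun s hs => ?_) fun x hx => ?_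
    · exact Subgroup.mem_centralizer_singleton_iff.2 (hS ⟨s, hs⟩).symm
    · exact Subgroup.mem_centralizer_singleton_iff.2 (h.comm _ hx _ ht)
  have hB : P.B ≤ Subgroup.centralizer {t} := fun b hb => by
    obtain ⟨u, hu, x, hx, rfl⟩ := h.fac b hb
    exact Subgroup.mul_mem _ (Subgroup.mem_centralizer_singleton_iff.2 (hc u hu).symm) (hN hx.2)
  rw [Subgroup.mem_center_iff]
  intro g
  have : g ∈ Subgroup.centralizer {t} := (sup_le hB hN) (P.sup_eq_top ▸ Subgroup.mem_top g)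
  exact Subgroup.mem_centralizer_singleton_iff.1 this

end SBN

end H2
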