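/- Split BN-pairs: the Hecke operators `T_n` on weight vectors in the defining characteristic. -/
import Cfsg.Agent.H2.CRBN
import Cfsg.Agent.H36.GA
import Cfsg.Agent.H38.Jacobson

set_option autoImplicit false
set_option linter.unusedSectionVars false

namespace H2

open Cfsg H67 Finset MonoidAlgebra
open scoped MonoidAlgebra

variable {G : Type*} [Group G] {F : Type*} [Field F]

/-- The group element `g` in the group algebra. -/
noncomputable abbrev sg (F : Type*) [Field F] (g : G) : F[G] := single g 1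

theorem sg_mul (g h : G) : sg F (g * h) = sg F g * sg F h := by simp [single_mul_single]

theorem sg_one : sg F (1 : G) = 1 := rfl

theorem coeff_sg_mul (g : G) (f : F[G]) (x : G) : (sg F g * f).coeff x = f.coeff (g⁻¹ * x) := by
  rw [coeff_single_mul_apply, one_mul]

section Mod
variable {V : Type*} [AddCommGroup V] [Module F[G] V]

theorem sg_mul_smul (g h : G) (m : V) : sg F (g * h) • m = sg F g • sg F h • m := by
  rw [sg_mul, mul_smul]

theorem sg_one_smul (m : V) : sg F (1 : G) • m = m := one_smul _ m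

variable (F) in
/-- `m` is fixed by `U`. -/
def Fix (U : Subgroup G) (m : V) : Prop := ∀ u ∈ U, sg F u • m = m

theorem Fix.mul_smul {U : Subgroup G} {m : V} (hm : Fix F U m) (g : G) {u : G} (hu : u ∈ U) :
    sg F (g * u) • m = sg F g • m := by rw [sg_mul_smul, hm u hu]

theorem Fix.out_smul {U : Subgroup G} {m : V} (hm : Fix F U m) (g : G) :
    sg F (g : G ⧸ U).out • m = sg F g • m := by
  obtain ⟨u, hu⟩ := QuotientGroup.mk_out_eq_mul U g
  rw [hu, hm.mul_smul g u.2]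

theorem Fix.out_smul' {U : Subgroup G} {m : V} (hm : Fix F U m) (x : G) (c : G ⧸ U) :
    sg F (x • c).out • m = sg F x • sg F c.out • m := by
  rw [← sg_mul_smul, ← hm.out_smul (x * c.out), ← smul_eq_mul, ← MulAction.Quotient.smul_coe,
    QuotientGroup.out_eq']

theorem Fix.sub {U : Subgroup G} {m m' : V} (hm : Fix F U m) (hm' : Fix F U m') :
    Fix F U (m - m') := fun u hu => by rw [smul_sub, hm u hu, hm' u hu]

end Mod

variable [Finite G]

/-- The cosets of `U` in the double coset `U g U`. -/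
noncomputable def cell (U : Subgroup G) (g : G) : Finset (G ⧸ U) :=
  (Set.toFinite {c : G ⧸ U | ∃ u ∈ U, c = ((u * g : G) : G ⧸ U)}).toFinset

theorem mem_cell {U : Subgroup G} {g : G} {c : G ⧸ U} :
    c ∈ cell U g ↔ ∃ u ∈ U, c = ((u * g : G) : G ⧸ U) := by simp [cell]

theorem self_mem_cell (U : Subgroup G) (g : G) : (g : G ⧸ U) ∈ cell U g :=
  mem_cell.2 ⟨1, U.one_mem, by rw [one_mul]⟩

theorem out_of_mem_cell {U : Subgroup G} {g : G} {c : G ⧸ U} (hc : c ∈ cell U g) :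
    ∃ u ∈ U, ∃ u' ∈ U, c.out = u * g * u' ∧ c = ((u * g : G) : G ⧸ U) := by
  obtain ⟨u, hu, rfl⟩ := mem_cell.1 hc
  obtain ⟨u', hu'⟩ := QuotientGroup.mk_out_eq_mul U (u * g)
  exact ⟨u, hu, u', u'.2, hu', rfl⟩

theorem cell_mul {U : Subgroup G} (g : G) {u u' : G} (hu : u ∈ U) (hu' : u' ∈ U) :
    cell U (u * g * u') = cell U g := by
  ext c
  simp only [mem_cell]
  constructor
  · rintro ⟨x, hx, rfl⟩
    exact ⟨x * u, U.mul_mem hx hu, QuotientGroup.eq.2 (by simpa [mul_assoc] using inv_mem hu')⟩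
  · rintro ⟨x, hx, rfl⟩
    exact ⟨x * u⁻¹, U.mul_mem hx (inv_mem hu), QuotientGroup.eq.2 (by simpa [mul_assoc] using hu')⟩

variable (F) in
/-- The sum of representatives of the cosets of `U` in `U g U`. -/
noncomputable def tt (U : Subgroup G) (g : G) : F[G] := ∑ c ∈ cell U g, sg F c.out

theorem tt_mul {U : Subgroup G} (g : G) {u u' : G} (hu : u ∈ U) (hu' : u' ∈ U) :
    tt F U (u * g * u') = tt F U g := by rw [tt, cell_mul g hu hu', tt]

theorem coeff_tt_mul (U : Subgroup G) (g : G) (f : F[G]) (x : G) :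
    (tt F U g * f).coeff x = ∑ c ∈ cell U g, f.coeff (c.out⁻¹ * x) := by
  rw [tt, sum_mul, coeff_sum, Finsupp.finsetSum_apply]
  exact sum_congr rfl fun c _ => coeff_sg_mul _ _ _

variable {P : BNPair G}

/-- The extension to `B` (by zero outside `B`) of a linear character of `H = B ⊓ N`. -/
noncomputable def cb (U : Subgroup G) (χ : ↥(P.B ⊓ P.N) →* Fˣ) (g : G) : F := by
  classical
  exact if hg : ∃ t : ↥(P.B ⊓ P.N), g * (t : G)⁻¹ ∈ U then χ hg.choose else 0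

/-- The conjugate `t ↦ χ (n⁻¹ t n)` of a linear character of `H`. -/
def cw (n : G) (hn : n ∈ P.N) (χ : ↥(P.B ⊓ P.N) →* Fˣ) : ↥(P.B ⊓ P.N) →* Fˣ where
  toFun t := χ ⟨n⁻¹ * t * n, conj_H_mem' hn t.2⟩
  map_one' := by rw [← χ.map_one]; congr 1; ext; simp
  map_mul' a b := by rw [← χ.map_mul]; congr 1; ext; simp [mul_assoc]

/-- The universal weight vector `∑ b ∈ B, χ(b)⁻¹ b`. -/
noncomputable def vv (U : Subgroup G) (χ : ↥(P.B ⊓ P.N) →* Fˣ) : F[G] :=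
  H36.mk fun g => cb U χ g⁻¹

theorem coeff_vv (U : Subgroup G) (χ : ↥(P.B ⊓ P.N) →* Fˣ) (g : G) :
    (vv U χ).coeff g = cb U χ g⁻¹ := H36.coeff_mk _ _

section Mod
variable {V : Type*} [AddCommGroup V] [Module F V] [Module F[G] V]

/-- `m` spans a `B`-invariant line, with character `χ` (or is zero). -/
def Wt (U : Subgroup G) (χ : ↥(P.B ⊓ P.N) →* Fˣ) (m : V) : Prop :=
  ∀ b ∈ P.B, sg F b • m = cb U χ b • m

end Mod

namespace SBN

variable {p : ℕ} {U : Subgroup G} (h : SBN P p U)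
include h

theorem cb_eq (χ : ↥(P.B ⊓ P.N) →* Fˣ) {u t : G} (hu : u ∈ U) (ht : t ∈ P.B ⊓ P.N) :
    cb U χ (u * t) = χ ⟨t, ht⟩ := by
  have hg : ∃ t' : ↥(P.B ⊓ P.N), u * t * (t' : G)⁻¹ ∈ U := ⟨⟨t, ht⟩, by simpa using hu⟩
  rw [cb, dif_pos hg]
  have h1 := hg.choose_spec
  have h2 : t * (hg.choose : G)⁻¹ ∈ U := by
    simpa [mul_assoc] using U.mul_mem (inv_mem hu) h1
  have h3 := h.eq_one_of_mem h2 ((P.B ⊓ P.N).mul_mem ht (inv_mem hg.choose.2))
  congr 2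
  exact Subtype.ext (mul_inv_eq_one.1 h3).symm

theorem cb_H (χ : ↥(P.B ⊓ P.N) →* Fˣ) {t : G} (ht : t ∈ P.B ⊓ P.N) : cb U χ t = χ ⟨t, ht⟩ := by
  simpa using h.cb_eq χ U.one_mem ht

theorem cb_U (χ : ↥(P.B ⊓ P.N) →* Fˣ) {u : G} (hu : u ∈ U) : cb U χ u = 1 := by
  have := h.cb_eq χ hu (P.B ⊓ P.N).one_mem
  rw [mul_one] at this
  rw [this]
  exact congrArg Units.val χ.map_one

theorem cb_of_not_mem (χ : ↥(P.B ⊓ P.N) →* Fˣ) {g : G} (hg : g ∉ P.B) : cb U χ g = 0 := by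
  rw [cb, dif_neg]
  rintro ⟨t, ht⟩
  exact hg (by simpa using P.B.mul_mem (h.le ht) t.2.1)

theorem cb_ne_zero (χ : ↥(P.B ⊓ P.N) →* Fˣ) {b : G} (hb : b ∈ P.B) : cb U χ b ≠ 0 := by
  obtain ⟨u, hu, t, ht, rfl⟩ := h.fac b hb
  rw [h.cb_eq χ hu ht]; exact Units.ne_zero _

theorem mem_of_cb_ne_zero {χ : ↥(P.B ⊓ P.N) →* Fˣ} {g : G} (hg : cb U χ g ≠ 0) : g ∈ P.B := by
  by_contra hc; exact hg (h.cb_of_not_mem χ hc)

theorem cb_mul (χ : ↥(P.B ⊓ P.N) →* Fˣ) {b : G} (hb : b ∈ P.B) (g : G) :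
    cb U χ (b * g) = cb U χ b * cb U χ g := by
  by_cases hg : g ∈ P.B
  · obtain ⟨u, hu, t, ht, rfl⟩ := h.fac b hb
    obtain ⟨u', hu', t', ht', rfl⟩ := h.fac g hg
    rw [show u * t * (u' * t') = (u * (t * u' * t⁻¹)) * (t * t') by group,
      h.cb_eq χ (U.mul_mem hu (h.conj _ ht.1 _ hu')) ((P.B ⊓ P.N).mul_mem ht ht'),
      h.cb_eq χ hu ht, h.cb_eq χ hu' ht', ← Units.val_mul, ← χ.map_mul]
    rfl
  · rw [h.cb_of_not_mem χ hg, mul_zero, h.cb_of_not_mem]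
    exact fun hc => hg (by simpa using P.B.mul_mem (inv_mem hb) hc)

theorem cb_mul_right (χ : ↥(P.B ⊓ P.N) →* Fˣ) (g : G) {b : G} (hb : b ∈ P.B) :
    cb U χ (g * b) = cb U χ g * cb U χ b := by
  by_cases hg : g ∈ P.B
  · exact h.cb_mul χ hg b
  · rw [h.cb_of_not_mem χ hg, zero_mul, h.cb_of_not_mem]
    exact fun hc => hg (by simpa using P.B.mul_mem hc (inv_mem hb))

theorem cb_inv_mul (χ : ↥(P.B ⊓ P.N) →* Fˣ) {b : G} (hb : b ∈ P.B) :
    cb U χ b⁻¹ * cb U χ b = 1 := by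
  rw [← h.cb_mul_right χ _ hb, inv_mul_cancel, h.cb_U χ U.one_mem]

theorem cb_cw {n : G} (hn : n ∈ P.N) (χ : ↥(P.B ⊓ P.N) →* Fˣ) {t : G} (ht : t ∈ P.B ⊓ P.N) :
    cb U (cw n hn χ) t = cb U χ (n⁻¹ * t * n) := by
  rw [h.cb_H _ ht, h.cb_H _ (conj_H_mem' hn ht)]; rfl

theorem coeff_mul_vv (χ : ↥(P.B ⊓ P.N) →* Fˣ) (a : F[G]) (x : G) {b : G} (hb : b ∈ P.B) :
    (a * vv U χ).coeff (x * b) = cb U χ b⁻¹ * (a * vv U χ).coeff x := by
  have := Fintype.ofFinite G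
  rw [H36.coeff_mul_sum, H36.coeff_mul_sum, mul_sum]
  refine sum_congr rfl fun g _ => ?_
  rw [coeff_vv, coeff_vv, ← mul_assoc g⁻¹, mul_inv_rev, h.cb_mul χ (inv_mem hb)]; ring

variable {V : Type*} [AddCommGroup V] [Module F V] [Module F[G] V] [IsScalarTower F F[G] V]

theorem fix_of_wt {χ : ↥(P.B ⊓ P.N) →* Fˣ} {m : V} (hm : Wt U χ m) : Fix F U m := fun u hu => by
  rw [hm u (h.le hu), h.cb_U χ hu, one_smul]

theorem wt_of_fix {χ : ↥(P.B ⊓ P.N) →* Fˣ} {m : V} (hm : Fix F U m)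
    (ht : ∀ t ∈ P.B ⊓ P.N, sg F t • m = cb U χ t • m) : Wt U χ m := fun b hb => by
  obtain ⟨t, ht', u, hu, rfl⟩ := h.fac' hb
  rw [hm.mul_smul t hu, ht t ht', h.cb_mul χ ht'.1, h.cb_U χ hu, mul_one]

theorem wt_vv (χ : ↥(P.B ⊓ P.N) →* Fˣ) : Wt U χ (vv U χ) := fun b hb => H36.ga_ext fun x => by
  rw [smul_eq_mul, coeff_sg_mul, coeff_smul_apply, coeff_vv, coeff_vv, mul_inv_rev, inv_inv,
    h.cb_mul_right χ _ hb, smul_eq_mul, mul_comm]

/-- Universal property of `vv`. -/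
theorem smul_eq_zero {χ : ↥(P.B ⊓ P.N) →* Fˣ} {m : V} (hm : Wt U χ m) {a : F[G]}
    (ha : a * vv U χ = 0) : a • m = 0 := by
  classical
  have := Fintype.ofFinite G
  have := Fintype.ofFinite (G ⧸ P.B)
  have h1 : ∀ g : G, sg F g • m = ∑ c : G ⧸ P.B, cb U χ (c.out⁻¹ * g) • sg F c.out • m := by
    intro g
    have hb : (g : G ⧸ P.B).out⁻¹ * g ∈ P.B := QuotientGroup.eq.1 (QuotientGroup.out_eq' _)
    rw [sum_eq_single (g : G ⧸ P.B), ← smul_comm, ← hm _ hb, ← sg_mul_smul, mul_inv_cancel_left]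
    · intro c _ hc
      rw [h.cb_of_not_mem, zero_smul]
      exact fun hc' => hc ((QuotientGroup.out_eq' c).symm.trans (QuotientGroup.eq.2 hc'))
    · simp
  have h2 : ∀ c : G ⧸ P.B, ∑ g, a.coeff g * cb U χ (c.out⁻¹ * g) = 0 := fun c => by
    have := congrArg (fun f : F[G] => f.coeff c.out) ha
    simpa [H36.coeff_mul_sum, coeff_vv] using this
  calc a • m = ∑ g, a.coeff g • sg F g • m := by
        conv_lhs => rw [H36.eq_sum_single a, sum_smul]
        refine sum_congr rfl fun g _ => ?_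
        rw [← smul_assoc, smul_single, smul_eq_mul, mul_one]
    _ = ∑ c : G ⧸ P.B, (∑ g, a.coeff g * cb U χ (c.out⁻¹ * g)) • sg F c.out • m := by
        simp only [sum_smul, mul_smul]
        rw [sum_comm]
        exact sum_congr rfl fun g _ => by rw [h1 g, smul_sum]
    _ = 0 := by simp [h2]

theorem smul_eq_smul {χ : ↥(P.B ⊓ P.N) →* Fˣ} {m : V} (hm : Wt U χ m) {a a' : F[G]} {c : F}
    (ha : a * vv U χ = c • (a' * vv U χ)) : a • m = c • a' • m := by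
  rw [← smul_assoc, ← sub_eq_zero, ← sub_smul]
  exact h.smul_eq_zero hm (by rw [sub_mul, ha, smul_mul_assoc, sub_self])

theorem sg_smul_tt {m : V} (hm : Fix F U m) {b : G} (hb : b ∈ P.B) (g : G) :
    sg F b • tt F U g • m = tt F U (b * g) • m := by
  rw [tt, tt, sum_smul, sum_smul, smul_sum]
  refine sum_nbij' (b • ·) (b⁻¹ • ·) (fun c hc => ?_) (fun c hc => ?_) (by simp) (by simp)
    fun c _ => (hm.out_smul' b c).symm
  · obtain ⟨u, hu, rfl⟩ := mem_cell.1 hc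
    exact mem_cell.2 ⟨_, h.conj b hb u hu, by
      rw [MulAction.Quotient.smul_coe, smul_eq_mul]; congr 1; group⟩
  · obtain ⟨u, hu, rfl⟩ := mem_cell.1 hc
    exact mem_cell.2 ⟨_, h.conj' hb hu, by
      rw [MulAction.Quotient.smul_coe, smul_eq_mul]; congr 1; group⟩

theorem fix_tt {m : V} (hm : Fix F U m) (g : G) : Fix F U (tt F U g • m) := fun u hu => by
  rw [h.sg_smul_tt hm (h.le hu), ← mul_one (u * g), tt_mul g hu U.one_mem]

theorem tt_one {m : V} (hm : Fix F U m) : tt F U (1 : G) • m = m := by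
  have : cell U (1 : G) = {((1 : G) : G ⧸ U)} := by
    ext c
    rw [mem_cell, mem_singleton]
    exact ⟨by rintro ⟨u, hu, rfl⟩; exact QuotientGroup.eq.2 (by simpa using hu),
      fun hc => ⟨1, U.one_mem, by rw [hc, one_mul]⟩⟩
  rw [tt, this, sum_singleton, hm.out_smul, sg_one_smul]

theorem wOf_out {g : G} {c : G ⧸ U} (hc : c ∈ cell U g) : wOf P c.out = wOf P g := by
  obtain ⟨u, hu, u', hu', e, -⟩ := out_of_mem_cell hc
  rw [e, wOf_mul_right _ (h.le hu'), wOf_mul_left (h.le hu)]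

theorem eq_of_out_mem {g : G} {c : G ⧸ U} (hc : c ∈ cell U g) (hB : c.out⁻¹ * g ∈ P.B) :
    c = (g : G ⧸ U) := by
  obtain ⟨u, hu, u', hu', e, rfl⟩ := out_of_mem_cell hc
  rw [e] at hB
  have h1 : g⁻¹ * u⁻¹ * g ∈ P.B := by
    have := P.B.mul_mem (h.le hu') hB
    convert this using 1; group
  exact QuotientGroup.eq.2 (by simpa [mul_assoc] using h.conj_mem' (inv_mem hu) h1)

theorem coeff_tt_vv_self (χ : ↥(P.B ⊓ P.N) →* Fˣ) (g : G) : (tt F U g * vv U χ).coeff g = 1 := by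
  rw [coeff_tt_mul, sum_eq_single (g : G ⧸ U)]
  · rw [coeff_vv, h.cb_U χ (inv_mem (QuotientGroup.eq.1 (QuotientGroup.out_eq' _)))]
  · intro c hc hne
    rw [coeff_vv, h.cb_of_not_mem]
    exact fun hc' => hne (h.eq_of_out_mem hc (by simpa using inv_mem hc'))
  · exact fun hc => absurd (self_mem_cell U g) hc

theorem wOf_of_coeff_tt_vv {χ : ↥(P.B ⊓ P.N) →* Fˣ} {g x : G}
    (hx : (tt F U g * vv U χ).coeff x ≠ 0) : wOf P x = wOf P g := by
  rw [coeff_tt_mul] at hx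
  obtain ⟨c, hc, hc'⟩ := exists_ne_zero_of_sum_ne_zero hx
  rw [coeff_vv] at hc'
  rw [← h.wOf_out hc, ← wOf_mul_right c.out (inv_mem (h.mem_of_cb_ne_zero hc')), inv_inv,
    mul_inv_cancel_left]

omit h in
theorem _root_.H2.Fix.coeff_mul {f : F[G]} (hf : Fix F U f) {u : G} (hu : u ∈ U) (x : G) :
    f.coeff (u * x) = f.coeff x := by
  conv_lhs => rw [← hf u hu, smul_eq_mul, coeff_sg_mul, inv_mul_cancel_left]

theorem fix_tt_vv (χ : ↥(P.B ⊓ P.N) →* Fˣ) (g : G) : Fix F U (tt F U g * vv U χ) :=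
  h.fix_tt (h.fix_of_wt (h.wt_vv χ)) g

theorem coeff_tt_vv (χ : ↥(P.B ⊓ P.N) →* Fˣ) (g : G) {u b : G} (hu : u ∈ U) (hb : b ∈ P.B) :
    (tt F U g * vv U χ).coeff (u * g * b) = cb U χ b⁻¹ := by
  rw [h.coeff_mul_vv χ _ _ hb, (h.fix_tt_vv χ g).coeff_mul hu, h.coeff_tt_vv_self, mul_one]

/-- A `U`-fixed multiple of `vv` supported on one cell is a multiple of `T_n vv`. -/
theorem eq_smul_tt_vv {χ : ↥(P.B ⊓ P.N) →* Fˣ} {a : F[G]} (ha : Fix F U (a * vv U χ)) {n : G}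
    (hn : n ∈ P.N) (hs : ∀ x, (a * vv U χ).coeff x ≠ 0 → wOf P x = wOf P n) :
    a * vv U χ = (a * vv U χ).coeff n • (tt F U n * vv U χ) := by
  refine H36.ga_ext fun x => ?_
  rw [coeff_smul_apply, smul_eq_mul]
  by_cases hx : wOf P x = wOf P n
  · obtain ⟨u, hu, b, hb, rfl⟩ := h.exists_eq_of_wOf hn hx
    rw [h.coeff_tt_vv χ n hu hb, h.coeff_mul_vv χ _ _ hb, ha.coeff_mul hu, mul_comm]
  · rw [of_not_not (mt (hs x) hx), of_not_not (mt h.wOf_of_coeff_tt_vv hx), mul_zero]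

theorem tt_mul_H {χ : ↥(P.B ⊓ P.N) →* Fˣ} {m : V} (hm : Wt U χ m) {n t : G} (hn : n ∈ P.N)
    (ht : t ∈ P.B ⊓ P.N) : tt F U (n * t) • m = cb U χ t • tt F U n • m := by
  refine h.smul_eq_smul hm ?_
  rw [h.eq_smul_tt_vv (h.fix_tt_vv χ (n * t)) hn fun x hx => by
    rw [h.wOf_of_coeff_tt_vv hx, wOf_mul_right _ ht.1]]
  have := h.coeff_tt_vv χ (n * t) U.one_mem (inv_mem ht.1)
  rw [one_mul, mul_inv_cancel_right, inv_inv] at this
  rw [this]

theorem wt_tt {χ : ↥(P.B ⊓ P.N) →* Fˣ} {m : V} (hm : Wt U χ m) {n : G} (hn : n ∈ P.N) :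
    Wt U (cw n hn χ) (tt F U n • m) := by
  refine h.wt_of_fix (h.fix_tt (h.fix_of_wt hm) n) fun t ht => ?_
  rw [h.sg_smul_tt (h.fix_of_wt hm) ht.1, show t * n = n * (n⁻¹ * t * n) by group,
    h.tt_mul_H hm hn (conj_H_mem' hn ht), h.cb_cw hn χ ht]

/-- `T_s T_n = T_{s n}` when the lengths add. -/
theorem tt_S_tt {χ : ↥(P.B ⊓ P.N) →* Fˣ} {m : V} (hm : Wt U χ m) (s : P.S) {n : G} (hn : n ∈ P.N)
    (hlt : len (sim P) (wOf P n) < len (sim P) (sim P s * wOf P n)) :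
    tt F U (s : G) • tt F U n • m = tt F U (s * n) • m := by
  have hN := P.N.mul_mem (S_mem_N s) hn
  have e : wOf P (s * n) = sim P s * wOf P n := by rw [wOf_mul_N (S_mem_N s) hn, wOf_S]
  rw [← mul_smul, ← one_smul F (tt F U (s * n) • m)]
  refine h.smul_eq_smul hm ?_
  rw [h.eq_smul_tt_vv (a := tt F U s * tt F U n) (n := s * n)
    (by rw [mul_assoc]; exact h.fix_tt (h.fix_tt_vv χ n) s) hN]
  · congr 1
    rw [mul_assoc, coeff_tt_mul, sum_eq_single ((s : G) : G ⧸ U)]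
    · have := h.coeff_tt_vv χ n (QuotientGroup.eq.1 (QuotientGroup.out_eq' ((s : G) : G ⧸ U)))
        P.B.one_mem
      rw [mul_one, inv_one, h.cb_U χ U.one_mem, mul_assoc] at this
      exact this
    · intro c hc hne
      by_contra hc'
      have h1 := h.wOf_of_coeff_tt_vv hc'
      obtain ⟨u, hu, u', hu', e1, -⟩ := out_of_mem_cell hc
      have h2 : wOf P (c.out⁻¹ * s) = sim P s := by
        have h3 : c.out⁻¹ * s = u'⁻¹ * ((s : G)⁻¹ * u⁻¹ * s) := by rw [e1]; group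
        rcases wOf_conj_S s (inv_mem (h.le hu)) with h4 | h4
        · exact absurd (h.eq_of_out_mem hc (h3 ▸ P.B.mul_mem (inv_mem (h.le hu')) h4)) hne
        · rw [h3, wOf_mul_left (inv_mem (h.le hu')), h4]
      rw [← mul_assoc, wOf_step_of_lt h2 hlt] at h1
      exact sim_mul_ne s _ h1
    · exact fun hc => absurd (self_mem_cell U _) hc
  · intro x hx
    rw [mul_assoc, coeff_tt_mul] at hx
    obtain ⟨c, hc, hc'⟩ := exists_ne_zero_of_sum_ne_zero hx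
    have h1 := h.wOf_of_coeff_tt_vv hc'
    have h2 := wOf_step_of_lt (g := c.out⁻¹ * x) ((h.wOf_out hc).trans (wOf_S s)) (h1 ▸ hlt)
    rw [mul_inv_cancel_left, h1] at h2
    rw [h2, e]

variable [Fact p.Prime] [CharP F p]

theorem card_cell_S (s : P.S) : ((cell U (s : G)).card : F) = 0 := by
  have := H38.sum_eq_zero_of_no_fixedPoints h.pgrp (cell U (s : G)) (fun u c hc => ?_)
    (fun c hc => ?_) (A := F) (fun a => by simp) (fun _ => 1) (fun _ _ _ => rfl)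
  · simpa using this
  · obtain ⟨x, hx, rfl⟩ := mem_cell.1 hc
    exact mem_cell.2 ⟨u * x, U.mul_mem u.2 hx, by rw [mul_assoc]; rfl⟩
  · obtain ⟨x, hx, rfl⟩ := mem_cell.1 hc
    obtain ⟨u, hu, hu'⟩ := h.exists_not_mem s
    refine ⟨⟨x * u⁻¹ * x⁻¹, h.conj _ (h.le hx) _ (inv_mem hu)⟩, fun hc => hu' (h.le ?_)⟩
    have : ((x * u⁻¹ * x⁻¹ * (x * s) : G) : G ⧸ U) = ((x * s : G) : G ⧸ U) := hc
    have := QuotientGroup.eq.1 this
    convert this using 1; group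

end SBN

variable (U : Subgroup G) in
/-- The structure constant `c` in `T_s T_s = c T_s` on vectors of weight `χ`. -/
noncomputable def cs (s : G) (χ : ↥(P.B ⊓ P.N) →* Fˣ) : F :=
  (tt F U s * tt F U s * vv U χ).coeff s

namespace SBN

variable {p : ℕ} {U : Subgroup G} (h : SBN P p U) [Fact p.Prime] [CharP F p]
variable {V : Type*} [AddCommGroup V] [Module F V] [Module F[G] V] [IsScalarTower F F[G] V]
include h

/-- `T_s T_s = c T_s`. -/
theorem tt_S_sq {χ : ↥(P.B ⊓ P.N) →* Fˣ} {m : V} (hm : Wt U χ m) (s : P.S) :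
    tt F U (s : G) • tt F U (s : G) • m = cs U s χ • tt F U (s : G) • m := by
  rw [← mul_smul]
  refine h.smul_eq_smul hm (h.eq_smul_tt_vv
    (by rw [mul_assoc]; exact h.fix_tt (h.fix_tt_vv χ s) s) (S_mem_N s) fun x hx => ?_)
  have h1 : (tt F U s * tt F U s * vv U χ).coeff 1 = 0 := by
    rw [mul_assoc, coeff_tt_mul, sum_congr rfl (g := fun _ => cb U χ ((s : G) * s)), sum_const,
      nsmul_eq_mul, h.card_cell_S, zero_mul]
    intro c hc
    obtain ⟨u, hu, u', hu', e, -⟩ := out_of_mem_cell hc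
    have h2 := h.conj' (sq_mem_H s).1 (inv_mem hu)
    rw [e, show (u * s * u')⁻¹ * 1 = u'⁻¹ * s * (((s : G) * s)⁻¹ * u⁻¹) by group,
      h.coeff_tt_vv χ _ (inv_mem hu') (P.B.mul_mem (inv_mem (sq_mem_H s).1) (inv_mem (h.le hu))),
      mul_inv_rev, inv_inv, inv_inv, h.cb_mul χ (h.le hu), h.cb_U χ hu, one_mul]
  by_cases hB : x ∈ P.B
  · rw [← one_mul x, h.coeff_mul_vv χ _ _ hB, h1, mul_zero] at hx
    exact absurd rfl hx
  rw [mul_assoc, coeff_tt_mul] at hx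
  obtain ⟨c, hc, hc'⟩ := exists_ne_zero_of_sum_ne_zero hx
  have h2 := h.wOf_of_coeff_tt_vv hc'
  rcases wOf_step ((h.wOf_out hc).trans (wOf_S s)) (c.out⁻¹ * x) with h3 | h3
  · rw [mul_inv_cancel_left, h2, wOf_S, sim_sq, wOf_eq_one_iff] at h3
    exact absurd h3 hB
  · rwa [mul_inv_cancel_left, h2] at h3

/-- `T_s T_n = c T_n` when `ℓ(s w) < ℓ(w)`. -/
theorem tt_S_tt_of_lt {χ : ↥(P.B ⊓ P.N) →* Fˣ} {m : V} (hm : Wt U χ m) (s : P.S) {n : G}
    (hn : n ∈ P.N) (hlt : len (sim P) (sim P s * wOf P n) < len (sim P) (wOf P n)) :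
    tt F U (s : G) • tt F U n • m =
      cs U s (cw _ (P.N.mul_mem (inv_mem (S_mem_N s)) hn) χ) • tt F U n • m := by
  have hN := P.N.mul_mem (inv_mem (S_mem_N s)) hn
  have e : wOf P ((s : G)⁻¹ * n) = sim P s * wOf P n := by
    rw [wOf_mul_N (inv_mem (S_mem_N s)) hn, wOf_inv_S]
  have h1 := h.tt_S_tt hm s hN (by rw [e, (bn_exch P).s_mul_s_mul]; exact hlt)
  rw [mul_inv_cancel_left] at h1
  rw [← h1, h.tt_S_sq (h.wt_tt hm hN)]

end SBN

end H2
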