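/- Split BN-pairs: weight vectors (Curtis-Richen); a simple module has a unique `U`-fixed line
and is determined by its weight. -/
import Cfsg.Agent.H2.CRT

set_option autoImplicit false
set_option linter.unusedSectionVars false

namespace H2

open Cfsg H67 Finset MonoidAlgebra
open scoped MonoidAlgebra

variable {G : Type*} [Group G] {F : Type*} [Field F]
variable {V : Type*} [AddCommGroup V] [Module F V] [Module F[G] V] [IsScalarTower F F[G] V]

variable (F G V) in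
/-- The representation afforded by an `F[G]`-module. -/
noncomputable def modRep : Representation F G V :=
  (Algebra.lsmul F F V : F[G] →ₐ[F] Module.End F V).toMonoidHom.comp (of F G)

theorem modRep_apply (g : G) (v : V) : modRep G F V g v = sg F g • v := rfl

theorem smul_eq_sum [Fintype G] (a : F[G]) (m : V) : a • m = ∑ g, a.coeff g • sg F g • m := by
  conv_lhs => rw [H36.eq_sum_single a, sum_smul]
  refine sum_congr rfl fun g _ => ?_
  rw [← smul_assoc, smul_single, smul_eq_mul, mul_one]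

theorem exists_fix {p : ℕ} [Fact p.Prime] [CharP F p] {U : Subgroup G} [Finite U]
    (hU : IsPGroup p U) (W : Submodule F V) (hW : ∀ u ∈ U, ∀ v ∈ W, sg F u • v ∈ W)
    (h0 : W ≠ ⊥) : ∃ v ∈ W, v ≠ 0 ∧ Fix F U v := by
  let : DistribMulAction U W :=
    { smul := fun u v => ⟨sg F (u : G) • (v : V), hW u u.2 v v.2⟩
      one_smul := fun v => Subtype.ext (sg_one_smul _)
      mul_smul := fun a b v => Subtype.ext (sg_mul_smul _ _ _)
      smul_zero := fun a => Subtype.ext (smul_zero _)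
      smul_add := fun a v w => Subtype.ext (smul_add _ _ _) }
  obtain ⟨v, hv, hv0⟩ := W.ne_bot_iff.1 h0
  obtain ⟨w, hw, hw'⟩ := H38.exists_ne_zero_fixed hU (V := W) (fun v => by
    rw [← Nat.cast_smul_eq_nsmul F, CharP.cast_eq_zero, zero_smul]) (v := ⟨v, hv⟩)
    (fun h => hv0 (congrArg Subtype.val h))
  exact ⟨w, w.2, fun h => hw (Subtype.ext h), fun u hu => congrArg Subtype.val (hw' ⟨u, hu⟩)⟩

theorem dual_sg_smul (g : G) (f : (modRep G F V).dual.asModule) (v : V) :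
    (modRep G F V).dual.asModuleEquiv (sg F g • f) v =
      (modRep G F V).dual.asModuleEquiv f (sg F g⁻¹ • v) := by
  rw [Representation.asModuleEquiv_map_smul, Representation.asAlgebraHom_single, one_smul]
  rfl

theorem exists_inv_functional {p : ℕ} [Fact p.Prime] [CharP F p] {U : Subgroup G} [Finite U]
    (hU : IsPGroup p U) [Nontrivial V] :
    ∃ ε : V →ₗ[F] F, ε ≠ 0 ∧ ∀ u ∈ U, ∀ v, ε (sg F u • v) = ε v := by
  have : Nontrivial (modRep G F V).dual.asModule :=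
    (modRep G F V).dual.asModuleEquiv.toEquiv.nontrivial
  obtain ⟨f, -, hf, hf'⟩ := exists_fix (F := F) (V := (modRep G F V).dual.asModule) hU ⊤
    (fun _ _ _ _ => trivial) top_ne_bot
  refine ⟨(modRep G F V).dual.asModuleEquiv f, by simpa using hf, fun u hu v => ?_⟩
  rw [← inv_inv u, ← dual_sg_smul, hf' _ (inv_mem hu)]

variable (F) in
/-- The span of the `U`-orbit of a vector. -/
def Sp (U : Subgroup G) (v : V) : Submodule F V := Submodule.span F {x | ∃ u ∈ U, x = sg F u • v}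

theorem smul_mem_Sp {U : Subgroup G} (v : V) {u : G} (hu : u ∈ U) : sg F u • v ∈ Sp F U v :=
  Submodule.subset_span ⟨u, hu, rfl⟩

theorem self_mem_Sp (U : Subgroup G) (v : V) : v ∈ Sp F U v := by
  simpa [sg_one_smul] using smul_mem_Sp (F := F) v U.one_mem

theorem Sp_smul_mem {U : Subgroup G} {v x : V} (hx : x ∈ Sp F U v) {u : G} (hu : u ∈ U) :
    sg F u • x ∈ Sp F U v := by
  induction hx using Submodule.span_induction with
  | mem x hx =>
    obtain ⟨u', hu', rfl⟩ := hx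
    rw [← sg_mul_smul]; exact smul_mem_Sp v (U.mul_mem hu hu')
  | zero => simp
  | add x y _ _ hx hy => rw [smul_add]; exact add_mem hx hy
  | smul a x _ hx => rw [smul_comm]; exact Submodule.smul_mem _ a hx

theorem Sp_le {U : Subgroup G} {v x : V} (hx : x ∈ Sp F U v) : Sp F U x ≤ Sp F U v :=
  Submodule.span_le.2 (by rintro _ ⟨u, hu, rfl⟩; exact Sp_smul_mem hx hu)

theorem apply_eq_zero_of_mem_Sp {U : Subgroup G} {ε : V →ₗ[F] F}
    (hε : ∀ u ∈ U, ∀ v, ε (sg F u • v) = ε v) {v x : V} (hv : ε v = 0) (hx : x ∈ Sp F U v) :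
    ε x = 0 := by
  have : Sp F U v ≤ LinearMap.ker ε :=
    Submodule.span_le.2 (by rintro _ ⟨u, hu, rfl⟩; simpa [hε u hu] using hv)
  exact this hx

variable [Finite G] {P : BNPair G}

/-- A weight vector: a `B`-eigenvector which is an eigenvector of `T_s` for all `s ∈ J`. -/
def WV (U : Subgroup G) (J : Set P.S) (χ : ↥(P.B ⊓ P.N) →* Fˣ) (μ : P.S → F) (m : V) : Prop :=
  Wt U χ m ∧ ∀ s ∈ J, tt F U (s : G) • m = μ s • m

theorem exists_S_mul {J : Set P.S} {n : G} (hn : n ∈ P.N) (hJ : wOf P n ∈ WJ (sim P) J)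
    (h1 : wOf P n ≠ 1) : ∃ s ∈ J, ∃ n' ∈ P.N, n = s * n' ∧ wOf P n' = sim P s * wOf P n ∧
      wOf P n' ∈ WJ (sim P) J ∧ len (sim P) (wOf P n') < len (sim P) (wOf P n) := by
  obtain ⟨s, hs, hlt⟩ := (bn_exch P).exists_left_descent hJ h1
  have e : wOf P ((s : G)⁻¹ * n) = sim P s * wOf P n := by
    rw [wOf_mul_N (inv_mem (S_mem_N s)) hn, wOf_inv_S]
  exact ⟨s, hs, _, P.N.mul_mem (inv_mem (S_mem_N s)) hn, by group, e,
    e ▸ Subgroup.mul_mem _ (s_mem_WJ _ hs) hJ, e ▸ hlt⟩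

theorem N_induction {J : Set P.S} {Q : G → Prop} (h0 : ∀ t ∈ P.B ⊓ P.N, Q t)
    (hs : ∀ s ∈ J, ∀ n ∈ P.N, wOf P n ∈ WJ (sim P) J →
      len (sim P) (wOf P n) < len (sim P) (sim P s * wOf P n) → Q n → Q (s * n))
    {n : G} (hn : n ∈ P.N) (hJ : wOf P n ∈ WJ (sim P) J) : Q n := by
  induction hk : len (sim P) (wOf P n) using Nat.strong_induction_on generalizing n with
  | _ k ih =>
    by_cases h1 : wOf P n = 1
    · exact h0 n ⟨wOf_eq_one_iff.1 h1, hn⟩
    · obtain ⟨s, hs', n', hn', rfl, e, hJ', hlt⟩ := exists_S_mul hn hJ h1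
      refine hs s hs' n' hn' hJ' ?_ (ih _ (hk ▸ hlt) hn' hJ' rfl)
      rw [e, (bn_exch P).s_mul_s_mul, ← e]; exact hlt

theorem mem_WJ_univ (w : Weyl P) : w ∈ WJ (sim P) Set.univ := by
  rw [(bn_exch P).WJ_univ]; trivial

namespace SBN

variable {p : ℕ} {U : Subgroup G} (h : SBN P p U)
include h

theorem tt_H {χ : ↥(P.B ⊓ P.N) →* Fˣ} {m : V} (hm : Wt U χ m) {t : G} (ht : t ∈ P.B ⊓ P.N) :
    tt F U t • m = cb U χ t • m := by
  have := h.tt_mul_H hm P.N.one_mem ht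
  rwa [one_mul, h.tt_one (h.fix_of_wt hm)] at this

/-- A weight vector is an eigenvector of every `T_n`. -/
theorem exists_tt_eq {J : Set P.S} {χ : ↥(P.B ⊓ P.N) →* Fˣ} {μ : P.S → F} {m : V}
    (hm : WV U J χ μ m) {n : G} (hn : n ∈ P.N) (hJ : wOf P n ∈ WJ (sim P) J) :
    ∃ c : F, tt F U n • m = c • m ∧ (c ≠ 0 ↔ wOf P n ∈ WJ (sim P) {s | μ s ≠ 0}) := by
  refine N_induction (Q := fun n => ∃ c : F, tt F U n • m = c • m ∧
    (c ≠ 0 ↔ wOf P n ∈ WJ (sim P) {s | μ s ≠ 0})) (fun t ht => ?_) ?_ hn hJ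
  · refine ⟨_, h.tt_H hm.1 ht, iff_of_true (h.cb_ne_zero χ ht.1) ?_⟩
    rw [wOf_eq_one_iff.2 ht.1]; exact Subgroup.one_mem _
  · rintro s hs n hn - hlt ⟨c, hc, hc'⟩
    refine ⟨c * μ s, ?_, ?_⟩
    · rw [← h.tt_S_tt hm.1 s hn hlt, hc, smul_comm, hm.2 s hs, smul_smul]
    · rw [wOf_mul_N (S_mem_N s) hn, wOf_S, mul_ne_zero_iff, hc']
      refine ⟨fun H => Subgroup.mul_mem _ (s_mem_WJ _ H.2) H.1, fun H => ?_⟩
      have h1 : s ∈ {s | μ s ≠ 0} := (bn_exch P).mem_of_left_descent (sim_injective P) H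
        (by rw [(bn_exch P).s_mul_s_mul]; exact hlt)
      refine ⟨?_, h1⟩
      have := Subgroup.mul_mem _ (s_mem_WJ (sim P) h1) H
      rwa [(bn_exch P).s_mul_s_mul] at this

theorem exists_wt [Fact p.Prime] [CharP F p] [IsAlgClosed F] [FiniteDimensional F V]
    [Nontrivial V] : ∃ (χ : ↥(P.B ⊓ P.N) →* Fˣ) (m : V), m ≠ 0 ∧ Wt U χ m := by
  classical
  have key : ∀ T : Finset ↥(P.B ⊓ P.N), ∃ m : V, m ≠ 0 ∧ Fix F U m ∧
      ∀ t ∈ T, ∃ c : F, sg F (t : G) • m = c • m := by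
    intro T
    induction T using Finset.induction_on with
    | empty =>
      obtain ⟨v, -, hv, hv'⟩ := exists_fix (F := F) (V := V) h.pgrp ⊤ (fun _ _ _ _ => trivial)
        top_ne_bot
      exact ⟨v, hv, hv', by simp⟩
    | insert t T _ ih =>
      obtain ⟨m, hm0, hm, hT⟩ := ih
      choose! c hc using hT
      let E : Submodule F V :=
        { carrier := {v | Fix F U v ∧ ∀ t' ∈ T, sg F (t' : G) • v = c t' • v}
          add_mem' := fun {a b} ha hb => ⟨fun u hu => by rw [smul_add, ha.1 u hu, hb.1 u hu],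
            fun t' ht' => by rw [smul_add, ha.2 t' ht', hb.2 t' ht', smul_add]⟩
          zero_mem' := ⟨fun u _ => smul_zero _, fun t' _ => by simp⟩
          smul_mem' := fun a v hv => ⟨fun u hu => by rw [smul_comm, hv.1 u hu],
            fun t' ht' => by rw [smul_comm, hv.2 t' ht', smul_comm]⟩ }
      have hE : ∀ v ∈ E, modRep G F V t v ∈ E := fun v hv => ⟨fun u hu => by
          rw [modRep_apply, ← sg_mul_smul, show u * t = t * ((t : G)⁻¹ * u * t) by group,
            hv.1.mul_smul _ (h.conj' t.2.1 hu)], fun t' ht' => by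
          rw [modRep_apply, ← sg_mul_smul, h.comm _ t'.2 _ t.2, sg_mul_smul, hv.2 t' ht',
            smul_comm]⟩
      have : Nontrivial E := ⟨⟨⟨m, hm, hc⟩, 0, fun e => hm0 (congrArg Subtype.val e)⟩⟩
      obtain ⟨d, hd⟩ := Module.End.exists_eigenvalue ((modRep G F V t).restrict hE)
      obtain ⟨v, hv⟩ := hd.exists_hasEigenvector
      refine ⟨v, fun e => hv.2 (Subtype.ext e), v.2.1, fun t' ht' => ?_⟩
      rcases mem_insert.1 ht' with rfl | ht'
      · exact ⟨d, congrArg Subtype.val hv.apply_eq_smul⟩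
      · exact ⟨_, v.2.2 t' ht'⟩
  have := Fintype.ofFinite ↥(P.B ⊓ P.N)
  obtain ⟨m, hm0, hm, hT⟩ := key univ
  choose c hc using fun t => hT t (mem_univ t)
  let f : ↥(P.B ⊓ P.N) →* F :=
    { toFun := c
      map_one' := smul_left_injective F hm0 (by
        have := hc 1
        rw [Subgroup.coe_one, sg_one_smul] at this
        simpa using this.symm)
      map_mul' := fun a b => smul_left_injective F hm0 (by
        have := hc (a * b)
        rw [Subgroup.coe_mul, sg_mul_smul, hc b, smul_comm, hc a, smul_smul, mul_comm] at this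
        exact this.symm) }
  exact ⟨f.toHomUnits, m, hm0, h.wt_of_fix hm fun t ht => by rw [h.cb_H _ ht]; exact hc ⟨t, ht⟩⟩

/-- Every non-zero module contains a non-zero weight vector. -/
theorem exists_wv [Fact p.Prime] [CharP F p] [IsAlgClosed F] [FiniteDimensional F V]
    [Nontrivial V] : ∃ (χ : ↥(P.B ⊓ P.N) →* Fˣ) (μ : P.S → F) (m : V),
      m ≠ 0 ∧ WV U Set.univ χ μ m := by
  classical
  obtain ⟨χ, m, hm0, hm⟩ := h.exists_wt (F := F) (V := V)
  obtain ⟨n, ⟨hn, hn0⟩, hmax⟩ := Set.exists_max_image {n | n ∈ P.N ∧ tt F U n • m ≠ 0}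
    (fun n => len (sim P) (wOf P n)) (Set.toFinite _)
    ⟨1, P.N.one_mem, by rwa [h.tt_one (h.fix_of_wt hm)]⟩
  refine ⟨cw n hn χ, fun s => if len (sim P) (sim P s * wOf P n) < len (sim P) (wOf P n) then
    cs U s (cw _ (P.N.mul_mem (inv_mem (S_mem_N s)) hn) χ) else 0, tt F U n • m, hn0,
    h.wt_tt hm hn, fun s _ => ?_⟩
  beta_reduce
  split_ifs with hlt
  · exact h.tt_S_tt_of_lt hm s hn hlt
  · have hlt' : len (sim P) (wOf P n) < len (sim P) (sim P s * wOf P n) := by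
      rcases (bn_exch P).len_s_mul_ne s (wOf P n) with h1 | h1 <;> omega
    rw [h.tt_S_tt hm s hn hlt', zero_smul]
    by_contra hc
    have := hmax _ ⟨P.N.mul_mem (S_mem_N s) hn, hc⟩
    rw [wOf_mul_N (S_mem_N s) hn, wOf_S] at this
    omega

theorem smul_mem_Sp_of_wOf {χ : ↥(P.B ⊓ P.N) →* Fˣ} {m : V} (hm : Wt U χ m) {n g : G}
    (hn : n ∈ P.N) (hg : wOf P g = wOf P n) : sg F g • m ∈ Sp F U (sg F n • m) := by
  obtain ⟨u, hu, b, hb, rfl⟩ := h.exists_eq_of_wOf hn hg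
  rw [sg_mul_smul, hm b hb, smul_comm, sg_mul_smul]
  exact Submodule.smul_mem _ _ (smul_mem_Sp _ hu)

theorem smul_mem_Sp_step {χ : ↥(P.B ⊓ P.N) →* Fˣ} {m : V} (hm : Wt U χ m) {s : P.S} {μ : F}
    (hs : tt F U (s : G) • m = μ • m) {n : G} (hn : n ∈ P.N)
    (hlt : len (sim P) (wOf P n) < len (sim P) (wOf P n * sim P s)) :
    sg F n • m ∈ Sp F U (sg F (n * s) • m) := by
  classical
  have hN := P.N.mul_mem hn (S_mem_N s)
  have key : ∀ x, wOf P x = sim P s → sg F n • sg F x • m ∈ Sp F U (sg F (n * s) • m) := by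
    intro x hx
    rw [← sg_mul_smul]
    exact h.smul_mem_Sp_of_wOf hm hN
      (by rw [wOf_step_of_lt_right hx hlt, wOf_mul_N hn (S_mem_N s), wOf_S])
  by_cases hμ : μ = 0
  · rw [hμ, zero_smul, tt, sum_smul, ← add_sum_erase _ _ (self_mem_cell U (s : G)),
      (h.fix_of_wt hm).out_smul] at hs
    have h1 := congrArg (fun v => sg F n • sg F (s : G) • v) hs
    simp only [smul_add, smul_sum, smul_zero] at h1
    rw [← sg_mul_smul (s : G), hm _ (sq_mem_H s).1, smul_comm] at h1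
    rw [← Submodule.smul_mem_iff _ (h.cb_ne_zero χ (sq_mem_H s).1), eq_neg_of_add_eq_zero_left h1]
    refine neg_mem (Submodule.sum_mem _ fun c hc => ?_)
    rw [← sg_mul_smul (s : G)]
    obtain ⟨hne, hc⟩ := mem_erase.1 hc
    refine key _ ?_
    rcases wOf_step (wOf_S s) c.out with h2 | h2
    · rw [h.wOf_out hc, wOf_S, sim_sq, wOf_eq_one_iff] at h2
      refine absurd (h.eq_of_out_mem hc ?_) hne
      have := P.B.mul_mem (inv_mem h2) (sq_mem_H s).1
      convert this using 1; group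
    · rw [h2, h.wOf_out hc, wOf_S]
  · rw [← Submodule.smul_mem_iff _ hμ, ← smul_comm, ← hs, tt, sum_smul, smul_sum]
    exact Submodule.sum_mem _ fun c hc => key _ ((h.wOf_out hc).trans (wOf_S s))

/-- The module generated by a weight vector `m` is spanned by the `U`-orbit of `n₀ m`. -/
theorem sg_smul_mem_Sp {J : Set P.S} {χ : ↥(P.B ⊓ P.N) →* Fˣ} {μ : P.S → F} {m : V}
    (hm : WV U J χ μ m) {n₀ : G} (hn₀ : n₀ ∈ P.N) (h₀ : IsLongest (sim P) J (wOf P n₀)) {g : G}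
    (hg : wOf P g ∈ WJ (sim P) J) : sg F g • m ∈ Sp F U (sg F n₀ • m) := by
  have E := bn_exch P
  have key : ∀ k, ∀ n ∈ P.N, wOf P n ∈ WJ (sim P) J →
      len (sim P) (wOf P n₀) - len (sim P) (wOf P n) = k → sg F n • m ∈ Sp F U (sg F n₀ • m) := by
    intro k
    induction k using Nat.strong_induction_on with
    | _ k ih =>
      intro n hn hJ hk
      by_cases hd : ∀ j ∈ J, len (sim P) (wOf P n * sim P j) < len (sim P) (wOf P n)
      · exact h.smul_mem_Sp_of_wOf hm.1 hn₀ (E.isLongest_unique (E.isLongest_of_right hJ hd) h₀)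
      · push Not at hd
        obtain ⟨j, hj, hd⟩ := hd
        have hlt : len (sim P) (wOf P n) < len (sim P) (wOf P n * sim P j) := by
          rcases E.len_mul_s_ne (wOf P n) j with h1 | h1 <;> omega
        have e : wOf P (n * j) = wOf P n * sim P j := by rw [wOf_mul_N hn (S_mem_N j), wOf_S]
        have hJ' : wOf P (n * j) ∈ WJ (sim P) J := e ▸ Subgroup.mul_mem _ hJ (s_mem_WJ _ hj)
        have h2 := E.len_add_of_descents h₀.2 hJ'
        refine Sp_le (ih _ ?_ _ (P.N.mul_mem hn (S_mem_N j)) hJ' rfl)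
          (h.smul_mem_Sp_step hm.1 (hm.2 j hj) hn hlt)
        rw [e] at h2 ⊢
        omega
  obtain ⟨n, hn, e⟩ := exists_N_wOf (wOf P g)
  exact Sp_le (key _ n hn (e ▸ hg) rfl) (h.smul_mem_Sp_of_wOf hm.1 hn e.symm)

theorem smul_mem_Sp_n₀ {χ : ↥(P.B ⊓ P.N) →* Fˣ} {μ : P.S → F} {m : V}
    (hm : WV U Set.univ χ μ m) {n₀ : G} (hn₀ : n₀ ∈ P.N)
    (h₀ : IsLongest (sim P) Set.univ (wOf P n₀)) (a : F[G]) : a • m ∈ Sp F U (sg F n₀ • m) := by
  have := Fintype.ofFinite G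
  rw [smul_eq_sum (F := F) a]
  exact Submodule.sum_mem _ fun g _ =>
    Submodule.smul_mem _ _ (h.sg_smul_mem_Sp hm hn₀ h₀ (mem_WJ_univ _))

omit h in
theorem _root_.H2.exists_longest (J : Set P.S) :
    ∃ n₀ ∈ P.N, IsLongest (sim P) J (wOf P n₀) := by
  obtain ⟨w, hw⟩ := (bn_exch P).exists_isLongest J
  obtain ⟨n, hn, rfl⟩ := exists_N_wOf w
  exact ⟨n, hn, hw⟩

variable [Fact p.Prime] [CharP F p]

theorem apply_ne_zero [IsSimpleModule F[G] V] {χ : ↥(P.B ⊓ P.N) →* Fˣ} {μ : P.S → F} {m : V}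
    (hm0 : m ≠ 0) (hm : WV U Set.univ χ μ m) {n₀ : G} (hn₀ : n₀ ∈ P.N)
    (h₀ : IsLongest (sim P) Set.univ (wOf P n₀)) {ε : V →ₗ[F] F} (hε0 : ε ≠ 0)
    (hε : ∀ u ∈ U, ∀ v, ε (sg F u • v) = ε v) : ε (sg F n₀ • m) ≠ 0 := fun hc => hε0 <| by
  ext v
  obtain ⟨a, rfl⟩ := IsSimpleModule.toSpanSingleton_surjective F[G] hm0 v
  exact apply_eq_zero_of_mem_Sp hε hc (h.smul_mem_Sp_n₀ hm hn₀ h₀ a)

theorem smul_eq_zero_of_wv {V' : Type*} [AddCommGroup V'] [Module F V'] [Module F[G] V']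
    [IsScalarTower F F[G] V'] [IsSimpleModule F[G] V] [IsSimpleModule F[G] V']
    {χ : ↥(P.B ⊓ P.N) →* Fˣ} {μ : P.S → F} {m : V} {m' : V'} (hm0 : m ≠ 0)
    (hm : WV U Set.univ χ μ m) (hm0' : m' ≠ 0) (hm' : WV U Set.univ χ μ m') {a : F[G]}
    (ha : a • m' = 0) : a • m = 0 := by
  by_contra hc
  obtain ⟨n₀, hn₀, h₀⟩ := exists_longest (P := P) Set.univ
  have := IsSimpleModule.nontrivial F[G] V
  have := IsSimpleModule.nontrivial F[G] V'
  obtain ⟨ε, hε0, hε⟩ := exists_inv_functional (F := F) (V := V) h.pgrp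
  obtain ⟨ε', hε0', hε'⟩ := exists_inv_functional (F := F) (V := V') h.pgrp
  have h1 := h.apply_ne_zero hm0 hm hn₀ h₀ hε0 hε
  have h2 := h.apply_ne_zero hm0' hm' hn₀ h₀ hε0' hε'
  obtain ⟨b, hb⟩ := IsSimpleModule.toSpanSingleton_surjective F[G] hc (sg F n₀ • m)
  have hmm : WV U Set.univ χ μ (m, m') :=
    ⟨fun b hb => Prod.ext (hm.1 b hb) (hm'.1 b hb), fun s hs => Prod.ext (hm.2 s hs) (hm'.2 s hs)⟩
  have h3 := apply_eq_zero_of_mem_Sp (ε := ε' (sg F n₀ • m') • ε ∘ₗ LinearMap.fst F V V' -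
      ε (sg F n₀ • m) • ε' ∘ₗ LinearMap.snd F V V') (fun u hu v => by simp [hε u hu, hε' u hu])
    (by simp [mul_comm]) (h.smul_mem_Sp_n₀ hmm hn₀ h₀ (b * a))
  rw [LinearMap.toSpanSingleton_apply] at hb
  simp [mul_smul, hb, ha, h1, h2] at h3

/-- Simple modules with the same weight are isomorphic. -/
theorem nonempty_equiv_of_wv {V' : Type*} [AddCommGroup V'] [Module F V'] [Module F[G] V']
    [IsScalarTower F F[G] V'] [IsSimpleModule F[G] V] [IsSimpleModule F[G] V']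
    {χ : ↥(P.B ⊓ P.N) →* Fˣ} {μ : P.S → F} {m : V} {m' : V'} (hm0 : m ≠ 0)
    (hm : WV U Set.univ χ μ m) (hm0' : m' ≠ 0) (hm' : WV U Set.univ χ μ m') :
    Nonempty (V ≃ₗ[F[G]] V') := by
  refine ⟨((LinearMap.quotKerEquivOfSurjective _
    (IsSimpleModule.toSpanSingleton_surjective F[G] hm0)).symm.trans
    (Submodule.quotEquivOfEq _ _ ?_)).trans (LinearMap.quotKerEquivOfSurjective _
    (IsSimpleModule.toSpanSingleton_surjective F[G] hm0'))⟩
  ext a
  simp only [LinearMap.mem_ker, LinearMap.toSpanSingleton_apply]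
  exact ⟨h.smul_eq_zero_of_wv hm0' hm' hm0 hm, h.smul_eq_zero_of_wv hm0 hm hm0' hm'⟩

/-- The `U`-fixed vectors of a simple module form a line. -/
theorem exists_eq_smul_of_fix [IsAlgClosed F] [FiniteDimensional F V] [IsSimpleModule F[G] V]
    {m v : V} (hm0 : m ≠ 0) (hm : Fix F U m) (hv : Fix F U v) : ∃ c : F, v = c • m := by
  have := IsSimpleModule.nontrivial F[G] V
  let e := (modRep G F V).dual.asModuleEquiv
  have : Nontrivial (modRep G F V).dual.asModule := e.toEquiv.nontrivial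
  obtain ⟨χ, μ, f, hf0, hf⟩ := h.exists_wv (F := F) (V := (modRep G F V).dual.asModule)
  obtain ⟨n₀, hn₀, h₀⟩ := exists_longest (P := P) Set.univ
  have key : ∀ x : V, Fix F U x → e (sg F n₀ • f) x = 0 → x = 0 := by
    intro x hx hx0
    by_contra hc
    apply hf0
    apply e.injective
    ext y
    obtain ⟨a, rfl⟩ := IsSimpleModule.toSpanSingleton_surjective F[G] hc y
    have := Fintype.ofFinite G
    rw [LinearMap.toSpanSingleton_apply, smul_eq_sum, map_sum, map_zero, LinearMap.zero_apply]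
    refine sum_eq_zero fun g _ => ?_
    rw [map_smul, ← inv_inv g, ← dual_sg_smul]
    have h1 := apply_eq_zero_of_mem_Sp (ε := Module.Dual.eval F V x ∘ₗ e.toLinearMap)
      (fun u hu φ => by
        change e (sg F u • φ) x = e φ x
        rw [dual_sg_smul, hx _ (inv_mem hu)]) hx0 (h.smul_mem_Sp_n₀ hf hn₀ h₀ (sg F g⁻¹))
    exact smul_eq_zero_of_right _ h1
  have h1 : e (sg F n₀ • f) m ≠ 0 := fun hc => hm0 (key m hm hc)
  refine ⟨e (sg F n₀ • f) v / e (sg F n₀ • f) m, sub_eq_zero.1 (key _ (hv.sub fun u hu => ?_) ?_)⟩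
  · rw [smul_comm, hm u hu]
  · rw [map_sub, map_smul (e (sg F n₀ • f)), smul_eq_mul, div_mul_cancel₀ _ h1, sub_self]

end SBN

end H2
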