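/- Split BN-pairs: the rank one constants `cs` and the existence of weight vectors. -/
import Cfsg.Agent.H2.CRWt

set_option autoImplicit false
set_option linter.unusedSectionVars false

namespace H2

open Cfsg H67 Finset MonoidAlgebra
open scoped MonoidAlgebra

variable {G : Type*} [Group G] {F : Type*} [Field F] [Finite G] {P : BNPair G}
variable {V : Type*} [AddCommGroup V] [Module F V] [Module F[G] V] [IsScalarTower F F[G] V]

theorem cw_cw {n n' : G} (hn : n ∈ P.N) (hn' : n' ∈ P.N) (χ : ↥(P.B ⊓ P.N) →* Fˣ) :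
    cw n hn (cw n' hn' χ) = cw (n * n') (P.N.mul_mem hn hn') χ := by
  ext t
  change ((χ _ : Fˣ) : F) = χ _
  congr 2
  ext
  simp [mul_assoc]

theorem cw_congr {n n' : G} (hn : n ∈ P.N) (e : n = n') (χ : ↥(P.B ⊓ P.N) →* Fˣ) :
    cw n hn χ = cw n' (e ▸ hn) χ := by subst e; rfl

theorem Wt.smul {U : Subgroup G} {χ : ↥(P.B ⊓ P.N) →* Fˣ} {m : V} (hm : Wt U χ m) (c : F) :
    Wt U χ (c • m) := fun b hb => by rw [smul_comm, hm b hb, smul_comm]

theorem Wt.sub {U : Subgroup G} {χ : ↥(P.B ⊓ P.N) →* Fˣ} {m m' : V} (hm : Wt U χ m)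
    (hm' : Wt U χ m') : Wt U χ (m - m') := fun b hb => by
  rw [smul_sub, hm b hb, hm' b hb, smul_sub]

theorem Wt.sum {U : Subgroup G} {χ : ↥(P.B ⊓ P.N) →* Fˣ} {ι : Type*} (s : Finset ι) {f : ι → V}
    (hf : ∀ i ∈ s, Wt U χ (f i)) : Wt U χ (∑ i ∈ s, f i) := fun b hb => by
  rw [smul_sum, smul_sum]
  exact sum_congr rfl fun i hi => hf i hi b hb

namespace SBN

variable {p : ℕ} {U : Subgroup G} (h : SBN P p U)
include h

theorem cw_H {t : G} (ht : t ∈ P.B ⊓ P.N) (χ : ↥(P.B ⊓ P.N) →* Fˣ) : cw t ht.2 χ = χ := by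
  ext x
  change ((χ _ : Fˣ) : F) = χ _
  congr 2
  ext
  change t⁻¹ * x * t = x
  rw [mul_assoc, h.comm _ x.2 _ ht, inv_mul_cancel_left]

theorem wt_unique {χ χ' : ↥(P.B ⊓ P.N) →* Fˣ} {m : V} (hm0 : m ≠ 0) (hm : Wt U χ m)
    (hm' : Wt U χ' m) : χ = χ' := by
  ext t
  rw [← h.cb_H χ t.2, ← h.cb_H χ' t.2]
  exact smul_left_injective F hm0 ((hm t t.2.1).symm.trans (hm' t t.2.1))

theorem tt_vv_ne_zero (χ : ↥(P.B ⊓ P.N) →* Fˣ) (g : G) : tt F U g * vv U χ ≠ 0 := fun hc => by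
  simpa [hc] using h.coeff_tt_vv_self χ g

variable [Fact p.Prime] [CharP F p]

theorem cw_eq_of_cs_ne_zero {χ : ↥(P.B ⊓ P.N) →* Fˣ} {s : P.S} (hc : cs U (s : G) χ ≠ 0) :
    cw (s : G) (S_mem_N s) χ = χ := by
  have h1 := h.wt_tt (h.wt_vv χ) (S_mem_N s)
  have h2 := h.wt_tt h1 (S_mem_N s)
  rw [h.tt_S_sq (h.wt_vv χ), cw_cw, h.cw_H (sq_mem_H s)] at h2
  exact h.wt_unique (smul_ne_zero hc (h.tt_vv_ne_zero χ s)) (h1.smul _) h2

theorem cw_inv_eq {χ : ↥(P.B ⊓ P.N) →* Fˣ} {n : G} {hn : n ∈ P.N} (e : cw n hn χ = χ) :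
    cw n⁻¹ (inv_mem hn) χ = χ := by
  conv_lhs => rw [← e]
  rw [cw_cw, cw_congr _ (inv_mul_cancel n), h.cw_H (P.B ⊓ P.N).one_mem]

theorem cs_cw_inv (χ : ↥(P.B ⊓ P.N) →* Fˣ) (s : P.S) :
    cs U (s : G) (cw (s : G)⁻¹ (inv_mem (S_mem_N s)) χ) = cs U (s : G) χ := by
  by_cases h1 : cs U (s : G) χ = 0
  · by_contra h2
    have h3 := h.cw_eq_of_cs_ne_zero (h1 ▸ h2)
    rw [cw_cw, cw_congr _ (mul_inv_cancel (s : G)), h.cw_H (P.B ⊓ P.N).one_mem] at h3
    exact h2 (by rw [← h3])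
  · rw [h.cw_inv_eq (h.cw_eq_of_cs_ne_zero h1)]

theorem exists_S_smul_vv {χ : ↥(P.B ⊓ P.N) →* Fˣ} {s : P.S} (hc : cs U (s : G) χ ≠ 0) :
    cs U (s : G) χ ^ 2 = cb U χ ((s : G) * s) ∧
      ((sg F (s : G) + cs U (s : G) χ • 1) * (tt F U s - cs U (s : G) χ • 1)) * vv U χ = 0 := by
  set c := cs U (s : G) χ with hcdef
  have hTv : Wt U χ (tt F U s * vv U χ) := by
    have := h.wt_tt (h.wt_vv χ) (S_mem_N s)
    rwa [h.cw_eq_of_cs_ne_zero hc] at this
  have hTT : tt F U s * (tt F U s * vv U χ) = c • (tt F U s * vv U χ) := h.tt_S_sq (h.wt_vv χ) s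
  let W : Submodule F F[G] :=
    { carrier := {w | (∃ a, w = a * vv U χ ∧ a * (tt F U s * vv U χ) = 0) ∧
        ∀ x, w.coeff x ≠ 0 → wOf P x = sim P s}
      add_mem' := by
        rintro _ _ ⟨⟨a, rfl, ha⟩, ha'⟩ ⟨⟨b, rfl, hb⟩, hb'⟩
        refine ⟨⟨a + b, by rw [add_mul], by rw [add_mul, ha, hb, add_zero]⟩, fun x hx => ?_⟩
        by_contra hc
        rw [coeff_add, Finsupp.add_apply, of_not_not (mt (ha' x) hc),
          of_not_not (mt (hb' x) hc), add_zero] at hx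
        exact hx rfl
      zero_mem' := ⟨⟨0, by simp, by simp⟩, by simp⟩
      smul_mem' := by
        rintro r _ ⟨⟨a, rfl, ha⟩, ha'⟩
        refine ⟨⟨r • a, by rw [smul_mul_assoc], by rw [smul_mul_assoc, ha, smul_zero]⟩,
          fun x hx => ha' x fun h0 => hx ?_⟩
        rw [coeff_smul_apply, h0, smul_zero] }
  have hW : W = ⊥ := by
    by_contra hW
    obtain ⟨_, ⟨⟨a, rfl, ha⟩, ha'⟩, hw0, hw⟩ := exists_fix h.pgrp W (by
      rintro u hu _ ⟨⟨a, rfl, ha⟩, ha'⟩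
      refine ⟨⟨sg F u * a, by rw [mul_assoc, smul_eq_mul], by rw [mul_assoc, ha, mul_zero]⟩,
        fun x hx => ?_⟩
      rw [smul_eq_mul, coeff_sg_mul] at hx
      rw [← ha' _ hx, wOf_mul_left (inv_mem (h.le hu))]) hW
    have h1 := h.eq_smul_tt_vv hw (S_mem_N s) fun x hx => by rw [ha' x hx, wOf_S]
    have h2 := h.smul_eq_smul hTv h1
    rw [smul_eq_mul, smul_eq_mul, ha, hTT, smul_smul, eq_comm, _root_.smul_eq_zero,
      mul_eq_zero] at h2
    rcases h2 with (h2 | h2) | h2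
    · exact hw0 (by rw [h1, h2, zero_smul])
    · exact hc h2
    · exact h.tt_vv_ne_zero χ s h2
  set v := (tt F U s - c • 1) * vv U χ with hv
  have hv' : v = tt F U s * vv U χ - c • vv U χ := by rw [hv, sub_mul, smul_mul_assoc, one_mul]
  have hT0 : ∀ x, wOf P x ≠ sim P s → (tt F U s * vv U χ).coeff x = 0 := fun x hx =>
    of_not_not fun h0 => hx ((h.wOf_of_coeff_tt_vv h0).trans (wOf_S s))
  have hv1 : v.coeff 1 = -c := by
    rw [hv', coeff_sub, Finsupp.sub_apply, hT0 1 (by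
      rw [wOf_eq_one_iff.2 P.B.one_mem]; exact (sim_ne_one P s).symm), coeff_smul_apply, coeff_vv,
      inv_one, h.cb_U χ U.one_mem]
    simp
  have hv2 : v.coeff (s : G)⁻¹ = cb U χ ((s : G) * s) := by
    rw [hv', coeff_sub, Finsupp.sub_apply, coeff_smul_apply, coeff_vv, inv_inv,
      h.cb_of_not_mem χ (not_mem_B P s.2), smul_zero, sub_zero,
      show (s : G)⁻¹ = 1 * s * ((s : G) * s)⁻¹ by group,
      h.coeff_tt_vv χ _ U.one_mem (inv_mem (sq_mem_H s).1), inv_inv]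
  have hsupp : ∀ x, x ∉ P.B → wOf P x ≠ sim P s → v.coeff x = 0 := fun x hx hx' => by
    rw [hv', coeff_sub, Finsupp.sub_apply, hT0 x hx', coeff_smul_apply, coeff_vv,
      h.cb_of_not_mem χ (fun h0 => hx (inv_mem_iff.1 h0)), smul_zero, sub_zero]
  have hmem : ∀ d : F, d * c = cb U χ ((s : G) * s) → (sg F (s : G) + d • 1) * v = 0 := by
    intro d hd
    rw [← Submodule.mem_bot F, ← hW]
    refine ⟨⟨(sg F (s : G) + d • 1) * (tt F U s - c • 1), by rw [hv, mul_assoc], by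
      rw [mul_assoc, sub_mul, hTT, smul_mul_assoc, one_mul, sub_self, mul_zero]⟩, fun x hx => ?_⟩
    by_contra hx'
    by_cases hB : x ∈ P.B
    · rw [hv, ← mul_assoc, ← one_mul x, h.coeff_mul_vv χ _ _ hB, mul_assoc, ← hv, add_mul,
        coeff_add, Finsupp.add_apply, coeff_sg_mul, mul_one, hv2, smul_mul_assoc, one_mul,
        coeff_smul_apply, hv1, ← hd] at hx
      simp at hx
    · rw [add_mul, coeff_add, Finsupp.add_apply, coeff_sg_mul, smul_mul_assoc, one_mul,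
        coeff_smul_apply, hsupp x hB hx', smul_zero, add_zero] at hx
      refine hx (hsupp _ (fun h0 => hx' ?_) fun h0 => ?_)
      · rw [← mul_inv_cancel_left (s : G) x, wOf_mul_right _ h0, wOf_S]
      · rcases wOf_step (wOf_S s) ((s : G)⁻¹ * x) with h1 | h1
        · rw [mul_inv_cancel_left, h0, sim_sq, wOf_eq_one_iff] at h1
          exact hB h1
        · rw [mul_inv_cancel_left, h0] at h1
          exact hx' h1
  obtain ⟨d, hd⟩ : ∃ d, d * c = cb U χ ((s : G) * s) := ⟨_, div_mul_cancel₀ _ hc⟩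
  have h1 := hmem d hd
  rw [add_mul, smul_mul_assoc, one_mul, add_eq_zero_iff_eq_neg] at h1
  have hv0 : v ≠ 0 := fun h0 => hc (by simpa [h0] using hv1)
  have hvw : Wt U χ v := hv' ▸ hTv.sub ((h.wt_vv χ).smul c)
  have h2 := hvw _ (sq_mem_H s).1
  rw [sg_mul_smul, smul_eq_mul, smul_eq_mul, h1, mul_neg, mul_smul_comm, h1, smul_neg, neg_neg,
    smul_smul, ← hd] at h2
  have h3 := smul_left_injective F hv0 h2
  have hd0 : d ≠ 0 := fun h0 => h.cb_ne_zero χ (sq_mem_H s).1 (by rw [← hd, h0, zero_mul])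
  have h4 : d = c := mul_left_cancel₀ hd0 h3
  subst h4
  exact ⟨by rw [sq, hd], by rw [mul_assoc]; exact hmem _ hd⟩

theorem cs_sq {χ : ↥(P.B ⊓ P.N) →* Fˣ} {s : P.S} (hc : cs U (s : G) χ ≠ 0) :
    cs U (s : G) χ ^ 2 = cb U χ ((s : G) * s) := (h.exists_S_smul_vv hc).1

/-- If `T_s m = 0` although `cs ≠ 0`, the line through `m` is `s`-invariant. -/
theorem S_smul_eq {χ : ↥(P.B ⊓ P.N) →* Fˣ} {s : P.S} (hc : cs U (s : G) χ ≠ 0) {m : V}
    (hm : Wt U χ m) (h0 : tt F U (s : G) • m = 0) : sg F (s : G) • m = -cs U (s : G) χ • m := by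
  have h1 := h.smul_eq_zero hm (h.exists_S_smul_vv hc).2
  rw [mul_smul, sub_smul, h0, smul_one_smul, zero_sub, smul_neg, neg_eq_zero, smul_comm,
    _root_.smul_eq_zero, add_smul, smul_one_smul, add_eq_zero_iff_eq_neg] at h1
  rw [h1.resolve_left hc, neg_smul]

/-- If `cs ≠ 0`, then `χ` is trivial on `B ⊓ ⟨U, s⁻¹ U s⟩`. -/
theorem cb_eq_one_of_cs_ne_zero {χ : ↥(P.B ⊓ P.N) →* Fˣ} {s : P.S} (hc : cs U (s : G) χ ≠ 0)
    {b : G} (hb : b ∈ P.B) (hb' : b ∈ U ⊔ U.map (MulAut.conj (s : G)).toMonoidHom) :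
    cb U χ b = 1 := by
  have hTv : Wt U χ (tt F U s • vv U χ) := by
    have := h.wt_tt (h.wt_vv χ) (S_mem_N s)
    rwa [h.cw_eq_of_cs_ne_zero hc] at this
  have hv := hTv.sub ((h.wt_vv χ).smul (cs U (s : G) χ))
  set v := tt F U s • vv U χ - cs U (s : G) χ • vv U χ with hvdef
  have h1 := h.S_smul_eq hc hv (by rw [hvdef, smul_sub, h.tt_S_sq (h.wt_vv χ), smul_comm, sub_self])
  have hv0 : v ≠ 0 := fun h0 => by
    have := congrArg (fun f : F[G] => f.coeff s) h0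
    simp only [hvdef, coeff_sub, Finsupp.sub_apply, smul_eq_mul, h.coeff_tt_vv_self,
      coeff_smul_apply, coeff_vv] at this
    rw [h.cb_of_not_mem χ (fun h0 => not_mem_B P s.2 (inv_mem_iff.1 h0))] at this
    simp at this
  let K : Subgroup G :=
    { carrier := {g | sg F g • v = v}
      mul_mem' := fun {a b} ha hb => by
        change sg F (a * b) • v = v
        rw [sg_mul_smul, hb, ha]
      one_mem' := sg_one_smul v
      inv_mem' := fun {a} ha => by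
        change sg F a⁻¹ • v = v
        conv_lhs => rw [← ha]
        rw [← sg_mul_smul, inv_mul_cancel, sg_one_smul] }
  have hK : U ⊔ U.map (MulAut.conj (s : G)).toMonoidHom ≤ K := by
    refine sup_le (h.fix_of_wt hv) ?_
    rintro _ ⟨u, hu, rfl⟩
    change sg F (s * u * (s : G)⁻¹) • v = v
    apply smul_right_injective _ (neg_ne_zero.2 hc)
    change -cs U (s : G) χ • _ = -cs U (s : G) χ • v
    rw [← smul_comm, ← h1, ← sg_mul_smul, inv_mul_cancel_right, (h.fix_of_wt hv).mul_smul _ hu]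
  exact smul_left_injective F hv0 ((hv b hb).symm.trans ((hK hb').trans (one_smul F v).symm))

theorem cs_eq_neg_one {χ : ↥(P.B ⊓ P.N) →* Fˣ} {s : P.S}
    (hs : ∀ u ∈ U, (s : G)⁻¹ * u * s ∉ P.B →
      ∃ u' ∈ U, ∃ b ∈ P.B, (s : G)⁻¹ * u * s = u' * s * b ∧ cb U χ b = 1) :
    cs U (s : G) χ = -1 := by
  classical
  rw [cs, mul_assoc, coeff_tt_mul, ← add_sum_erase _ _ (self_mem_cell U (s : G)),
    sum_congr rfl (g := fun _ => 1), sum_const, card_erase_of_mem (self_mem_cell U _),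
    nsmul_eq_mul, Nat.cast_pred (card_pos.2 ⟨_, self_mem_cell U _⟩), h.card_cell_S]
  · rw [of_not_not (mt h.wOf_of_coeff_tt_vv ?_)]
    · simp
    rw [wOf_eq_one_iff.2 (h.le (QuotientGroup.eq.1 (QuotientGroup.out_eq' _))), wOf_S]
    exact (sim_ne_one P s).symm
  · intro c hc
    obtain ⟨hne, hc⟩ := mem_erase.1 hc
    obtain ⟨u, hu, u', hu', e, -⟩ := out_of_mem_cell hc
    have h3 : c.out⁻¹ * s = u'⁻¹ * ((s : G)⁻¹ * u⁻¹ * s) := by rw [e]; group
    obtain ⟨x, hx, b, hb, e', hb'⟩ := hs _ (inv_mem hu) fun h4 =>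
      hne (h.eq_of_out_mem hc (h3 ▸ P.B.mul_mem (inv_mem (h.le hu')) h4))
    rw [h3, e', ← mul_assoc, ← mul_assoc, h.coeff_tt_vv χ _ (U.mul_mem (inv_mem hu') hx) hb]
    have := h.cb_inv_mul χ hb
    rwa [hb', mul_one] at this

theorem cw_eq_of_mem_WJ {χ : ↥(P.B ⊓ P.N) →* Fˣ} {J : Set P.S}
    (hJ : ∀ j ∈ J, cs U (j : G) χ ≠ 0) {n : G} (hn : n ∈ P.N) (hn' : wOf P n ∈ WJ (sim P) J) :
    cw n hn χ = χ := by
  refine N_induction (Q := fun n => ∀ hn : n ∈ P.N, cw n hn χ = χ)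
    (fun t ht _ => h.cw_H ht χ) (fun s hs n hn _ _ ih _ => ?_) hn hn' hn
  rw [← cw_cw (S_mem_N s) hn, ih, h.cw_eq_of_cs_ne_zero (hJ s hs)]

theorem mu_eq_cs {χ : ↥(P.B ⊓ P.N) →* Fˣ} {m : V} (hm0 : m ≠ 0) (hm : Wt U χ m) {s : P.S} {μ : F}
    (hs : tt F U (s : G) • m = μ • m) (hμ : μ ≠ 0) : μ = cs U (s : G) χ := by
  have h1 := h.tt_S_sq hm s
  rw [hs, smul_comm, hs] at h1
  exact smul_left_injective F (smul_ne_zero hμ hm0) h1

/-- Existence of weight vectors for all admissible pairs. -/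
theorem exists_wv_of_adm (χ : ↥(P.B ⊓ P.N) →* Fˣ) (J : Set P.S) [DecidablePred (· ∈ J)]
    (hJ : ∀ j ∈ J, cs U (j : G) χ ≠ 0) :
    ∃ m : F[G], m ≠ 0 ∧ WV U Set.univ χ (fun s => if s ∈ J then 0 else cs U (s : G) χ) m := by
  classical
  have E := bn_exch P
  have hJi : ∀ j ∈ J, ∀ n, n ∈ P.N → wOf P n ∈ WJ (sim P) J →
      wOf P ((j : G)⁻¹ * n) ∈ WJ (sim P) J := fun j hj n hn hn' => by
    rw [wOf_mul_N (inv_mem (S_mem_N j)) hn, wOf_inv_S]
    exact Subgroup.mul_mem _ (s_mem_WJ _ hj) hn'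
  obtain ⟨nJ, hnJ, hL⟩ := exists_longest J
  have hm₁ : WV U J χ (fun s => cs U (s : G) χ) (tt F U nJ • vv U χ) := by
    refine ⟨?_, fun j hj => ?_⟩
    · have := h.wt_tt (h.wt_vv χ) hnJ
      rwa [h.cw_eq_of_mem_WJ hJ hnJ hL.1] at this
    · rw [h.tt_S_tt_of_lt (h.wt_vv χ) j hnJ (hL.2 j hj),
        h.cw_eq_of_mem_WJ hJ _ (hJi j hj _ hnJ hL.1)]
  have hm₁0 : tt F U nJ • vv U χ ≠ 0 := h.tt_vv_ne_zero χ nJ
  set m₁ := tt F U nJ • vv U χ
  have hc : ∀ n, n ∈ P.N → wOf P n ∈ WJ (sim P) J → ∃ c : F, tt F U n • m₁ = c • m₁ ∧ c ≠ 0 :=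
    fun n hn hn' => by
      obtain ⟨c, h1, h2⟩ := h.exists_tt_eq hm₁ hn hn'
      exact ⟨c, h1, h2.2 (WJ_mono _ hJ hn')⟩
  choose! c hc hc0 using hc
  obtain ⟨n₀, hn₀, h₀⟩ := exists_longest (P := P) Set.univ
  set χ₀ := cw n₀⁻¹ (inv_mem hn₀) χ
  have hcw : ∀ n (hn : n ∈ P.N), cw (n * n₀) (P.N.mul_mem hn hn₀) χ₀ = cw n hn χ := fun n hn => by
    rw [cw_cw, cw_congr _ (mul_inv_cancel_right n n₀)]
  have hlen : ∀ w, len (sim P) w + len (sim P) (w * wOf P n₀) = len (sim P) (wOf P n₀) := fun w => by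
    have := E.len_add_of_descents h₀.2 (mem_WJ_univ w⁻¹)
    rwa [E.len_inv, inv_inv] at this
  have hwt : ∀ n, n ∈ P.N → wOf P n ∈ WJ (sim P) J → Wt U χ (tt F U (n * n₀) • vv U χ₀) :=
    fun n hn hn' => by
      have := h.wt_tt (h.wt_vv χ₀) (P.N.mul_mem hn hn₀)
      rwa [hcw n hn, h.cw_eq_of_mem_WJ hJ hn hn'] at this
  have hasc : ∀ (s : P.S) n, n ∈ P.N → wOf P n ∈ WJ (sim P) J →
      len (sim P) (wOf P n) < len (sim P) (sim P s * wOf P n) →
      tt F U (s : G) • tt F U (n * n₀) • vv U χ₀ = cs U (s : G) χ • tt F U (n * n₀) • vv U χ₀ := by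
    intro s n hn hn' hlt
    rw [h.tt_S_tt_of_lt (h.wt_vv χ₀) s (P.N.mul_mem hn hn₀) (by
      have h1 := hlen (wOf P n)
      have h2 := hlen (sim P s * wOf P n)
      rw [wOf_mul_N hn hn₀, ← mul_assoc]; omega),
      cw_congr _ (mul_assoc _ _ _).symm, hcw _ (P.N.mul_mem (inv_mem (S_mem_N s)) hn),
      ← cw_cw (inv_mem (S_mem_N s)) hn, h.cw_eq_of_mem_WJ hJ hn hn', h.cs_cw_inv]
  let f : G → F[G] := fun n => ((-1) ^ len (sim P) (wOf P n) * c n)⁻¹ • tt F U (n * n₀) • vv U χ₀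
  have hf : ∀ n n', n ∈ P.N → n' ∈ P.N → wOf P n ∈ WJ (sim P) J → wOf P n = wOf P n' →
      f n' = f n := by
    intro n n' hn hn' hW e
    have ht : n⁻¹ * n' ∈ P.B ⊓ P.N :=
      ⟨inv_mul_mem_B_of_wOf hn hn' e, P.N.mul_mem (inv_mem hn) hn'⟩
    have h1 := h.tt_mul_H hm₁.1 hn ht
    rw [mul_inv_cancel_left, hc n hn hW, hc n' hn' (e ▸ hW), smul_smul] at h1
    have h2 := smul_left_injective F hm₁0 h1
    have h3 := h.tt_mul_H (h.wt_vv χ₀) (P.N.mul_mem hn hn₀) (conj_H_mem' hn₀ ht)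
    rw [h.cb_cw _ _ (conj_H_mem' hn₀ ht), show n * n₀ * (n₀⁻¹ * (n⁻¹ * n') * n₀) = n' * n₀ by group,
      show n₀⁻¹⁻¹ * (n₀⁻¹ * (n⁻¹ * n') * n₀) * n₀⁻¹ = n⁻¹ * n' by group] at h3
    have h4 := h.cb_ne_zero χ ht.1
    simp only [f]
    rw [h3, smul_smul, h2, e]
    congr 1
    field_simp
  have hpair : ∀ j ∈ J, ∀ n, n ∈ P.N → wOf P n ∈ WJ (sim P) J →
      len (sim P) (wOf P n) < len (sim P) (sim P j * wOf P n) →
      tt F U (j : G) • f n + tt F U (j : G) • f (j * n) = 0 := by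
    intro j hj n hn hn' hlt
    have hN := P.N.mul_mem (S_mem_N j) hn
    have e : wOf P (j * n) = sim P j * wOf P n := by rw [wOf_mul_N (S_mem_N j) hn, wOf_S]
    have hW : wOf P (j * n) ∈ WJ (sim P) J := e ▸ Subgroup.mul_mem _ (s_mem_WJ _ hj) hn'
    have h1 := h.tt_S_tt hm₁.1 j hn hlt
    rw [hc n hn hn', hc _ hN hW, smul_comm, hm₁.2 j hj, smul_smul] at h1
    have h2 := smul_left_injective F hm₁0 h1
    have h3 : len (sim P) (wOf P (j * n)) = len (sim P) (wOf P n) + 1 := by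
      rw [e]; rcases E.len_s_mul_ne j (wOf P n) with h4 | h4 <;> omega
    have h4 := h.tt_S_tt (h.wt_vv χ₀) j (P.N.mul_mem hN hn₀) (by
      have h1 := hlen (wOf P n)
      have h2 := hlen (sim P j * wOf P n)
      rw [wOf_mul_N hN hn₀, e, mul_assoc, E.s_mul_s_mul, ← mul_assoc]; omega)
    rw [show j * (j * n * n₀) = ((j : G) * j) * (n * n₀) by group,
      ← h.sg_smul_tt (h.fix_of_wt (h.wt_vv χ₀)) (sq_mem_H j).1, hwt n hn hn' _ (sq_mem_H j).1,
      ← h.cs_sq (hJ j hj)] at h4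
    simp only [f]
    rw [smul_comm (tt F U (j : G)) (_ : F), smul_comm (tt F U (j : G)) (_ : F),
      hasc j n hn hn' hlt, h4, smul_smul, smul_smul,
      ← add_smul, h3, ← h2]
    have h5 := hc0 n hn hn'
    have h6 := hJ j hj
    convert zero_smul F _
    field_simp
    ring
  choose r hr hr' using exists_N_wOf (P := P)
  have : Fintype (Weyl P) := Fintype.ofFinite _
  refine ⟨∑ y with y ∈ WJ (sim P) J, f (r y), fun h0 => ?_,
    Wt.sum _ fun y hy => (hwt _ (hr y) (by rw [hr']; simpa using hy)).smul _, fun s _ => ?_⟩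
  · have h1 := congrArg (fun x : F[G] => x.coeff (r 1 * n₀)) h0
    simp only [coeff_sum, Finsupp.finsetSum_apply, f, coeff_smul_apply, smul_eq_mul] at h1
    rw [sum_eq_single 1, h.coeff_tt_vv_self] at h1
    · have := hc0 _ (hr 1) (by rw [hr']; exact Subgroup.one_mem _)
      simp [this] at h1
    · intro y _ hy
      rw [of_not_not (mt h.wOf_of_coeff_tt_vv ?_), mul_zero]
      rw [wOf_mul_N (hr 1) hn₀, wOf_mul_N (hr y) hn₀, hr', hr', mul_left_inj]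
      exact hy.symm
    · simp
  beta_reduce
  split_ifs with hs
  · rw [zero_smul, smul_sum]
    refine sum_involution (fun y _ => sim P s * y) (fun y hy => ?_)
      (fun y _ _ => sim_mul_ne s y) (fun y hy => ?_) fun y _ => E.s_mul_s_mul s y
    · have hy' : y ∈ WJ (sim P) J := by simpa using hy
      have hy'' : sim P s * y ∈ WJ (sim P) J := Subgroup.mul_mem _ (s_mem_WJ _ hs) hy'
      rcases E.len_s_mul_ne s y with h1 | h1
      · rw [← hpair s hs (r y) (hr y) (by rwa [hr']) (by rw [hr']; omega),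
          hf (r (sim P s * y)) (s * r y) (hr _) (P.N.mul_mem (S_mem_N s) (hr _)) (by rwa [hr'])
          (by rw [wOf_mul_N (S_mem_N s) (hr _), wOf_S, hr', hr'])]
      · rw [← hpair s hs (r (sim P s * y)) (hr _) (by rwa [hr'])
          (by rw [hr', E.s_mul_s_mul]; omega), add_comm,
          hf (r y) (s * r (sim P s * y)) (hr _) (P.N.mul_mem (S_mem_N s) (hr _)) (by rwa [hr'])
          (by rw [wOf_mul_N (S_mem_N s) (hr _), wOf_S, hr', hr', E.s_mul_s_mul])]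
    · have hy' : y ∈ WJ (sim P) J := by simpa using hy
      simpa using Subgroup.mul_mem _ (s_mem_WJ _ hs) hy'
  · rw [smul_sum, smul_sum]
    refine sum_congr rfl fun y hy => ?_
    have hy' : y ∈ WJ (sim P) J := by simpa using hy
    simp only [f]
    rw [smul_comm, hasc s _ (hr y) (by rwa [hr']) ?_, smul_comm]
    rw [hr']
    rcases E.len_s_mul_ne s y with h1 | h1
    · omega
    · exact absurd (E.mem_of_left_descent (sim_injective P) hy' (by omega)) hs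

end SBN

end H2
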