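/- Curtis-Richen: simple modules of a split BN-pair in the defining characteristic are classified
by admissible pairs; the number of `p`-regular classes. -/
import Cfsg.Agent.H2.CRExist
import Cfsg.Agent.H2.BrCount
import Mathlib.GroupTheory.FiniteAbelian.Duality
import Mathlib.RingTheory.RootsOfUnity.AlgebraicallyClosed
import Mathlib.FieldTheory.IsAlgClosed.AlgebraicClosure

set_option autoImplicit false
set_option linter.unusedSectionVars false

namespace H2

open Cfsg H67 Finset MonoidAlgebra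
open scoped MonoidAlgebra

variable {G : Type*} [Group G] {F : Type*} [Field F] [Finite G] {P : BNPair G}
variable {V : Type*} [AddCommGroup V] [Module F V] [Module F[G] V] [IsScalarTower F F[G] V]

theorem WV.map {V' : Type*} [AddCommGroup V'] [Module F V'] [Module F[G] V']
    [IsScalarTower F F[G] V'] {U : Subgroup G} {J : Set P.S} {χ : ↥(P.B ⊓ P.N) →* Fˣ}
    {μ : P.S → F} {m : V} (hm : WV U J χ μ m) (f : V →ₗ[F[G]] V') : WV U J χ μ (f m) :=
  ⟨fun b hb => by rw [← map_smul, hm.1 b hb, f.map_smul_of_tower],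
    fun s hs => by rw [← map_smul, hm.2 s hs, f.map_smul_of_tower]⟩

theorem isSimpleModule_quot {A : Type*} [Ring A] {I : Ideal A} (hI : I.IsMaximal) :
    IsSimpleModule A (A ⧸ I) :=
  isSimpleModule_iff_isCoatom.2 hI.out

theorem mk_one_ne_zero {A : Type*} [Ring A] {I : Ideal A} (hI : I.IsMaximal) :
    (Submodule.Quotient.mk 1 : A ⧸ I) ≠ 0 := by
  rw [Ne, Submodule.Quotient.mk_eq_zero]
  exact fun h => hI.ne_top ((Ideal.eq_top_iff_one I).2 h)

theorem WV.exists_maximal {U : Subgroup G} {J : Set P.S} {χ : ↥(P.B ⊓ P.N) →* Fˣ}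
    {μ : P.S → F} {m : V} (hm0 : m ≠ 0) (hm : WV U J χ μ m) :
    ∃ I : Ideal F[G], I.IsMaximal ∧ WV U J χ μ (Submodule.Quotient.mk 1 : F[G] ⧸ I) := by
  obtain ⟨I, hI, hle⟩ := Ideal.exists_le_maximal
    (LinearMap.ker (LinearMap.toSpanSingleton F[G] V m)) (fun h => hm0 (by
      have : (1 : F[G]) ∈ LinearMap.ker (LinearMap.toSpanSingleton F[G] V m) := by
        rw [h]; trivial
      simpa using this))
  have key : ∀ (a : F[G]) (c : F), a • m = c • m →
      a • (Submodule.Quotient.mk 1 : F[G] ⧸ I) = c • Submodule.Quotient.mk 1 := fun a c e => by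
    rw [← Submodule.Quotient.mk_smul, ← Submodule.Quotient.mk_smul, Submodule.Quotient.eq]
    refine hle ?_
    rw [LinearMap.mem_ker, LinearMap.toSpanSingleton_apply, sub_smul, smul_eq_mul, mul_one, e,
      smul_assoc, one_smul, sub_self]
  exact ⟨I, hI, fun b hb => key _ _ (hm.1 b hb), fun s hs => key _ _ (hm.2 s hs)⟩

variable (F P) in
/-- Admissible pairs `(χ, J)`. -/
abbrev Adm (U : Subgroup G) : Type _ :=
  {x : (↥(P.B ⊓ P.N) →* Fˣ) × Set P.S // ∀ j ∈ x.2, cs U (j : G) x.1 ≠ 0}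

namespace SBN

variable {p : ℕ} {U : Subgroup G} (h : SBN P p U) [Fact p.Prime] [CharP F p]
include h

/-- The weight of a weight vector of a simple module is unique. -/
theorem wv_unique [IsAlgClosed F] [FiniteDimensional F V] [IsSimpleModule F[G] V]
    {χ χ' : ↥(P.B ⊓ P.N) →* Fˣ} {μ μ' : P.S → F} {m m' : V} (hm0 : m ≠ 0)
    (hm : WV U Set.univ χ μ m) (hm0' : m' ≠ 0) (hm' : WV U Set.univ χ' μ' m') :
    χ = χ' ∧ μ = μ' := by
  obtain ⟨c, rfl⟩ := h.exists_eq_smul_of_fix hm0 (h.fix_of_wt hm.1) (h.fix_of_wt hm'.1)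
  refine ⟨h.wt_unique hm0' (hm.1.smul c) hm'.1, funext fun s => ?_⟩
  have h1 := hm'.2 s trivial
  rw [smul_comm, hm.2 s trivial, smul_comm] at h1
  exact smul_left_injective F hm0' h1

theorem card_pReg_eq_adm [IsAlgClosed F] :
    Nat.card {c : ConjClasses G // ∃ g, ConjClasses.mk g = c ∧ (orderOf g).Coprime p} =
      Nat.card (Adm F P U) := by
  classical
  have H : ∀ x : Adm F P U, ∃ I : Ideal F[G], I.IsMaximal ∧ WV U Set.univ x.1.1
      (fun s => if s ∈ x.1.2 then 0 else cs U (s : G) x.1.1)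
      (Submodule.Quotient.mk 1 : F[G] ⧸ I) := fun x => by
    obtain ⟨m, hm0, hm⟩ := h.exists_wv_of_adm x.1.1 x.1.2 x.2
    exact hm.exists_maximal hm0
  choose I hI hW using H
  have hs := fun x => isSimpleModule_quot (hI x)
  refine card_pReg_classes (F := F) (M := fun x => F[G] ⧸ I x) ?_ ?_
  · rintro x y ⟨e⟩
    obtain ⟨h1, h2⟩ := h.wv_unique (e.map_ne_zero_iff.2 (mk_one_ne_zero (hI x)))
      ((hW x).map e.toLinearMap) (mk_one_ne_zero (hI y)) (hW y)
    refine Subtype.ext (Prod.ext h1 (Set.ext fun s => ?_))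
    have h3 := congrFun h2 s
    simp only [← h1] at h3
    by_cases a : s ∈ x.1.2 <;> by_cases b : s ∈ y.1.2
    · exact iff_of_true a b
    · rw [if_pos a, if_neg b] at h3; exact absurd h3.symm (x.2 s a)
    · rw [if_neg a, if_pos b] at h3; exact absurd (h1 ▸ h3) (y.2 s b)
    · exact iff_of_false a b
  · intro K hK
    have := isSimpleModule_quot hK
    have := IsSimpleModule.nontrivial F[G] (F[G] ⧸ K)
    obtain ⟨χ, μ, m, hm0, hm⟩ := h.exists_wv (F := F) (V := F[G] ⧸ K)
    let x : Adm F P U := ⟨(χ, {s | cs U (s : G) χ ≠ 0 ∧ μ s = 0}), fun j hj => hj.1⟩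
    refine ⟨x, h.nonempty_equiv_of_wv hm0 ?_ (mk_one_ne_zero (hI x)) (hW x)⟩
    convert hm with s
    by_cases h0 : μ s = 0
    · by_cases h1 : cs U (s : G) χ = 0
      · simp [x, h0, h1]
      · simp [x, h0, h1]
    · rw [if_neg (fun h' => h0 h'.2)]
      exact (h.mu_eq_cs hm0 hm.1 (hm.2 s trivial) h0).symm

end SBN

theorem card_sub_prop {X : Type*} [Finite X] (x₀ : X) :
    Nat.card {y : X × Prop // y.2 → y.1 = x₀} = Nat.card X + 1 := by
  classical
  rw [← Finite.card_option]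
  refine Nat.card_congr (Equiv.ofBijective
    (fun y => if y.1.2 then none else some y.1.1) ⟨?_, ?_⟩)
  · rintro ⟨⟨a, b⟩, h⟩ ⟨⟨a', b'⟩, h'⟩ e
    by_cases hb : b <;> by_cases hb' : b' <;> simp only [hb, hb', if_true, if_false] at e
    · exact Subtype.ext (Prod.ext ((h hb).trans (h' hb').symm) (propext (iff_of_true hb hb')))
    · exact absurd e (by simp)
    · exact absurd e (by simp)
    · exact Subtype.ext (Prod.ext (Option.some.inj e) (propext (iff_of_false hb hb')))
  · rintro (_ | a)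
    · exact ⟨⟨(x₀, True), fun _ => rfl⟩, by simp⟩
    · exact ⟨⟨(a, False), False.elim⟩, by simp⟩

/-- If the torus is the direct product of the rank one tori, the admissible pairs number
`(|A| + 1) ^ rank`. -/
theorem card_adm {U : Subgroup G} {ι A : Type*} [Fintype ι] [DecidableEq ι] [CommGroup A]
    [Finite A] (σ : ι ≃ P.S) (e : (ι → A) ≃* ↥(P.B ⊓ P.N))
    (hc : ∀ (χ : ↥(P.B ⊓ P.N) →* Fˣ) i, cs U (σ i : G) χ ≠ 0 ↔
      ∀ a, χ (e (Pi.mulSingle i a)) = 1) :
    Nat.card (Adm F P U) = (Nat.card (A →* Fˣ) + 1) ^ Fintype.card ι := by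
  let E : (↥(P.B ⊓ P.N) →* Fˣ) ≃ (ι → (A →* Fˣ)) :=
    (e.symm.monoidHomCongrLeft.trans (Pi.monoidHomMulEquiv (fun _ : ι => A) Fˣ)).toEquiv
  have hE : ∀ χ i, E χ i = 1 ↔ ∀ a, χ (e (Pi.mulSingle i a)) = 1 := fun χ i =>
    MonoidHom.ext_iff
  rw [← card_sub_prop (1 : A →* Fˣ), ← Nat.card_eq_fintype_card, ← Nat.card_fun]
  refine Nat.card_congr
    { toFun := fun x i => ⟨(E x.1.1 i, σ i ∈ x.1.2), fun hi => (hE _ _).2 ((hc _ _).1 (x.2 _ hi))⟩
      invFun := fun y => ⟨(E.symm fun i => (y i).1.1, {s | (y (σ.symm s)).1.2}), fun s hs => ?_⟩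
      left_inv := fun x => ?_
      right_inv := fun y => ?_ }
  · obtain ⟨i, rfl⟩ := σ.surjective s
    rw [hc, ← hE, E.apply_symm_apply]
    exact (y i).2 (by simpa using hs)
  · refine Subtype.ext (Prod.ext ?_ ?_)
    · exact E.symm_apply_apply _
    · ext s; simp
  · funext i
    refine Subtype.ext (Prod.ext ?_ ?_)
    · simp
    · simp

theorem card_units_hom (K : Type*) [Field K] [Fintype K] (p : ℕ) [Fact p.Prime] [CharP K p]
    [CharP F p] [IsAlgClosed F] : Nat.card (Kˣ →* Fˣ) + 1 = Fintype.card K := by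
  classical
  have : NeZero ((Monoid.exponent Kˣ : ℕ) : F) := ⟨fun h => by
    rw [CharP.cast_eq_zero_iff F p] at h
    have h1 : p ∣ Fintype.card K - 1 := by
      rw [← Fintype.card_units]; exact h.trans Group.exponent_dvd_card
    obtain ⟨n, -, hn⟩ := FiniteField.card K p
    have h2 : p ∣ Fintype.card K := hn ▸ dvd_pow_self p n.ne_zero
    have h3 := (Nat.dvd_sub_iff_right Fintype.card_pos h2).1 h1
    exact (Fact.out : p.Prime).one_lt.ne' (Nat.dvd_one.1 h3)⟩
  rw [CommGroup.card_monoidHom_of_hasEnoughRootsOfUnity Kˣ F, Nat.card_eq_fintype_card,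
    Fintype.card_units, Nat.sub_add_cancel Fintype.card_pos]

end H2
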