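/- Curtis-Richen theory for strongly split BN-pairs and root group data. -/
import Cfsg.Agent.H2.CRCount
import Cfsg.Agent.H67.SBNLie

set_option autoImplicit false
set_option linter.unusedSectionVars false

namespace H2

open Cfsg H67
open H64 (WData gen)

variable {p : ℕ} [Fact p.Prime] {G : Type*} [Group G] [Finite G]

theorem sbn_of (D : H67.SBN p G) (hc : ∀ a ∈ D.H, ∀ b ∈ D.H, a * b = b * a) : SBN D.P p D.U where
  pgrp := D.isP
  le := D.U_le
  conj := D.U_norm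
  fac := D.split
  comm := hc
  cop h hh := by
    have := D.coprime_H 1
    rw [pow_one] at this
    exact (this.coprime_dvd_right (orderOf_dvd_of_pow_eq_one (D.pow_card_H hh))).symm

theorem sstrong_of (D : H67.SBN p G) : SStrong D.P D.U := D.strong

theorem sopp_of (D : H67.SBN p G) : SOpp D.P D.U :=
  ⟨D.n0, D.nJ_mem _, fun _ hu h => D.eq_one_of_conj_n0 hu h⟩

theorem cs_ne_zero_iff {F : Type*} [Field F] [CharP F p] (D : H67.SBN p G)
    (hc : ∀ a ∈ D.H, ∀ b ∈ D.H, a * b = b * a) (χ : ↥(D.P.B ⊓ D.P.N) →* Fˣ) (s : D.P.S)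
    {A : Type*} (τ : A → ↥(D.P.B ⊓ D.P.N))
    (h1 : ∀ a, (τ a : G) ∈ D.U ⊔ D.U.map (MulAut.conj (s : G)).toMonoidHom)
    (h2 : ∀ x ∈ D.X s, x ≠ 1 →
      ∃ u ∈ D.U, ∃ a, ∃ v ∈ D.U, (s : G)⁻¹ * x * s = u * s * τ a * v) :
    cs D.U (s : G) χ ≠ 0 ↔ ∀ a, χ (τ a) = 1 := by
  have h := sbn_of D hc
  refine ⟨fun h0 a => ?_, fun h0 => ?_⟩
  · have := h.cb_eq_one_of_cs_ne_zero h0 (τ a).2.1 (h1 a)
    rw [h.cb_H χ (τ a).2] at this
    exact Units.ext this
  · rw [h.cs_eq_neg_one (χ := χ) (s := s) fun u hu hB => ?_]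
    · exact neg_ne_zero.2 one_ne_zero
    obtain ⟨x, hx, r, hr, rfl⟩ := D.exists_X_mul_R s hu
    have hr' := (D.mem_R_singleton.1 hr).2
    obtain ⟨u', hu', a, v, hv, e⟩ := h2 x hx (by
      rintro rfl
      exact hB (by simpa using D.U_le hr'))
    have hv' := D.U.mul_mem hv hr'
    refine ⟨u', hu', τ a * (v * ((s : G)⁻¹ * r * s)), D.P.B.mul_mem (τ a).2.1 (D.U_le hv'), ?_, ?_⟩
    · rw [show (s : G)⁻¹ * (x * r) * s = ((s : G)⁻¹ * x * s) * ((s : G)⁻¹ * r * s) by group, e]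
      group
    · rw [h.cb_mul χ (τ a).2.1, h.cb_U χ hv', h.cb_H χ (τ a).2, h0 a]; simp

theorem not_dvd_card_units (K : Type*) [Field K] [Fintype K] [CharP K p] :
    ¬ p ∣ Nat.card Kˣ := by
  classical
  intro h1
  rw [Nat.card_eq_fintype_card, Fintype.card_units] at h1
  obtain ⟨n, -, hn⟩ := FiniteField.card K p
  have h2 : p ∣ Fintype.card K := hn ▸ dvd_pow_self p n.ne_zero
  have h3 := (Nat.dvd_sub_iff_right Fintype.card_pos h2).1 h1
  exact (Fact.out : p.Prime).one_lt.ne' (Nat.dvd_one.1 h3)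

/-- Steinberg's count of the semisimple classes for a split simply connected root group datum. -/
theorem card_pReg_of_grd {Φ ι : Type*} {R : WData Φ ι} [Finite Φ] [Fintype ι] [DecidableEq ι]
    (T : H54.GRD R G) (hT : T.Gp = ⊤) (hU : IsPGroup p T.U) {K : Type*} [Field K] [Fintype K]
    [CharP K p] (τ : (ι → Kˣ) →* G) (hinj : Function.Injective τ) (hr : τ.range = T.H)
    (h1 : ∀ i a, τ (Pi.mulSingle i a) ∈ T.X (R.p i) ⊔ T.X (R.neg (R.p i)))
    (h2 : ∀ i, ∀ y ∈ T.X (R.neg (R.p i)), y ≠ 1 →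
      ∃ u ∈ T.U, ∃ a, ∃ v ∈ T.U, y = u * T.n i * τ (Pi.mulSingle i a) * v) :
    Nat.card {c : ConjClasses G // ∃ g, ConjClasses.mk g = c ∧ (orderOf g).Coprime p} =
      Fintype.card K ^ Fintype.card ι := by
  have hH : ¬ p ∣ Nat.card T.H := fun h => by
    rw [← hr, ← Nat.card_congr (MonoidHom.ofInjective hinj).toEquiv, Nat.card_fun] at h
    exact not_dvd_card_units K ((Fact.out : p.Prime).dvd_of_dvd_pow h)
  let D := ofGRD T hT hU hH
  have hD : τ.range = D.P.B ⊓ D.P.N := hr.trans (ofGRD_H T hT hU hH).symm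
  have hc : ∀ a ∈ D.H, ∀ b ∈ D.H, a * b = b * a := fun a ha b hb => by
    obtain ⟨a, rfl⟩ := hD.ge ha
    obtain ⟨b, rfl⟩ := hD.ge hb
    rw [← map_mul, mul_comm, map_mul]
  let F := AlgebraicClosure (ZMod p)
  let e : (ι → Kˣ) ≃* ↥(D.P.B ⊓ D.P.N) :=
    (MonoidHom.ofInjective hinj).trans (MulEquiv.subgroupCongr hD)
  rw [(sbn_of D hc).card_pReg_eq_adm (F := F), card_adm (P := D.P) (H54.sEq T hT) e,
    card_units_hom K p]
  intro χ i
  have hn : ∀ x ∈ T.X (R.p i), T.n i * x * (T.n i)⁻¹ ∈ T.X (R.neg (R.p i)) := fun x hx => by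
    simpa only [R.s_p] using T.n_conj i _ x hx
  refine cs_ne_zero_iff D hc χ _ (fun a => e (Pi.mulSingle i a)) (fun a => ?_) fun x hx hx1 => ?_
  · refine (sup_le_sup (T.X_le_U (R.pos_p i)) fun y hy => ?_) (h1 i a)
    refine ⟨(T.n i)⁻¹ * y * T.n i, T.X_le_U (R.pos_p i) ?_, by
      change T.n i * _ * (T.n i)⁻¹ = y; group⟩
    have h3 := T.n_conj i _ y hy
    rw [R.s_neg, R.s_p, R.neg_neg] at h3
    have h4 := T.h_conj _ (T.H.inv_mem (T.n_sq i)) _ _ h3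
    simpa [mul_assoc] using h4
  · replace hx := (ofGRD_X T hT hU hH i).le hx
    refine h2 i ((T.n i)⁻¹ * x * T.n i) ?_ fun h => hx1 (by simpa [mul_assoc] using congrArg (T.n i * · * (T.n i)⁻¹) h)
    have h4 := hn _ (T.h_conj _ (T.H.inv_mem (T.n_sq i)) _ _ hx)
    simpa [mul_assoc] using h4

end H2
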