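/- If a group with a split BN-pair is generated by its `p`-elements, the torus is generated by the
rank one tori. -/
import Cfsg.Agent.H2.CRLie
import Cfsg.Agent.H67.SBNChar

set_option autoImplicit false
set_option linter.unusedSectionVars false

namespace H2

open Cfsg H67 Finset MonoidAlgebra
open scoped MonoidAlgebra

variable {p : ℕ} [Fact p.Prime] {G : Type*} [Group G] [Finite G] {F : Type*} [Field F] [CharP F p]

theorem SBN.cs_eq_neg {P : BNPair G} {U : Subgroup G} (h : SBN P p U) {χ : ↥(P.B ⊓ P.N) →* Fˣ}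
    {s : P.S} {c : F} (hs : ∀ u ∈ U, (s : G)⁻¹ * u * s ∉ P.B →
      ∃ u' ∈ U, ∃ b ∈ P.B, (s : G)⁻¹ * u * s = u' * s * b ∧ cb U χ b⁻¹ = c) :
    cs U (s : G) χ = -c := by
  classical
  rw [cs, mul_assoc, coeff_tt_mul, ← add_sum_erase _ _ (self_mem_cell U (s : G)),
    sum_congr rfl (g := fun _ => c), sum_const, card_erase_of_mem (self_mem_cell U _),
    nsmul_eq_mul, Nat.cast_pred (card_pos.2 ⟨_, self_mem_cell U _⟩), h.card_cell_S]
  · rw [of_not_not (mt h.wOf_of_coeff_tt_vv ?_)]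
    · simp
    rw [wOf_eq_one_iff.2 (h.le (QuotientGroup.eq.1 (QuotientGroup.out_eq' _))), wOf_S]
    exact (sim_ne_one P s).symm
  · intro c hc
    obtain ⟨hne, hc⟩ := mem_erase.1 hc
    obtain ⟨u, hu, u', hu', e, -⟩ := out_of_mem_cell hc
    have h3 : c.out⁻¹ * s = u'⁻¹ * ((s : G)⁻¹ * u⁻¹ * s) := by rw [e]; group
    obtain ⟨x, hx, b, hb, e', hb'⟩ := hs _ (inv_mem hu) fun h4 =>
      hne (h.eq_of_out_mem hc (h3 ▸ P.B.mul_mem (inv_mem (h.le hu')) h4))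
    rw [h3, e', ← mul_assoc, ← mul_assoc, h.coeff_tt_vv χ _ (U.mul_mem (inv_mem hu') hx) hb, hb']

/-- A character admissible for every simple reflection is trivial. -/
theorem SBN.eq_one_of_cs {P : BNPair G} {U : Subgroup G} (h : SBN P p U)
    (hgen : Subgroup.normalClosure (U : Set G) = ⊤) {χ : ↥(P.B ⊓ P.N) →* Fˣ}
    (hc : ∀ s : P.S, cs U (s : G) χ ≠ 0) : χ = 1 := by
  classical
  obtain ⟨m, hm0, hm⟩ := h.exists_wv_of_adm χ Set.univ fun j _ => hc j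
  let L : Subgroup G :=
    { carrier := {g | ∃ c : F, sg F g • m = c • m}
      one_mem' := ⟨1, by rw [sg_one_smul, one_smul]⟩
      mul_mem' := by
        rintro a b ⟨c, ha⟩ ⟨d, hb⟩
        exact ⟨d * c, by rw [sg_mul_smul, hb, smul_comm, ha, smul_smul]⟩
      inv_mem' := by
        rintro a ⟨c, ha⟩
        have h1 : c • sg F a⁻¹ • m = m := by
          rw [smul_comm, ← ha, ← sg_mul_smul, inv_mul_cancel, sg_one_smul]
        have h2 : c ≠ 0 := by rintro rfl; exact hm0 (by rw [← h1, zero_smul])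
        exact ⟨c⁻¹, by rw [eq_inv_smul_iff₀ h2, h1]⟩ }
  have hL : ∀ g, g ∈ L := fun g => cellSubgroup_eq_closure (P := P) Set.univ (K := L)
    (fun b hb => ⟨_, hm.1 b hb⟩)
    (fun s _ => ⟨_, h.S_smul_eq (hc s) hm.1 (by simpa using hm.2 s trivial)⟩)
    ⟨_, mem_WJ_univ _, inCell_wOf P g⟩
  let Φ : Subgroup G :=
    { carrier := {g | sg F g • m = m}
      one_mem' := sg_one_smul m
      mul_mem' := fun {a b} (ha : _ = _) (hb : _ = _) => by
        change _ = _; rw [sg_mul_smul, hb, ha]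
      inv_mem' := fun {a} (ha : _ = _) => by
        change _ = _
        conv_lhs => rw [← ha]
        rw [← sg_mul_smul, inv_mul_cancel, sg_one_smul] }
  have : Φ.Normal := ⟨fun a (ha : _ = _) g => by
    obtain ⟨c, hc⟩ := hL g⁻¹
    change _ = _
    rw [sg_mul_smul, sg_mul_smul, hc, smul_comm (sg F a), ha, ← hc, ← sg_mul_smul, mul_inv_cancel,
      sg_one_smul]⟩
  have hΦ : ⊤ ≤ Φ := hgen ▸ Subgroup.normalClosure_le_normal (h.fix_of_wt hm.1)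
  ext t
  have h1 : sg F (t : G) • m = m := hΦ (Subgroup.mem_top _)
  rw [hm.1 _ t.2.1, h.cb_H χ t.2] at h1
  exact smul_left_injective F hm0 (h1.trans (one_smul F m).symm)

theorem exists_mem_M (D : H67.SBN p G) {s : D.P.S} {x : G} (hx : x ∈ D.X s) (h1 : x ≠ 1) :
    ∃ a ∈ D.U, ∃ n ∈ D.M s, ∃ a' ∈ D.U, (s : G)⁻¹ * x * s = a * n * a' ∧ n⁻¹ * s ∈ D.H := by
  rcases wOf_conj_S s (D.U_le (D.X_le_U s hx)) with h | h
  · exact absurd (D.eq_one_of_mem_X_of_conj hx h) h1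
  obtain ⟨u, hu, t, ht, y, hy, e⟩ := D.exists_of_wOf_eq_sim h
  have hy' := D.X_le_U s hy
  refine ⟨u, hu, t * s, ⟨D.P.N.mul_mem ht.2 (D.S_mem s), u⁻¹, inv_mem hu, y⁻¹, inv_mem hy',
    ((s : G) * s)⁻¹ * x * (s * s), D.X_conj_H (sq_mem_H s) hx, fun h2 => h1 ?_, ?_⟩, y, hy', e, ?_⟩
  · simpa [mul_assoc] using congrArg ((s : G) * s * · * ((s : G) * s)⁻¹) h2
  · rw [show (s : G) * (((s : G) * s)⁻¹ * x * (s * s)) * (s : G)⁻¹ = (s : G)⁻¹ * x * s by group, e]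
    group
  · simpa [mul_assoc] using D.H_conj' (D.S_mem s) (inv_mem ht)

theorem H_le_of_gen (D : H67.SBN p G) (hc : ∀ a ∈ D.H, ∀ b ∈ D.H, a * b = b * a)
    (hgen : Subgroup.normalClosure (D.U : Set G) = ⊤) :
    D.H ≤ Subgroup.closure {h | ∃ s, ∃ n ∈ D.M s, ∃ n' ∈ D.M s, h = n⁻¹ * n'} := by
  have h := sbn_of D hc
  intro t ht
  let F := AlgebraicClosure (ZMod p)
  let _ : CommGroup ↥(D.P.B ⊓ D.P.N) :=
    { (inferInstance : Group ↥(D.P.B ⊓ D.P.N)) with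
      mul_comm := fun a b => Subtype.ext (hc _ a.2 _ b.2) }
  have : NeZero ((Monoid.exponent ↥(D.P.B ⊓ D.P.N) : ℕ) : F) := ⟨fun h0 => by
    rw [CharP.cast_eq_zero_iff F p] at h0
    exact D.H_cop (h0.trans Group.exponent_dvd_nat_card)⟩
  refine Subgroup.mem_subgroupOf.1 ((CommGroup.forall_monoidHom_apply_eq_one_iff F
    (Subgroup.subgroupOf _ (D.P.B ⊓ D.P.N)) ⟨t, ht⟩).1 fun χ hχ => ?_)
  rw [h.eq_one_of_cs hgen (χ := χ) fun s => ?_, MonoidHom.one_apply]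
  obtain ⟨x₀, hx₀, h₀⟩ := D.exists_mem_X_ne_one s
  obtain ⟨-, -, n₀, hn₀, -, -, -, h₁⟩ := exists_mem_M D hx₀ h₀
  rw [h.cs_eq_neg (c := cb D.U χ (n₀⁻¹ * s)) fun u hu hB => ?_]
  · exact neg_ne_zero.2 (h.cb_ne_zero χ h₁.1)
  obtain ⟨x, hx, r, hr, rfl⟩ := D.exists_X_mul_R s hu
  have hr' := (D.mem_R_singleton.1 hr).2
  obtain ⟨a, ha, n, hn, v, hv, e, h₂⟩ := exists_mem_M D hx (by
    rintro rfl
    exact hB (by simpa using D.U_le hr'))
  have hv' := D.U.mul_mem hv hr'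
  refine ⟨a, ha, (n⁻¹ * s)⁻¹ * (v * ((s : G)⁻¹ * r * s)),
    D.P.B.mul_mem (inv_mem h₂.1) (D.U_le hv'), ?_, ?_⟩
  · rw [show (s : G)⁻¹ * (x * r) * s = ((s : G)⁻¹ * x * s) * ((s : G)⁻¹ * r * s) by group, e]
    group
  · have h₃ : n⁻¹ * n₀ ∈ D.H := by
      simpa [mul_assoc] using D.H.mul_mem h₂ (inv_mem h₁)
    rw [mul_inv_rev, inv_inv, h.cb_mul χ (D.U_le (inv_mem hv')), h.cb_U χ (inv_mem hv'), one_mul,
      show n⁻¹ * s = (n⁻¹ * n₀) * (n₀⁻¹ * s) by group, h.cb_mul χ h₃.1, h.cb_H χ h₃,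
      hχ ⟨_, h₃⟩ (Subgroup.subset_closure ⟨s, n, hn, n₀, hn₀, rfl⟩), Units.val_one, one_mul]

end H2
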