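/- S3275, chapter U0, section A: slot W2. -/
import Cfsg.Agent.H26.DP0ASpec
import Cfsg.Agent.H14.Rel
import Cfsg.Agent.H98.Coprime

set_option autoImplicit false

namespace H2.DaW2
open Subgroup Cfsg H98 H48.DP H57.DPC H48.DP2 H26.DA
universe u

variable {G : Type u} [Group G]

theorem pz {y : G} (h : orderOf y = 3) : IsPGroup 3 (zpowers y) :=
  IsPGroup.of_card (n := 1) (by rw [Nat.card_zpowers, h, pow_one])

theorem cm {K : Subgroup G} {a w : G} (ha : a ∈ K) (hw : w ∈ Ce K) : Commute w a :=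
  (mem_centralizer_iff.1 hw a ha).symm

theorem cc [Finite G] {P K : Subgroup G} {y z a : G} (h : Wa P K y z a) (c : G) (c3 : c ^ 3 = 1)
    (c1 : c ∈ Ce K) (c2 : c ∈ Ce (cj y K)) (c4 : c ∈ Ce (cj (y * y) K)) : c = 1 := by
  have : Fact (Nat.Prime 3) := ⟨Nat.prime_three⟩
  by_contra hc
  set C := Ce K ⊓ Ce (cj y K) ⊓ Ce (cj (y * y) K) with hC
  have y1 : y * (y * y) = 1 := by
    have := pow_orderOf_eq_one y
    rwa [h.y3, pow_succ', sq] at this
  have yC : y ∈ No C := cj_eq_self_iff.1 (by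
    rw [hC, cj_inf, cj_inf, cj_centralizer, cj_centralizer, cj_centralizer, cj_cj, cj_cj, y1,
      cj_one, inf_comm, inf_assoc])
  obtain ⟨T, hT, yT⟩ := exists_isSyl_le (pz h.y3) (le_sup_right : zpowers y ≤ C ⊔ zpowers y)
  have nC : C ⊔ zpowers y ≤ No C := sup_le le_normalizer (zpowers_le.2 yC)
  have hS := hT.inf_of_le_normalizer le_sup_left (hT.le.trans nC)
  have d : 3 ∣ Nat.card C := by
    rw [← orderOf_eq_prime c3 hc]
    exact C.orderOf_dvd_natCard ⟨⟨c1, c2⟩, c4⟩
  have ne := inf_centralizer_ne_bot hS.isPGroup (pz h.y3)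
    (le_normalizer_inf (yT.trans le_normalizer) (zpowers_le.2 yC))
    fun e => hS.eq_bot_iff.1 e d
  obtain ⟨⟨w, hm⟩, hw⟩ := exists_prime_orderOf_dvd_card' 3
    ((hS.isPGroup.to_inf_left (K := Ce (zpowers y))).card_eq_or_dvd.resolve_left
      (by rwa [card_eq_one]))
  have o : orderOf w = 3 := by rw [← hw, orderOf_mk]
  clear hw
  obtain ⟨⟨-, ⟨w1, w2⟩, w3⟩, wy⟩ := hm
  have wz : Commute w z := by
    rw [h.za]
    exact ((cm h.aK w1).mul_right (cm (mem_cj.2 (by simpa [mul_assoc] using h.aK)) w2)).mul_right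
      (cm (mem_cj.2 (by simpa [mul_assoc] using h.aK)) w3)
  have wE := h.eN w (h.st w (o ▸ pow_orderOf_eq_one w) (cm (mem_zpowers y) wy) wz)
    (centralizer_le_normalizer _ w1)
  have e : zpowers w = zpowers z := eq_of_le_of_card_ge (zpowers_le.2 wE)
    (by rw [Nat.card_zpowers, Nat.card_zpowers, o, h.z3])
  have zK : z ∈ Ce K := (e.ge.trans (zpowers_le.2 w1)) (mem_zpowers z)
  have aC : a ∈ K ⊓ Ce K := ⟨h.aK, by
    have := (Ce K).mul_mem zK ((Ce K).inv_mem h.zc)
    simpa using this⟩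
  rw [(h.str.cm K h.comp).2.sm.cen, mem_bot] at aC
  have := h.a3
  rw [aC, orderOf_one] at this
  exact absurd this (by decide)

theorem jobW2 : JobW2.{u} := by
  intro G _ _ P K y z a h
  have : Fact (Nat.Prime 3) := ⟨Nat.prime_three⟩
  have hK : H14.CP K ⊤ := H14.cp_iff.2 h.comp
  refine ⟨h, ?_, cc h, fun J hJ => ?_⟩
  · have hS := h.syl.inf_subN hK.subN
    have aS : a ∈ Ce (P ⊓ K) := mem_centralizer_iff.2 fun s hs => by
      have h1 : Commute s z := (mem_centralizer_iff.1 (h.cz hs.1) z rfl).symm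
      have h2 : Commute s (a⁻¹ * z) := (cm hs.2 h.zc).symm
      have := h1.mul_right h2.inv_right
      simpa using this.eq
    exact (hS.le_of_le_normalizer' (pz h.a3) (zpowers_le.2 h.aK)
      (zpowers_le.2 (centralizer_le_normalizer _ aS)) (mem_zpowers a)).1
  · have hJ' : H14.CP J ⊤ := H14.cp_iff.2 hJ
    have k : ∀ g : G, J = cj g K ∨ J ≤ Ce (cj g K) := fun g =>
      (hJ'.eq_or_commute (hK.cj_of_mem_normalizer (g := g) (le_normalizer (mem_top g)))).imp_right
        commutator_eq_bot_iff_le_centralizer.1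
    by_contra n
    push Not at n
    obtain ⟨V, -, w, wJ, -, -, o, -⟩ := (h.str.cm J hJ).2.sm.loc
    have k1 := k 1
    rw [cj_one] at k1
    have := cc h w (o ▸ pow_orderOf_eq_one w) (k1.resolve_left n.1 wJ)
      ((k y).resolve_left n.2.1 wJ) ((k (y * y)).resolve_left n.2.2 wJ)
    rw [this, orderOf_one] at o
    exact absurd o (by decide)

end H2.DaW2
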