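/- Blocks of groups with a split BN-pair in the defining characteristic (Dagger, Humphreys). -/
import Cfsg.Agent.H2.CRGen
import Cfsg.Agent.H67.SBNBT
import Cfsg.Agent.S0953
import Cfsg.Agent.S0955
import Cfsg.Agent.S0956
import Cfsg.Agent.H36.DefectCard
import Cfsg.Agent.H35.BSpan

set_option autoImplicit false
set_option linter.unusedSectionVars false

namespace H2

open Cfsg H67

variable {p : ℕ} [Fact p.Prime] {G : Type*} [Group G] [Finite G] {M : Ideal AlgInt}

theorem isRad_of_isDefectGroup (hM : IsPModular p M) {B : Set (IrrCharacter G)}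
    (hB : IsPBlock M B) {K : Subgroup G} (hK : IsDefectGroup p M B K) : IsRad p K := by
  have := hM.2.1
  refine ⟨H36.isPGroup_of_isDefectGroup hK, fun V hV hle hn => ?_⟩
  have : (V.subgroupOf (Subgroup.normalizer (K : Set G))).Normal :=
    ⟨fun x hx g => by simpa [Subgroup.mem_subgroupOf] using hn _ (inv_mem g.2) _ hx⟩
  rw [← Cfsg.Agent.S0955.result p M hM B hB K hK, ← Subgroup.map_subgroupOf_eq_of_le hle]
  exact Subgroup.map_mono (le_pCore (hV.comap_of_injective _ Subtype.val_injective))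

theorem defect_cases (D : H67.SBN p G) (hbt : D.BT) (hirr : D.P.Irreducible) (hM : IsPModular p M)
    {B : Set (IrrCharacter G)} (hB : IsPBlock M B) :
    blockDefect p B = 0 ∨ blockDefect p B = (Nat.card G).factorization p := by
  have := hM.2.1
  obtain ⟨K, hK⟩ := H34.exists_isDefectGroup p hB
  by_cases h1 : K = ⊥
  · exact Or.inl ((H36.blockDefect_eq_zero_iff hM hB hK).2 h1)
  obtain ⟨P, hP⟩ := (H36.isPGroup_of_isDefectGroup hK).exists_le_sylow
  obtain ⟨x, -, ⟨S, hS⟩, hx⟩ := Cfsg.Agent.S0956.result p M hM B hB K hK P hP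
  obtain ⟨r, hr, z, hz, rfl⟩ := hbt.exists_of_cent_isRad hirr (isRad_of_isDefectGroup hM hB hK) h1
    (c := x) (fun y hy => by
      rw [← hS] at hy
      obtain ⟨y, -, rfl⟩ := hy
      exact Subgroup.mem_centralizer_singleton_iff.1 y.2)
  obtain ⟨g, hg⟩ := D.exists_eq_cjs P
  refine Or.inr (H36.blockDefect_eq_of_card hM hB hK ?_)
  have h5 : (P : Subgroup G) ≤ (P : Subgroup G).map (MulAut.conj (r * z)).toMonoidHom := by
    intro y hy
    have h2 := mul_mem (mul_mem (inv_mem (hP hr)) hy) (hP hr)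
    refine ⟨_, h2, ?_⟩
    have h3 := D.normalCore_comm_U
      ((Subgroup.normalCore_normal D.B).conj_mem z hz g⁻¹) (mem_cjs.1 (hg.le h2))
    have h4 : z * (r⁻¹ * y * r) = (r⁻¹ * y * r) * z := by
      simpa [mul_assoc] using congrArg (g * · * g⁻¹) h3
    change r * z * (r⁻¹ * y * r) * (r * z)⁻¹ = y
    rw [mul_assoc r z, h4]; group
  rw [← hx, inf_eq_left.2 h5, P.card_eq_multiplicity]

theorem card_defect_zero (D : H67.SBN p G)
    (hH : D.H ≤ Subgroup.closure {h | ∃ s, ∃ n ∈ D.M s, ∃ n' ∈ D.M s, h = n⁻¹ * n'})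
    (hM : IsPModular p M) :
    Nat.card {B : Set (IrrCharacter G) // IsPBlock M B ∧ blockDefect p B = 0} = 1 := by
  have := hM.2.1
  have := Fintype.ofFinite G
  have := Fintype.ofFinite D.P.S
  have key : ∀ B : Set (IrrCharacter G), IsPBlock M B → blockDefect p B = 0 →
      B = {⟨_, isIrrCharacter_stBN D.P⟩} := by
    rintro _ ⟨χ, rfl⟩ h0
    have hχ := H34.self_mem_blockOf (M := M) χ
    rw [H35.block_eq_singleton_of_defect_zero hM ⟨χ, rfl⟩ h0 hχ]
    congr 1
    refine Subtype.ext (D.eq_stBN_of_defect_zero hH χ.2 ?_)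
    rw [← H35.nu_eq_of_defect_zero h0 hχ]
    exact Nat.ordProj_dvd _ _
  let χ : IrrCharacter G := ⟨_, H54.isIrrCharacter_stGRD D.toGRD D.toGRD_Gp⟩
  refine Nat.card_eq_one_iff_unique.2 ⟨⟨fun B B' => Subtype.ext
    ((key _ B.2.1 B.2.2).trans (key _ B'.2.1 B'.2.2).symm)⟩, ⟨⟨blockOf M χ, ⟨χ, rfl⟩, ?_⟩⟩⟩
  exact H35.defect_zero_of_vanish hM ⟨χ, rfl⟩ (H34.self_mem_blockOf χ) fun x hx =>
    H54.stGRD_eq_zero D.toGRD D.toGRD_Gp (D.toGRD_U ▸ D.isP) (D.toGRD_H ▸ D.H_cop) hx

theorem not_dvd_orderOf_H (D : H67.SBN p G) {t : G} (ht : t ∈ D.H) : ¬ p ∣ orderOf t :=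
  fun h => D.H_cop (h.trans (orderOf_dvd_of_pow_eq_one (D.pow_card_H ht)))

theorem card_full_defect (D : H67.SBN p G) (hirr : D.P.Irreducible) (hne : D.P.S.Nonempty)
    (hgen : Subgroup.normalClosure (D.U : Set G) = ⊤) (hM : IsPModular p M) :
    Nat.card {B : Set (IrrCharacter G) // IsPBlock M B ∧
      blockDefect p B = (Nat.card G).factorization p} = Nat.card (Subgroup.center G) := by
  have := hM.2.1
  have h1 := Cfsg.Agent.S0953.result p M hM D.sylow
  rw [Nat.card_congr (Equiv.subtypeEquivRight (q := fun B => IsPBlock M B ∧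
    blockDefect p B = (Nat.card G).factorization p) fun B => and_congr_right fun hB =>
      ⟨fun h => H36.blockDefect_eq_of_card hM hB h D.sylow.card_eq_multiplicity,
        fun h => (H36.isDefectGroup_iff_sylow hM hB h).2 ⟨_, rfl⟩⟩)] at h1
  rw [h1, eq_comm]
  have hz : ∀ z : Subgroup.center G, (z : G) ∈ Subgroup.normalizer (D.sylow : Set G) :=
    fun z => Subgroup.center_le_normalizer _ z.2
  have hc : ∀ (z : Subgroup.center G) n, ConjClasses.mk n = ConjClasses.mk
      (⟨z, hz z⟩ : Subgroup.normalizer (D.sylow : Set G)) → (n : G) = z := fun z n h => by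
    obtain ⟨c, hc⟩ := isConj_iff.1 (ConjClasses.mk_eq_mk_iff_isConj.1 h.symm)
    rw [← hc]
    change (c : G) * z * (c : G)⁻¹ = z
    rw [Subgroup.mem_center_iff.1 z.2 c, mul_inv_cancel_right]
  refine Nat.card_congr (Equiv.ofBijective (fun z => ⟨ConjClasses.mk ⟨z, hz z⟩, fun n hn => ?_⟩)
    ⟨fun z z' h => Subtype.ext (hc z' _ (congrArg Subtype.val h)), ?_⟩)
  · rw [← Subgroup.orderOf_coe, hc z n hn]
    exact ⟨not_dvd_orderOf_H D (D.normalCore_B_le_H (D.center_le_normalCore z.2)),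
      Subgroup.center_le_centralizer _ z.2⟩
  · rintro ⟨C, hC⟩
    obtain ⟨n, rfl⟩ := ConjClasses.mk_surjective C
    obtain ⟨h2, h3⟩ := hC n rfl
    obtain ⟨s, hs⟩ := hne
    obtain ⟨r, hr, z, hz', e⟩ := D.exists_of_centralizes_R hirr (J := ∅)
      (fun h => (h.ge (Set.mem_univ ⟨s, hs⟩)).elim) (c := n) (by rw [D.R_empty]; exact h3)
    have hz2 := D.normalCore_le_center hgen hz'
    have hr1 : r = 1 := by
      obtain ⟨k, hk⟩ := exists_pow_eq_one_of_mem (D.isPGroup_R ∅) hr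
      have hp : p.Prime := Fact.out
      have h4 : Commute (n : G) z⁻¹ := Subgroup.mem_center_iff.1 (inv_mem hz2) n
      have h5 := h4.orderOf_mul_dvd_mul_orderOf
      rw [e, mul_inv_cancel_right, ← e, orderOf_inv, Subgroup.orderOf_coe] at h5
      rw [← orderOf_eq_one_iff]
      exact Nat.dvd_one.1 <| (Nat.dvd_gcd (orderOf_dvd_of_pow_eq_one hk) h5).trans
        (Nat.Coprime.gcd_eq_one (Nat.Coprime.pow_left k ((hp.coprime_iff_not_dvd).2 fun h =>
          (hp.dvd_mul.1 h).elim h2 (not_dvd_orderOf_H D (D.normalCore_B_le_H hz'))))).dvd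
    rw [hr1, one_mul] at e
    exact ⟨⟨z, hz2⟩, Subtype.ext (congrArg ConjClasses.mk (Subtype.ext e.symm))⟩

theorem card_blocks (D : H67.SBN p G) (hbt : D.BT) (hirr : D.P.Irreducible)
    (hne : D.P.S.Nonempty) (hc : ∀ a ∈ D.H, ∀ b ∈ D.H, a * b = b * a)
    (hgen : Subgroup.normalClosure (D.U : Set G) = ⊤) (hM : IsPModular p M) :
    Nat.card {B : Set (IrrCharacter G) // IsPBlock M B} = Nat.card (Subgroup.center G) + 1 := by
  classical
  have h0 : (Nat.card G).factorization p ≠ 0 := fun h => by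
    have h1 := D.pow_factorization_eq_card_U
    obtain ⟨s, hs⟩ := hne
    rw [h, pow_zero, eq_comm, Subgroup.card_eq_one, ← D.R_empty] at h1
    exact D.R_ne_bot (fun h => (h.ge (Set.mem_univ ⟨s, hs⟩)).elim) h1
  rw [← card_full_defect D hirr hne hgen hM, ← card_defect_zero D (H_le_of_gen D hc hgen) hM,
    ← Nat.card_sum]
  exact Nat.card_congr ((Equiv.subtypeEquivRight fun B =>
    ⟨fun h => (defect_cases D hbt hirr hM h).symm.imp (⟨h, ·⟩) (⟨h, ·⟩),
      fun h => h.elim And.left And.left⟩).trans (subtypeOrEquiv _ _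
      (Set.disjoint_left.2 fun B h h' => h0 (h.2.symm.trans h'.2))))

end H2
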