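/- Tower DG (S3579): slot T5, the exceptional character count. -/
import Cfsg.Agent.H20.DGSpec

set_option autoImplicit false

namespace H2.DgT5
open Cfsg H28 H20.DG Finset
universe u

theorem one_sum {X : Type*} [Fintype X] (f : X → ℕ) (h : ∑ x, f x = 1) :
    ∃ c, f c = 1 ∧ ∀ x, x ≠ c → f x = 0 := by
  classical
  obtain ⟨c, -, hc⟩ := exists_ne_zero_of_sum_ne_zero (h ▸ one_ne_zero : ∑ x, f x ≠ 0)
  have k : ∀ x, x ≠ c → f x + f c ≤ 1 := fun x hx => by
    rw [← h, ← sum_pair hx]; exact sum_le_univ_sum_of_nonneg fun _ => Nat.zero_le _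
  have := single_le_sum (f := f) (fun _ _ => Nat.zero_le _) (mem_univ c)
  exact ⟨c, by omega, fun x hx => by have := k x hx; omega⟩

theorem two_sum {X : Type*} [Fintype X] (a : X → ℤ) (h : ∑ x, a x ^ 2 = 2) {x y z : X}
    (hx : a x = 1) (hy : a y = -1) (zx : z ≠ x) (zy : z ≠ y) : a z = 0 := by
  classical
  have xy : x ≠ y := fun e => by rw [e, hy] at hx; omega
  have := sum_le_univ_sum_of_nonneg (s := {z, x, y}) (f := fun x => a x ^ 2) fun _ => sq_nonneg _
  rw [h, sum_insert (by simp [zx, zy]), sum_pair xy, hx, hy] at this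
  nlinarith

theorem jobT5 : JobT5.{u} := by
  intro G _ _ ι M π I r p e n d pp hM hne pM ep pn π1 hπ πo hr he hI h2 hc
  classical
  obtain ⟨m, hm, hm'⟩ := hπ.exists_nat_coeffs
  choose! k hk hk' using fun i (hi : i ∈ M) => (hI i hi).2.2.1.exists_nat_coeffs
  let o : IrrCharacter G := ⟨fun _ => 1, isIrrCharacter_one⟩
  have mo : m o = 1 := by exact_mod_cast (hm o).symm.trans πo
  have s1 : ∀ i ∈ M, ∑ ψ, m ψ * k i ψ = 1 := fun i hi => by
    have := (hI i hi).1
    rw [hm', hk' i hi, classInner_sum_irr] at this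
    simp only [map_natCast] at this
    exact_mod_cast this
  choose! c c1 c0 using fun i (hi : i ∈ M) => one_sum _ (s1 i hi)
  have mc : ∀ i ∈ M, m (c i) = 1 := fun i hi => Nat.eq_one_of_mul_eq_one_right (c1 i hi)
  have kc : ∀ i ∈ M, k i (c i) = 1 := fun i hi => Nat.eq_one_of_mul_eq_one_left (c1 i hi)
  have co : ∀ i ∈ M, c i ≠ o := fun i hi e => by
    have : (k i o : ℂ) = 0 := (hk i hi o).symm.trans (hI i hi).2.1
    rw [← e, kc i hi] at this
    simp at this
  have all : ∀ ψ, ψ ≠ o → m ψ ≠ 0 → ∃ i ∈ M, ψ = c i := fun ψ h1 h0 => by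
    obtain ⟨i, hi, h⟩ := hc ψ (by rw [hm]; exact_mod_cast h0) fun e => h1 (Subtype.ext e)
    rw [hk i hi] at h
    exact ⟨i, hi, by_contra fun ne => mul_ne_zero h0 (by exact_mod_cast h) (c0 i hi ψ ne)⟩
  obtain ⟨i0, hi0⟩ := hne
  by_cases hall : ∀ i ∈ M, c i = c i0
  · have : π = (fun _ => 1) + (c i0 : G → ℂ) := by
      rw [hm', Fintype.sum_eq_add o (c i0) (co i0 hi0).symm, mo, mc i0 hi0]
      · simp [o]
      · rintro ψ ⟨h1, h3⟩
        have : m ψ = 0 := by_contra fun h0 => by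
          obtain ⟨i, hi, e⟩ := all ψ h1 h0
          exact h3 (e.trans (hall i hi))
        simp [this]
    rw [this, add_sub_cancel_left]
    exact (c i0).2
  exfalso
  push Not at hall
  obtain ⟨j0, hj0, n0⟩ := hall
  have k0 : ∀ i ∈ M, ∀ j ∈ M, c i ≠ c j → k j (c i) = 0 := fun i hi j hj ne => by
    have := c0 j hj _ ne
    rwa [mc i hi, one_mul] at this
  have rc : ∀ i ∈ M, ∀ j ∈ M, r i j → c i = c j := fun i hi j hj h => by_contra fun ne => by
    have e := hk i hi (c i)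
    rw [(hI i hi).2.2.2.2 j h, hk j hj, k0 i hi j hj ne, kc i hi] at e
    simp at e
  have df : ∀ i ∈ M, ∀ j ∈ M, c i ≠ c j → I i - I j = (c i : G → ℂ) - c j := fun i hi j hj ne => by
    have g := (hI i hi).2.2.1.isGeneralizedCharacter.sub (hI j hj).2.2.1.isGeneralizedCharacter
    have ha : ∀ ψ : IrrCharacter G, classInner (I i - I j) ψ = ((k i ψ - k j ψ : ℤ) : ℂ) :=
      fun ψ => by rw [classInner_sub_left, hk i hi, hk j hj]; push_cast; rfl
    have s := (g.classInner_self_eq_sum_sq ha).symm.trans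
      (h2 i hi j hj fun h => ne (rc i hi j hj h))
    have s' : ∑ ψ, ((k i ψ : ℤ) - k j ψ) ^ 2 = 2 := by exact_mod_cast s
    have a1 : (k i (c i) : ℤ) - k j (c i) = 1 := by rw [kc i hi, k0 i hi j hj ne]; rfl
    have a2 : (k i (c j) : ℤ) - k j (c j) = -1 := by rw [kc j hj, k0 j hj i hi ne.symm]; rfl
    rw [g.isClassFunction.eq_sum_irr, Fintype.sum_eq_add (c i) (c j) ne, ha, ha, a1, a2]
    · simp [sub_eq_add_neg]
    · rintro ψ ⟨h1, h3⟩
      rw [ha, two_sum _ s' a1 a2 h1 h3]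
      simp
  have cr : ∀ i ∈ M, ∀ j ∈ M, c i = c j → r i j := fun i hi j hj h => by_contra fun nr => by
    obtain ⟨l, hl, ne⟩ : ∃ l ∈ M, c i ≠ c l := by
      by_cases e : c i = c i0
      · exact ⟨j0, hj0, fun e' => n0 (e'.symm.trans e)⟩
      · exact ⟨i0, hi0, e⟩
    have e1 := df i hi l hl ne
    rw [h, ← df j hj l hl (h ▸ ne), sub_left_inj] at e1
    have := h2 i hi j hj nr
    rw [e1, sub_self, classInner_zero_left] at this
    simp at this
  obtain ⟨f, hf⟩ := (c i0).2.isCharacter.exists_degree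
  have dg : ∀ i ∈ M, (c i : G → ℂ) 1 = f := fun i hi => by
    by_cases e : c i = c i0
    · rw [e, hf]
    · have := congrFun (df i hi i0 hi0 e) 1
      rw [Pi.sub_apply, Pi.sub_apply, (hI i hi).2.2.2.1, (hI i0 hi0).2.2.2.1, sub_self, eq_comm,
        sub_eq_zero] at this
      rw [this, hf]
  set T := hM.toFinset.image c with hT
  have mT : ∀ ψ, ψ ∈ T ↔ ∃ i ∈ M, c i = ψ := fun ψ => by simp [hT]
  have cnt : M.ncard = T.card * e := by
    rw [Set.ncard_eq_toFinset_card M hM, card_eq_sum_card_image c, ← smul_eq_mul, ← sum_const]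
    refine sum_congr rfl fun ψ hψ => ?_
    obtain ⟨i, hi, rfl⟩ := (mT ψ).1 hψ
    rw [← he i hi, ← Set.ncard_coe_finset]
    congr 1
    ext j
    simp only [coe_filter, Set.Finite.mem_toFinset, Set.mem_setOf_eq]
    exact ⟨fun h => ⟨h.1, cr i hi j h.1 h.2.symm⟩, fun h => ⟨h.1, (rc i hi j h.1 h.2).symm⟩⟩
  have e0 : 0 < e := by
    rw [← he i0 hi0]
    exact (Set.ncard_pos (hM.subset fun _ h => h.1)).2 ⟨i0, hi0, hr.refl i0⟩
  have pT : p ∣ T.card := (pp.dvd_mul.1 (cnt ▸ pM)).resolve_right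
    fun h => absurd (Nat.le_of_dvd e0 h) (by omega)
  have oT : o ∉ T := fun h => by
    obtain ⟨i, hi, e⟩ := (mT o).1 h
    exact co i hi e
  have sm : (n : ℂ) = 1 + T.card * f := by
    rw [← π1, hm', Finset.sum_apply, ← sum_subset (subset_univ (insert o T)), sum_insert oT, mo,
      ← nsmul_eq_mul, ← sum_const]
    · congr 1
      · simp [o]
      · refine sum_congr rfl fun ψ hψ => ?_
        obtain ⟨i, hi, rfl⟩ := (mT ψ).1 hψ
        rw [mc i hi, Pi.smul_apply, dg i hi]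
        simp
    · intro ψ _ h
      rw [mem_insert, not_or] at h
      have : m ψ = 0 := by_contra fun h0 => by
        obtain ⟨i, hi, e⟩ := all ψ h.1 h0
        exact h.2 ((mT ψ).2 ⟨i, hi, e.symm⟩)
      simp [this]
  have sn : n = 1 + T.card * f := by exact_mod_cast sm
  rw [sn] at pn
  exact pp.one_lt.ne' (Nat.dvd_one.1 ((Nat.dvd_add_left (pT.mul_right f)).1 pn))

end H2.DgT5
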