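/- Spec of the KP tower (S4202): class numbers of p'-permutation groups. Blueprint: blueprints/KP.md. -/
import Cfsg.Agent.H2.LnSpec

set_option autoImplicit false
set_option linter.unusedSectionVars false

namespace H2.Kp
open Equiv MulAction H2.Ln

/-! ### Class numbers -/

noncomputable def kk (Γ : Type) [Group Γ] : ℕ := Nat.card (ConjClasses Γ)

noncomputable abbrev kc {Γ : Type} [Group Γ] (K : Subgroup Γ) : ℕ := kk K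

/-- The number of classes of `Γ` that meet `X`. -/
noncomputable def ncl {Γ : Type} [Group Γ] (X : Set Γ) : ℕ := (ConjClasses.mk '' X).ncard

theorem kk_congr {A B : Type} [Group A] [Group B] (e : A ≃* B) : kk A = kk B :=
  Nat.card_congr (Quotient.congr e.toEquiv fun a b =>
    ⟨fun h => e.toMonoidHom.map_isConj h, fun h => by
      show IsConj a b
      simpa using e.symm.toMonoidHom.map_isConj h⟩)

theorem kc_top {Γ : Type} [Group Γ] : kc (⊤ : Subgroup Γ) = kk Γ := kk_congr Subgroup.topEquiv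

structure KB : Prop where
  card : ∀ (Γ : Type) [Group Γ] [Finite Γ], kk Γ ≤ Nat.card Γ
  idx : ∀ (Γ : Type) [Group Γ] [Finite Γ] (K L : Subgroup Γ), L ≤ K → kc K ≤ L.relIndex K * kc L
  ker : ∀ (Γ X : Type) [Group Γ] [Finite Γ] [Group X] (K L : Subgroup Γ) (ψ : K →* X), L ≤ K →
    (∀ x : K, ψ x = 1 ↔ x.1 ∈ L) → kc K ≤ kc ψ.range * kc L
  cov : ∀ (Γ ι : Type) [Group Γ] [Finite Γ] (I : Finset ι) (X : ι → Set Γ),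
    (∀ x, ∃ i ∈ I, ∃ y ∈ X i, IsConj x y) → kk Γ ≤ ∑ i ∈ I, ncl (X i)

/-- Counting classes by commuting pairs. -/
def PA : Prop := ∀ (Γ ι : Type) [Group Γ] [Finite Γ] (H : Subgroup Γ) (X : Set Γ) (C : Finset ι)
  (Xc : ι → Set Γ) (W : ι → Subgroup Γ) (r : ℕ), (∀ x ∈ X, ∀ h ∈ H, h * x * h⁻¹ ∈ X) →
  (∀ x ∈ X, ∃ c ∈ C, x ∈ Xc c) → (∀ c ∈ C, ∀ x ∈ Xc c, ∀ x' ∈ Xc c, x⁻¹ * x' ∈ H) →
  (∀ c ∈ C, W c ≤ H) → (∀ c ∈ C, ∃ Z : Finset Γ, Z.card ≤ r ∧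
    ∀ x ∈ Xc c, ∀ y ∈ H, x * y = y * x → ∃ z ∈ Z, z⁻¹ * y ∈ W c) →
  ncl X ≤ r * ∑ c ∈ C, kc (W c)

def PA2 : Prop := ∀ (Γ ι : Type) [Group Γ] [Finite Γ] (H : Subgroup Γ) (X : Set Γ) (C : Finset ι)
  (Xc : ι → Set Γ) (e : ℕ), (∀ x ∈ X, ∀ h ∈ H, h * x * h⁻¹ ∈ X) →
  (∀ x ∈ X, ∃ c ∈ C, x ∈ Xc c) → (∀ c ∈ C, ∀ x ∈ Xc c, ∀ x' ∈ Xc c, x⁻¹ * x' ∈ H) →
  (∀ y ∈ H, y ≠ 1 → ∃ E : Finset ι, E.card ≤ e ∧ ∀ c ∈ C, ∀ x ∈ Xc c, x * y = y * x → c ∈ E) →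
  ncl X ≤ C.card + e * kc H

def Two : Prop := ∀ (Γ : Type) [Group Γ] [Finite Γ] (H : Subgroup Γ) (Y : Finset Γ), H.index = 2 →
  (∀ y ∈ Y, y ∈ H) → (∀ y ∈ Y, ∀ y' ∈ Y, ∀ g, g * y * g⁻¹ = y' → y = y' ∧ g ∈ H) →
  kk Γ + 3 * Y.card ≤ 2 * kc H

/-! ### Arithmetic -/

def gg (a : ℕ) : ℕ := if a = 2 then 2 else Nat.sqrt (3 ^ (a - 1))

def QB (n k : ℕ) : Prop := (n ≤ 4 ∧ k ≤ gg n) ∨ (n = 6 ∧ k ≤ 14) ∨ 4 * k ^ 2 ≤ 3 ^ n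

/-- Support `s` of a Jordan subgroup in a geometry with `N + 2` points and lines of size `l`. -/
def JN (N l s : ℕ) : Prop := 3 ≤ l ∧ l + s ≤ N + 2 ∧ (N + 2 - s) * (l - 1) ≤ N + 1

structure Valid (g D : ℕ → ℕ) (v w N m l : ℕ) : Prop where
  zero : 1 ≤ D 0
  mono : ∀ s < N, v * D s ≤ D (s + 1)
  v1 : ∀ s ≤ N, m ≤ s → ∀ a, 2 ≤ a → 2 * a ≤ s → g (w * a) * D (s - a) ≤ D s
  v2 : ∀ s < N, m ≤ s → JN N l s → ∀ c, s = (l - 1) * c → g c ^ 2 * v ^ s ≤ D s ∨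
    ∃ u < c, g c * g (w * (l - 1)) ^ (c - u) * D (u * (l - 1)) ≤ D s

/-- The successor in the cycle pattern with consecutive parts `l`. -/
def nx : List ℕ → ℕ → ℕ
  | [], i => i
  | a :: l, i => if i + 1 < a then i + 1 else if i + 1 = a then 0 else a + nx l (i - a)

def CL : ℕ → List (List ℕ)
  | 1 => [[1]]
  | 2 => [[2], [1, 1]]
  | 3 => [[3], [2, 1], [1, 1, 1]]
  | 4 => [[4], [3, 1], [2, 2], [2, 1, 1], [1, 1, 1, 1]]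
  | 5 => [[5], [4, 1], [3, 2], [3, 1, 1], [2, 2, 1], [2, 1, 1, 1], [1, 1, 1, 1, 1]]
  | 6 => [[6], [5, 1], [4, 2], [4, 1, 1], [3, 3], [3, 2, 1], [3, 1, 1, 1], [2, 2, 2], [2, 2, 1, 1],
      [2, 1, 1, 1, 1], [1, 1, 1, 1, 1, 1]]
  | _ => []

def OP : ℕ → List (List ℕ)
  | 1 => [[1]]
  | 2 => [[2]]
  | 3 => [[3], [2, 1]]
  | 4 => [[4], [3, 1]]
  | 5 => [[5], [4, 1], [3, 2], [2, 2, 1]]
  | 6 => [[6], [5, 1], [4, 2], [3, 2, 1]]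
  | _ => []

def cA (w t : ℕ) : ℕ := ((CL t).map fun l => w ^ l.length).sum
def cB (w t : ℕ) : ℕ := ((OP t).map fun l => w ^ l.length).sum

def ok1 (c t m : ℕ) : Prop := okm c t m ∧ (t = 1 → 22 ≤ c → 2 * c ≤ 3 * m ^ 2)

instance (c t m : ℕ) : Decidable (ok1 c t m) := by unfold ok1; infer_instance

def NumOK (c w t l : ℕ) : Prop := ∃ (e m : ℕ) (g D : ℕ → ℕ), (∀ a < w * c, gg a ^ e ≤ g a) ∧
  ((∀ m0 < m, ¬ ok1 c t m0) ∨ (l = 3 ∧ 2 * m ≤ c - t + 4)) ∧ Valid g D (w ^ e) w (c - t) m l ∧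
  ∀ k k1 k2, k1 ^ e ≤ D (c - t) → k2 ^ e ≤ D (c - t - 1) →
    k ≤ cA w t * k1 + cB w t * ((c - t) * k2) →
    (w = 1 → k ≤ cA w t * k1 + cB w t * (c - t + (c - t - m) * k1)) → QB (w * c) k

def Num (c : ℕ) : Prop := ∀ w t l, w = 1 ∨ w = 2 → 1 ≤ t → t ≤ 6 → t + 3 ≤ c → (t = 1 → l = 0) →
  NumOK c w t l

def NA : Prop := ∀ c < 117, Num c
def NB : Prop := ∀ c, 117 ≤ c → Num c

def g4 (a : ℕ) : ℕ := if a = 2 then 16 else if a = 4 then 625 else 9 ^ (a - 1)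

/-- Numerator of the closed form. -/
def Cn (w h s : ℕ) : ℕ := h ^ 3 * (w ^ 4) ^ h * (9 ^ w) ^ (s - h)

def Dc (w h m s : ℕ) : ℕ := if s < m then (w ^ 4) ^ s else Cn w h s / s ^ 3

def CF : Prop := (∀ a, gg a ^ 4 ≤ g4 a) ∧ ∀ w h m, w = 1 ∨ w = 2 → 3 ≤ h → 2 * h ≤ m + 1 →
  (∀ N, Valid g4 (Dc w h m) (w ^ 4) w N m 0) ∧ ∀ s, h ≤ s → Dc w h m s * s ^ 3 ≤ Cn w h s

def CJ4 : Prop := ∀ w h s c, w = 1 ∨ w = 2 → 5 ≤ h → 76 ≤ s → 4 * (h - 1) ^ 2 ≤ s + 1 → 3 * c ≤ s →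
  g4 c ^ 2 * (w ^ 4) ^ s * s ^ 3 ≤ Cn w h s

def CJ3 : Prop := ∀ w h c u, w = 1 ∨ w = 2 → 5 ≤ h → 29 ≤ c → 3 * (h - 1) ^ 2 ≤ 2 * c + 1 → u < c →
  c ≤ 2 * u → g4 c * g4 (w * 2) ^ (c - u) * (w ^ 4) ^ (u * 2) * (2 * c) ^ 3 ≤ Cn w h (2 * c)

def CT : Prop := ∀ w h c t k k1 k2, w = 1 ∨ w = 2 → 5 ≤ h → 117 ≤ c → c ≤ 6 * h ^ 2 →
  6 * (h - 1) ^ 2 < c → 1 ≤ t → t ≤ 6 → k1 ^ 4 * (c - t) ^ 3 ≤ Cn w h (c - t) →
  k2 ^ 4 * (c - t - 1) ^ 3 ≤ Cn w h (c - t - 1) → k ≤ cA w t * k1 + cB w t * ((c - t) * k2) →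
  4 * k ^ 2 ≤ 3 ^ (w * c)

structure GA : Prop where
  add : ∀ a b, 1 ≤ a → 1 ≤ b → 3 ≤ a + b → gg a * gg b ≤ gg (a + b)
  mul : ∀ b c, 3 ≤ b → 3 ≤ c → gg c * gg b ^ c ≤ gg (b * c)
  half : ∀ b k, 5 ≤ b → QB b k → 2 * (k * gg b) ≤ gg (2 * b)
  qb : ∀ n k, 3 ≤ n → QB n k → k ≤ gg n
  sq : ∀ n k, 3 ≤ n → k ≤ gg n → k ^ 2 ≤ 3 ^ (n - 1)
  val : gg 0 = 1 ∧ gg 1 = 1 ∧ gg 2 = 2 ∧ gg 3 = 3 ∧ gg 4 = 5 ∧ gg 6 = 15 ∧ gg 8 = 46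

/-! ### Cycle patterns -/

def TY : Prop := ∀ (β : Type) [Fintype β] [DecidableEq β] (x : Perm β) (t : ℕ), 1 ≤ t → t ≤ 6 →
  t ≤ Fintype.card β → ∃ a : ℕ → β, Set.InjOn a (Set.Iio t) ∧
    ((∃ l ∈ CL t, ∀ i < t, x (a i) = a (nx l i)) ∨
      ∃ l ∈ OP t, (∀ i, i + 1 < t → x (a i) = a (nx l i)) ∧ ∀ i < t, x (a (t - 1)) ≠ a i)

/-! ### Systems: a faithful action on `α` with blocks of size `w ≤ 2`, indexed by `β` -/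

structure Sys (Γ α β : Type) [Group Γ] [Fintype α] [DecidableEq β] (w : ℕ) where
  ρ : Γ →* Perm α
  φ : Γ →* Perm β
  π : α → β
  inj : Function.Injective ρ
  eqv : ∀ x a, π (ρ x a) = φ x (π a)
  fib : ∀ b, (Finset.univ.filter fun a => π a = b).card = w
  w12 : w = 1 ∨ w = 2

section
variable {Γ α β : Type} [Group Γ] [Fintype α] [Fintype β] [DecidableEq β] {w : ℕ}

open Classical in
/-- The blocks on which `K` moves a point. -/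
noncomputable def Sys.bs (S : Sys Γ α β w) (K : Subgroup Γ) : Finset β :=
  Finset.univ.filter fun b => ∃ x ∈ K, ∃ a, S.π a = b ∧ S.ρ x a ≠ a

theorem Sys.mem_bs {S : Sys Γ α β w} {K : Subgroup Γ} {b : β} :
    b ∈ S.bs K ↔ ∃ x ∈ K, ∃ a, S.π a = b ∧ S.ρ x a ≠ a := by simp [Sys.bs]

/-- The elements of `K` that fix every point over `U`. -/
def Sys.fb (S : Sys Γ α β w) (K : Subgroup Γ) (U : Finset β) : Subgroup Γ :=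
  K ⊓ (fixingSubgroup (Perm α) {a | S.π a ∈ U}).comap S.ρ

theorem Sys.mem_fb {S : Sys Γ α β w} {K : Subgroup Γ} {U : Finset β} {x : Γ} :
    x ∈ S.fb K U ↔ x ∈ K ∧ ∀ a, S.π a ∈ U → S.ρ x a = a := by
  simp [Sys.fb, mem_fixingSubgroup_iff]

/-- The action on the blocks. -/
abbrev Sys.im (S : Sys Γ α β w) (K : Subgroup Γ) : Subgroup (Perm β) := K.map S.φ

theorem Sys.card (S : Sys Γ α β w) : Fintype.card α = w * Fintype.card β := by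
  rw [← Finset.card_univ, Finset.card_eq_sum_card_fiberwise (f := S.π) (t := Finset.univ)
    (fun _ _ => Finset.mem_coe.2 (Finset.mem_univ _)), Finset.sum_congr rfl fun b _ => S.fib b]
  simp [mul_comm]

theorem Sys.surj (S : Sys Γ α β w) (b : β) : ∃ a, S.π a = b := by
  obtain ⟨a, ha⟩ := Finset.card_pos.1 (by rw [S.fib b]; rcases S.w12 with e | e <;> omega)
  exact ⟨a, (Finset.mem_filter.1 ha).2⟩

theorem Sys.fb_fix {S : Sys Γ α β w} {K : Subgroup Γ} {U : Finset β} {x : Γ} (hx : x ∈ S.fb K U)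
    {b : β} (hb : b ∈ U) : S.φ x b = b := by
  obtain ⟨a, rfl⟩ := S.surj b
  rw [← S.eqv, (Sys.mem_fb.1 hx).2 a hb]

theorem Sys.fb_le (S : Sys Γ α β w) (K : Subgroup Γ) (U : Finset β) : S.fb K U ≤ K := inf_le_left

theorem Sys.bs_fb (S : Sys Γ α β w) (K : Subgroup Γ) (U : Finset β) :
    S.bs (S.fb K U) ⊆ S.bs K \ U := fun b hb => by
  obtain ⟨x, hx, a, rfl, h⟩ := Sys.mem_bs.1 hb
  exact Finset.mem_sdiff.2 ⟨Sys.mem_bs.2 ⟨x, (Sys.mem_fb.1 hx).1, a, rfl, h⟩,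
    fun c => h ((Sys.mem_fb.1 hx).2 a c)⟩
end

/-- A permutation group as a system with `w = 1`. -/
def triv {α : Type} [Fintype α] [DecidableEq α] (M : Subgroup (Perm α)) : Sys M α α 1 where
  ρ := M.subtype
  φ := M.subtype
  π := id
  inj := M.subtype_injective
  eqv := fun _ _ => rfl
  fib := fun b => by simp [Finset.filter_eq']
  w12 := Or.inl rfl

/-- A statement about all systems; `c` is the number of blocks. -/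
def AllS (P : ∀ (Γ α β : Type) [Group Γ] [Finite Γ] [Fintype α] [Fintype β] [DecidableEq β]
    (w : ℕ), ℕ → Sys Γ α β w → Prop) : Prop :=
  ∀ (Γ α β : Type) [Group Γ] [Finite Γ] [Fintype α] [Fintype β] [DecidableEq β] (w : ℕ)
    (S : Sys Γ α β w), P Γ α β w (Fintype.card β) S

def IH (n p : ℕ) : Prop := ∀ (γ : Type) [Fintype γ] (M : Subgroup (Perm γ)), Fintype.card γ < n →
  ¬ p ∣ Nat.card M → kc M ≤ gg (Fintype.card γ)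

structure Lam {Γ : Type} [Group Γ] (κ : Subgroup Γ → ℕ) (g : ℕ → ℕ) (v w n : ℕ) : Prop where
  one : 1 ≤ v
  bot : κ ⊥ ≤ 1
  idx : ∀ K L, L ≤ K → L.relIndex K ≤ w → κ K ≤ v * κ L
  act : ∀ (K L : Subgroup Γ) (γ : Type) [Fintype γ] (ψ : K →* Perm γ), Fintype.card γ < n →
    L ≤ K → (∀ x : K, ψ x = 1 ↔ x.1 ∈ L) → κ K ≤ g (Fintype.card γ) * κ L

def LamK : Prop := ∀ (Γ : Type) [Group Γ] [Finite Γ] (n p e w : ℕ) (g : ℕ → ℕ), IH n p →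
  ¬ p ∣ Nat.card Γ → 1 ≤ w → (∀ a < n, gg a ^ e ≤ g a) →
  Lam (fun K : Subgroup Γ => kc K ^ e) g (w ^ e) w n

def Peel : Prop := AllS fun Γ _ β _ _ _ _ _ w _ S => ∀ κ g v n, Lam κ g v w n → ∀ K : Subgroup Γ,
  (∀ U : Finset β, (∀ x ∈ K, ∀ b ∈ U, S.φ x b ∈ U) → w * U.card < n →
    κ K ≤ g (w * U.card) * κ (S.fb K U)) ∧
  (∀ b, (∀ x ∈ K, S.φ x b = b) → κ K ≤ v * κ (S.fb K {b})) ∧
  ((∀ x ∈ K, S.φ x = 1) → κ K ≤ v ^ (S.bs K).card)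

def B3 : Prop := AllS fun Γ _ β _ _ _ _ _ w _ S => ∀ κ g v n, Lam κ g v w n →
  ∀ (K : Subgroup Γ) (b c : ℕ) (B : Fin c → Finset β), Part B b → Pres (S.im K) B → 1 ≤ b →
    w * b < n → c < n → ∀ u ≤ c, ∃ L ≤ K, κ K ≤ g c * g (w * b) ^ (c - u) * κ L ∧
      (∀ x ∈ L, ∀ i, ∀ a ∈ B i, S.φ x a ∈ B i) ∧ ∀ i, u ≤ i.val → Disjoint (S.bs L) (B i)

/-- Two transversal block systems for every subgroup that is transitive on its support. -/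
def JH {β : Type} [Fintype β] [DecidableEq β] (M : Subgroup (Perm β)) (N l : ℕ) : Prop :=
  ∀ K ≤ M, K ≠ ⊥ → Tr K → (sp K).card < N ∧ JN N l (sp K).card ∧
    ∃ (c : ℕ) (B B' : Fin c → Finset β), (sp K).card = (l - 1) * c ∧ Part B (l - 1) ∧
      Part B' (l - 1) ∧ Pres K B ∧ Pres K B' ∧ (∀ a, a ∈ sp K ↔ ∃ i, a ∈ B i) ∧
      (∀ a, a ∈ sp K ↔ ∃ i, a ∈ B' i) ∧ ∀ i j, (B i ∩ B' j).card ≤ 1

def Rec : Prop := AllS fun Γ _ β _ _ _ _ _ w c S => ∀ κ g D v N m l (M : Subgroup (Perm β)),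
  Lam κ g v w (w * c) → Valid g D v w N m l → N < c → (∀ x ∈ M, x ≠ 1 → m ≤ x.support.card) →
  JH M N l → ∀ s ≤ N, ∀ K : Subgroup Γ, S.im K ≤ M → (S.bs K).card ≤ s → κ K ≤ D s

def PC : Prop := AllS fun _ _ β _ _ _ _ _ w _ S => ∀ (t : ℕ) (a : ℕ → β) (σ : ℕ → ℕ) (R : Finset ℕ),
  Set.InjOn a (Set.Iio t) → (∀ i < t, σ i < t) → (∀ i < t, i ∉ R → 0 < i ∧ σ (i - 1) = i) →
  ncl {x | ∀ i < t, S.φ x (a i) = a (σ i)} ≤ w ^ R.card * kc (S.fb ⊤ ((Finset.range t).image a))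

def PO : Prop := AllS fun _ _ β _ _ _ _ _ w _ S => ∀ (t : ℕ) (a : ℕ → β) (σ : ℕ → ℕ) (R : Finset ℕ),
  1 ≤ t → Set.InjOn a (Set.Iio t) → (∀ i < t, σ i < t) →
  (∀ i < t, i ∉ R → 0 < i ∧ σ (i - 1) = i) →
  ncl {x | (∀ i, i + 1 < t → S.φ x (a i) = a (σ i)) ∧ ∀ i < t, S.φ x (a (t - 1)) ≠ a i} ≤
    w ^ R.card * ∑ d ∈ ((Finset.range t).image a)ᶜ,
      kc (S.fb ⊤ (insert d ((Finset.range t).image a)))

def PO1 : Prop := AllS fun _ _ β _ _ _ _ _ w c S => ∀ (t m : ℕ) (a : ℕ → β) (σ : ℕ → ℕ), w = 1 →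
  1 ≤ t → Set.InjOn a (Set.Iio t) → (∀ i < t, σ i < t) →
  (∀ x ∈ fx (S.im ⊤) ((Finset.range t).image a), x ≠ 1 → m ≤ x.support.card) →
  ncl {x | (∀ i, i + 1 < t → S.φ x (a i) = a (σ i)) ∧ ∀ i < t, S.φ x (a (t - 1)) ≠ a i} ≤
    c - t + (c - t - m) * kc (S.fb ⊤ ((Finset.range t).image a))

def TOP : Prop := AllS fun Γ _ β _ _ _ _ _ w c S => ∀ (T : Finset β) (k1 k2 : ℕ), 1 ≤ T.card →
  T.card ≤ 6 → IsMultiplyPretransitive (S.im ⊤) β T.card → kc (S.fb ⊤ T) ≤ k1 →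
  (∀ d ∉ T, kc (S.fb ⊤ (insert d T)) ≤ k2) →
  kk Γ ≤ cA w T.card * k1 + cB w T.card * ((c - T.card) * k2) ∧
  ∀ m, w = 1 → (∀ x ∈ fx (S.im ⊤) T, x ≠ 1 → m ≤ x.support.card) →
    kk Γ ≤ cA w T.card * k1 + cB w T.card * (c - T.card + (c - T.card - m) * k1)

def Alt : Prop := AllS fun Γ _ β _ _ _ _ _ w c S => ∀ p, p = 3 ∨ p = 5 ∨ p = 7 → IH (w * c) p →
  ¬ p ∣ Nat.card Γ → 3 ≤ c → alternatingGroup β ≤ S.im ⊤ → QB (w * c) (kk Γ)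

def Core : Prop := AllS fun Γ _ β _ _ _ _ _ w c S => ∀ p, p = 3 ∨ p = 5 ∨ p = 7 → IH (w * c) p →
  ¬ p ∣ Nat.card Γ → 3 ≤ c → IsPreprimitive (S.im ⊤) β → QB (w * c) (kk Γ)

/-! ### The geometry of Jordan sets -/

structure Lines {β : Type} [DecidableEq β] (M : Subgroup (Perm β)) (Ω : Finset β) (l : ℕ)
    (L : β → β → Finset β) : Prop where
  three : 3 ≤ l
  inv : ∀ x ∈ M, ∀ z ∉ Ω, x z = z
  mem : ∀ a ∈ Ω, ∀ b ∈ Ω, a ≠ b → a ∈ L a b ∧ b ∈ L a b ∧ L a b ⊆ Ω ∧ (L a b).card = l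
  uniq : ∀ a ∈ Ω, ∀ b ∈ Ω, a ≠ b → ∀ u ∈ L a b, ∀ v ∈ L a b, u ≠ v → L u v = L a b
  eqv : ∀ x ∈ M, ∀ a ∈ Ω, ∀ b ∈ Ω, a ≠ b → ∀ z ∈ L a b, x z ∈ L (x a) (x b)

def JL : Prop := All fun α _ _ n M => ∀ T : Finset α, T.card < n →
  IsMultiplyPretransitive M α T.card → ¬ IsMultiplyPretransitive M α (T.card + 1) →
  ∀ K ≤ fx M T, Tr K → (sp K).card < n - T.card

def GeoA : Prop := All fun α _ _ n M => IsPreprimitive M α → ¬ alternatingGroup α ≤ M →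
  ∀ (T : Finset α) (a b : α), a ∉ T → b ∉ T → a ≠ b → T.card + 2 < n →
  IsMultiplyPretransitive M α (T.card + 2) → ¬ IsMultiplyPretransitive M α (T.card + 3) →
  (∃ K ≤ fx M (insert a (insert b T)), K ≠ ⊥ ∧ Tr K) → ∃ l L, Lines (fx M T) Tᶜ l L ∧
    ∀ K ≤ fx M T, K ≠ ⊥ → Tr K → ∀ u ∈ Tᶜ \ sp K, ∀ v ∈ Tᶜ \ sp K, u ≠ v → Disjoint (L u v) (sp K)

def GeoB : Prop := All fun α _ _ _ M => ∀ (Ω : Finset α) (l N : ℕ) (L : α → α → Finset α) (a b : α),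
  Lines M Ω l L → Ω.card = N + 2 → a ∈ Ω → b ∈ Ω → a ≠ b →
  (∀ K ≤ M, K ≠ ⊥ → Tr K → ∀ u ∈ Ω \ sp K, ∀ v ∈ Ω \ sp K, u ≠ v → Disjoint (L u v) (sp K)) →
  JH (fx M {a, b}) N l

def GeoC : Prop := All fun α _ _ _ M => ∀ (Ω : Finset α) (L : α → α → Finset α),
  Lines M Ω 3 L → ∀ x ∈ M, x ≠ 1 → Ω.card + 1 ≤ 2 * x.support.card

def Geo : Prop := All fun α _ _ n M => IsPreprimitive M α → ¬ alternatingGroup α ≤ M →
  ∀ T : Finset α, 1 ≤ T.card → T.card < n → IsMultiplyPretransitive M α T.card →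
  ¬ IsMultiplyPretransitive M α (T.card + 1) → ∃ l, (T.card = 1 → l = 0) ∧
    JH (fx M T) (n - T.card) l ∧
    (l = 3 → ∀ x ∈ fx M T, x ≠ 1 → n - T.card + 3 ≤ 2 * x.support.card)

/-- The exact degree of transitivity and the minimal degree. -/
def Deg : Prop := All fun α _ _ n M => ∀ p, p = 3 ∨ p = 5 ∨ p = 7 → ¬ p ∣ Nat.card M →
  IsPreprimitive M α → ¬ alternatingGroup α ≤ M → 3 ≤ n → ∃ t, 1 ≤ t ∧ t ≤ 6 ∧ t + 3 ≤ n ∧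
    IsMultiplyPretransitive M α t ∧ ¬ IsMultiplyPretransitive M α (t + 1) ∧
    ∀ m, (∀ m0 < m, ¬ ok1 n t m0) → ∀ x ∈ M, x ≠ 1 → m ≤ x.support.card

/-! ### Reduction -/

/-- A statement about the `p'`-groups of degree `n`, given the bound in smaller degrees. -/
def AllP (P : ∀ (α : Type) [Fintype α] [DecidableEq α], ℕ → Subgroup (Perm α) → Prop) : Prop :=
  All fun α _ _ n M => ∀ p, p = 3 ∨ p = 5 ∨ p = 7 → IH n p → ¬ p ∣ Nat.card M → 3 ≤ n → P α n M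

def Intr : Prop := AllP fun α _ _ n M => ¬ IsPretransitive M α → kc M ≤ gg n

def Blk3 : Prop := AllP fun α _ _ n M => IsPretransitive M α → ∀ B, Blk M B → 3 ≤ B.card →
  3 * B.card ≤ n → kc M ≤ gg n

def Prm : Prop := All fun α _ _ _ M => IsPretransitive M α → (∀ B, ¬ Blk M B) → IsPreprimitive M α

def MkS : Prop := All fun α _ _ _ M => IsPretransitive M α → ∀ B, Blk M B → B.card = 2 →
  ∃ (c : ℕ) (S : Sys M α (Fin c) 2), IsPretransitive (S.im ⊤) (Fin c) ∧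
    ∀ C, Blk (S.im ⊤) C → ∃ C', Blk M C' ∧ C'.card = 2 * C.card

def QQ : Prop := AllP fun α _ _ n M => IsPretransitive M α →
  (∀ B, Blk M B → B.card = 2 ∧ 4 < n) → QB n (kc M)

/-- The structure of a group with two blocks; `H`, `N` are subgroups of `M`. -/
def Half0 : Prop := All fun α _ _ n M => IsPretransitive M α → ∀ B, Blk M B → 2 * B.card = n →
  ∃ (H N : Subgroup M) (X : Subgroup (Perm B)) (Y : Subgroup (Perm (Bᶜ : Finset α))),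
    H.index = 2 ∧ N ≤ H ∧ kc H ≤ kc X * kc N ∧ Nat.card X ∣ Nat.card M ∧ Nonempty (N ≃* Y) ∧ IsPretransitive X B ∧
    (∀ C, Blk X C → ∃ C', Blk M C' ∧ C'.card = C.card) ∧
    ∀ y ∈ N, y ≠ 1 → ∀ g : M, g * y * g⁻¹ ∈ N → g ∈ H

def HalfA : Prop := AllP fun α _ _ n M => IsPretransitive M α → ∀ B, Blk M B → 2 * B.card = n →
  10 ≤ n → (∀ C, Blk M C → C.card = 2 ∨ n < 3 * C.card) → kc M ≤ gg n

def HalfB : Prop := AllP fun α _ _ n M => IsPretransitive M α → ∀ B, Blk M B → 2 * B.card = n →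
  n < 10 → kc M ≤ gg n

def Step : Prop := AllP fun _ _ _ n M => kc M ≤ gg n

end H2.Kp
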