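/- The plane computation for representations of `SL(U)` in which the non-trivial characters of a
transvection group occur with multiplicity one. -/
import Cfsg.Agent.H2.MDSL

set_option autoImplicit false
set_option linter.unusedSectionVars false

namespace H2.MD

open Module Finset Submodule

variable {F U : Type*} [Field F] [AddCommGroup U] [Module F U] [FiniteDimensional F U]

theorem li_pair {u w : U} (hu : u ≠ 0) (hw : w ∉ span F {u}) : LinearIndependent F ![u, w] := by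
  rw [LinearIndependent.pair_iff' hu]
  rintro a rfl
  exact hw (smul_mem _ _ (mem_span_singleton_self u))

theorem finrank_span_pair {u w : U} (hu : u ≠ 0) (hw : w ∉ span F {u}) :
    finrank F (span F {u, w}) = 2 := by
  have := finrank_span_eq_card (li_pair hu hw)
  rwa [Matrix.range_cons_cons_empty] at this

theorem span_pair_eq {L : Submodule F U} (hL : finrank F L = 2) {u w : U} (hu : u ≠ 0)
    (hw : w ∉ span F {u}) (h1 : u ∈ L) (h2 : w ∈ L) : span F {u, w} = L := by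
  refine eq_of_le_of_finrank_eq ?_ (by rw [hL, finrank_span_pair hu hw])
  rw [span_le]
  intro x hx
  simp only [Set.mem_insert_iff, Set.mem_singleton_iff] at hx
  rcases hx with rfl | rfl <;> assumption

theorem stab_of_pair {L : Submodule F U} (hL : finrank F L = 2) {u w : U} (hu : u ≠ 0)
    (hw : w ∉ span F {u}) (h1 : u ∈ L) (h2 : w ∈ L) (g : SpecialLinearGroup F U)
    (g1 : g.1 u ∈ L) (g2 : g.1 w ∈ L) (x : U) : g.1 x ∈ L ↔ x ∈ L := by
  have h3 : L.map (g.1 : U →ₗ[F] U) = L := by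
    refine eq_of_le_of_finrank_eq ?_ (LinearEquiv.finrank_map_eq _ _)
    conv_lhs => rw [← span_pair_eq hL hu hw h1 h2]
    rw [map_span, span_le]
    rintro _ ⟨x, hx, rfl⟩
    simp only [Set.mem_insert_iff, Set.mem_singleton_iff] at hx
    rcases hx with rfl | rfl <;> assumption
  conv_lhs => rw [← h3]
  simp

theorem mem_span_map (g : SpecialLinearGroup F U) (u x : U) :
    g.1 x ∈ span F {g.1 u} ↔ x ∈ span F {u} := by
  simp only [mem_span_singleton, ← map_smul, EmbeddingLike.apply_eq_iff_eq]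

variable [Finite F] [Fintype U]

open Classical in
theorem card_filter_mem (p : Submodule F U) :
    ((univ.filter (· ∈ p)).card : ℂ) = (Nat.card F : ℂ) ^ finrank F p := by
  rw [← Fintype.card_subtype, ← Nat.card_eq_fintype_card, ← Nat.cast_pow]
  congr 1
  exact Module.natCard_eq_pow_finrank (K := F) (V := p)

open Classical in
theorem card_filter_diff {p p' : Submodule F U} (h : p ≤ p') :
    ((univ.filter fun x => x ∈ p' ∧ x ∉ p).card : ℂ) =
      (Nat.card F : ℂ) ^ finrank F p' - (Nat.card F : ℂ) ^ finrank F p := by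
  rw [← card_filter_mem, ← card_filter_mem, eq_sub_iff_add_eq, ← Nat.cast_add,
    ← Finset.card_union_of_disjoint]
  · congr 2
    ext x
    simp only [mem_union, mem_filter, mem_univ, true_and]
    have := @h x
    tauto
  · rw [Finset.disjoint_filter]
    tauto

open Classical in
theorem card_filter_notMem (p : Submodule F U) :
    ((univ.filter (· ∉ p)).card : ℂ) =
      (Nat.card F : ℂ) ^ finrank F U - (Nat.card F : ℂ) ^ finrank F p := by
  have := card_filter_diff (F := F) (p := p) (p' := ⊤) le_top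
  simpa using this

theorem qne (F : Type*) [Field F] [Finite F] : (Nat.card F : ℂ) ≠ 0 :=
  Nat.cast_ne_zero.2 Nat.card_pos.ne'

section
variable {V : Type*} [AddCommGroup V] [Module ℂ V]

theorem tr_sum_const {ι : Type*} (s : Finset ι) (T : ι → End ℂ V) (c : ℂ)
    (h : ∀ i ∈ s, tr (T i) = c) : tr (∑ i ∈ s, T i) = s.card * c := by
  unfold tr at h ⊢
  rw [map_sum, Finset.sum_congr rfl h, Finset.sum_const, nsmul_eq_mul]

theorem tr_add (S T : End ℂ V) : tr (S + T) = tr S + tr T := map_add _ _ _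
theorem tr_sub (S T : End ℂ V) : tr (S - T) = tr S - tr T := map_sub _ _ _
theorem tr_smul (c : ℂ) (T : End ℂ V) : tr (c • T) = c * tr T := map_smul _ _ _

theorem one_sub_idem {A : Type*} [Ring A] {e : A} (h : e * e = e) : (1 - e) * (1 - e) = 1 - e := by
  rw [mul_sub, sub_mul, sub_mul, h]
  simp

end

variable {V : Type*} [AddCommGroup V] [Module ℂ V] [FiniteDimensional ℂ V] (ψ : AddChar F ℂ)
  (R : SpecialLinearGroup F U →* End ℂ V)

/-- The average over the transvections with centre `u` fixing `L` pointwise. -/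
noncomputable def PP (L : Submodule F U) (u : U) : End ℂ V :=
  ide ψ (tau R L.dualAnnihilator u) (0 : Dual F _)

open Classical in
/-- The part of `V` on which the transvections with centre `u` act through a non-trivial
character coming from `L`. -/
noncomputable def ff (L : Submodule F U) (u : U) : End ℂ V :=
  (Nat.card F : ℂ)⁻¹ • ∑ w ∈ univ.filter (fun w => w ∈ L ∧ w ∉ span F {u}), ee ψ R u w

open Classical in
/-- The sum of the `ff L u`. -/
noncomputable def ZZ (L : Submodule F U) : End ℂ V :=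
  ∑ u ∈ univ.filter (fun u => u ∈ L ∧ u ∉ (⊥ : Submodule F U)), ff ψ R L u

/-- The multiplicity one hypothesis. -/
structure Mult1 : Prop where
  hψ : ψ ≠ 1
  dim : 3 ≤ finrank F U
  one : ∀ u w, u ≠ 0 → w ∉ span F {u} → tr (ee ψ R u w) = 1
  th1 : ∀ u w, u ≠ 0 → w ∉ span F {u} → ∀ φ : Dual F U, φ u = 0 → φ w = 0 →
    ee ψ R u w * R (tv φ w) = ee ψ R u w
  th2 : ∀ u w v, u ≠ 0 → w ∉ span F {u} → v ∉ span F {u, w} → ∀ φ : Dual F U, φ u = 0 → φ w = 0 →
    φ v = 0 → ee ψ R u w * R (tv φ v) = ee ψ R u w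

variable {ψ R} {L : Submodule F U}

theorem ann_le {u : U} (hu : u ∈ L) : L.dualAnnihilator ≤ An F u := fun φ hφ =>
  (mem_dualAnnihilator φ).1 hφ u hu

theorem ann_zero (φ : L.dualAnnihilator) {u : U} (hu : u ∈ L) : φ.1 u = 0 :=
  (mem_dualAnnihilator φ.1).1 φ.2 u hu

open Classical in
theorem one_sub_pi (hψ : ψ ≠ 1) {u : U} (hu : u ≠ 0) :
    (Nat.card F : ℂ) • (1 - ee ψ R u 0) = ∑ w ∈ univ.filter (· ∉ span F {u}), ee ψ R u w := by
  rw [smul_sub, ← sum_ee (R := R) hψ hu,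
    ← Finset.sum_filter_add_sum_filter_not univ (· ∈ span F {u})]
  have : ∑ w ∈ univ.filter (· ∈ span F {u}), ee ψ R u w = (Nat.card F : ℂ) • ee ψ R u 0 := by
    rw [Finset.sum_congr rfl (g := fun _ => ee ψ R u 0), Finset.sum_const,
      ← Nat.cast_smul_eq_nsmul ℂ, card_filter_mem, finrank_span_singleton hu, pow_one]
    intro w hw
    exact ee_congr (by simpa using hw)
  rw [this, add_sub_cancel_left]

theorem PP_comm_ee {u : U} (hu : u ∈ L) (w : U) :
    ee ψ R u w * PP ψ R L u = PP ψ R L u * ee ψ R u w :=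
  comm_ide (fun φ => by
    simp only [tau]
    rw [ee_mul_tv (ann_zero φ hu), tv_mul_ee (ann_zero φ hu)]) _

theorem ee_mul_PP_of_mem {u w : U} (hu : u ∈ L) (hw : w ∈ L) :
    ee ψ R u w * PP ψ R L u = ee ψ R u w :=
  mul_ide_zero fun φ => by
    simp only [tau]
    rw [ee_mul_tv (ann_zero φ hu), ann_zero φ hw]
    simp

theorem ee_mul_PP_of_notMem (hψ : ψ ≠ 1) {u w : U} (hu : u ∈ L) (hw : w ∉ L) :
    ee ψ R u w * PP ψ R L u = 0 := by
  refine mul_ide_eq_zero hψ (γ := ev _ w) (fun φ => ee_mul_tv (ann_zero φ hu)) fun h => ?_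
  obtain ⟨φ, h1, h2⟩ := exists_dual hw
  have := LinearMap.congr_fun h ⟨φ, (mem_dualAnnihilator φ).2 h2⟩
  simp [h1] at this

theorem tv_comm_PP {u v : U} (hu : u ∈ L) (hv : v ∈ L) (φ : L.dualAnnihilator) :
    R (tv φ.1 v) * PP ψ R L u = PP ψ R L u * R (tv φ.1 v) :=
  comm_ide (fun φ' => by
    simp only [tau, ← map_mul]
    rw [tv_comm (ann_zero φ hv) (ann_zero φ' hu) (ann_zero φ hu) (ann_zero φ' hv)]) _

theorem PP_comm {u v : U} (hu : u ∈ L) (hv : v ∈ L) :
    PP ψ R L u * PP ψ R L v = PP ψ R L v * PP ψ R L u :=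
  comm_ide (fun φ => (tv_comm_PP hu hv φ).symm) _

theorem tv_mul_PP {u : U} (hu : u ∈ L) (φ : L.dualAnnihilator) :
    R (tv φ.1 u) * PP ψ R L u = PP ψ R L u := by
  have := mul_ide (ψ := ψ) (isRep_tau R (ann_le hu)) (0 : Dual F _) φ
  simpa [PP, tau] using this

theorem tv_split {u w v : U} (hv : v ∈ span F {u, w}) {φ : Dual F U} (h1 : φ u = 0)
    (h2 : φ w = 0) : ∃ a b : F, tv φ v = tv (a • φ) u * tv (b • φ) w := by
  obtain ⟨a, b, rfl⟩ := mem_span_pair.1 hv
  exact ⟨a, b, by rw [tv_add_right (by simp [h1]) (by simp [h2]), tv_smul h1, tv_smul h2]⟩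

section Pair

variable {u₁ u₂ : U}

theorem tv_mul_P (hL : span F {u₁, u₂} = L) {u : U} (hu : u ∈ L) (φ : L.dualAnnihilator) :
    R (tv φ.1 u) * (PP ψ R L u₁ * PP ψ R L u₂) = PP ψ R L u₁ * PP ψ R L u₂ := by
  have h1 : u₁ ∈ L := hL ▸ subset_span (by simp)
  have h2 : u₂ ∈ L := hL ▸ subset_span (by simp)
  obtain ⟨a, b, h⟩ := tv_split (hL ▸ hu) (ann_zero φ h1) (ann_zero φ h2)
  have e1 := tv_mul_PP (ψ := ψ) (R := R) h1 (a • φ)
  have e2 := tv_mul_PP (ψ := ψ) (R := R) h2 (b • φ)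
  have e3 := tv_comm_PP (ψ := ψ) (R := R) h1 h2 (b • φ)
  simp only [SetLike.val_smul] at e1 e2 e3
  rw [h, map_mul, mul_assoc, ← mul_assoc (R (tv (b • φ.1) u₂)), e3, mul_assoc, e2, ← mul_assoc, e1]

theorem P_mul_tv (hL : span F {u₁, u₂} = L) {u : U} (hu : u ∈ L) (φ : L.dualAnnihilator) :
    (PP ψ R L u₁ * PP ψ R L u₂) * R (tv φ.1 u) = PP ψ R L u₁ * PP ψ R L u₂ := by
  have h1 : u₁ ∈ L := hL ▸ subset_span (by simp)
  have h2 : u₂ ∈ L := hL ▸ subset_span (by simp)
  rw [mul_assoc, ← tv_comm_PP h2 hu, ← mul_assoc, ← tv_comm_PP h1 hu, mul_assoc, tv_mul_P hL hu]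

theorem PP_mul_P (hL : span F {u₁, u₂} = L) {u : U} (hu : u ∈ L) :
    PP ψ R L u * (PP ψ R L u₁ * PP ψ R L u₂) = PP ψ R L u₁ * PP ψ R L u₂ :=
  ide_zero_mul (tv_mul_P hL hu)

theorem P_mul_PP (hL : span F {u₁, u₂} = L) {u : U} (hu : u ∈ L) :
    (PP ψ R L u₁ * PP ψ R L u₂) * PP ψ R L u = PP ψ R L u₁ * PP ψ R L u₂ :=
  mul_ide_zero (P_mul_tv hL hu)

theorem P_idem (hL : span F {u₁, u₂} = L) :
    (PP ψ R L u₁ * PP ψ R L u₂) * (PP ψ R L u₁ * PP ψ R L u₂) = PP ψ R L u₁ * PP ψ R L u₂ := by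
  have h1 : u₁ ∈ L := hL ▸ subset_span (by simp)
  have h2 : u₂ ∈ L := hL ▸ subset_span (by simp)
  rw [← mul_assoc, P_mul_PP hL h1, P_mul_PP hL h2]

theorem Mult1.ee_mul_tv_of_mem (H : Mult1 ψ R) (hL : finrank F L = 2) {u w v : U} (hu : u ≠ 0)
    (hw : w ∉ span F {u}) (h1 : u ∈ L) (h2 : w ∈ L) (h3 : v ∈ L) (φ : L.dualAnnihilator) :
    ee ψ R u w * R (tv φ.1 v) = ee ψ R u w := by
  have a1 := ann_zero φ h1
  have a2 := ann_zero φ h2
  obtain ⟨a, b, h⟩ := tv_split (span_pair_eq hL hu hw h1 h2 ▸ h3) a1 a2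
  rw [h, map_mul, ← mul_assoc, ee_mul_tv (by simp [a1])]
  simp only [LinearMap.smul_apply, a2, smul_zero, AddChar.map_zero_eq_one, one_smul]
  exact H.th1 u w hu hw _ (by simp [a1]) (by simp [a2])

open Classical in
theorem Mult1.ff_eq (H : Mult1 ψ R) (hL : span F {u₁, u₂} = L) (hL2 : finrank F L = 2) {u : U}
    (hu : u ≠ 0) (h : u ∈ L) :
    (1 - ee ψ R u 0) * (PP ψ R L u₁ * PP ψ R L u₂) = ff ψ R L u ∧
      (PP ψ R L u₁ * PP ψ R L u₂) * (1 - ee ψ R u 0) = ff ψ R L u := by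
  have h1 : u₁ ∈ L := hL ▸ subset_span (by simp)
  have h2 : u₂ ∈ L := hL ▸ subset_span (by simp)
  have e0 : 1 - ee ψ R u 0 =
      (Nat.card F : ℂ)⁻¹ • ∑ w ∈ univ.filter (· ∉ span F {u}), ee ψ R u w := by
    rw [← one_sub_pi H.hψ hu, smul_smul, inv_mul_cancel₀ (qne F), one_smul]
  have e1 : ∀ w, w ∉ span F {u} → ee ψ R u w * (PP ψ R L u₁ * PP ψ R L u₂) =
      if w ∈ L then ee ψ R u w else 0 := by
    intro w hw
    split_ifs with hwL
    · have : ∀ v ∈ L, ee ψ R u w * PP ψ R L v = ee ψ R u w := fun v hv =>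
        mul_ide_zero (H.ee_mul_tv_of_mem hL2 hu hw h hwL hv)
      rw [← mul_assoc, this _ h1, this _ h2]
    · rw [← PP_mul_P hL h, ← mul_assoc, ee_mul_PP_of_notMem H.hψ h hwL, zero_mul]
  have e2 : ∀ w, w ∉ span F {u} → (PP ψ R L u₁ * PP ψ R L u₂) * ee ψ R u w =
      if w ∈ L then ee ψ R u w else 0 := by
    intro w hw
    split_ifs with hwL
    · have : ∀ v ∈ L, PP ψ R L v * ee ψ R u w = ee ψ R u w := fun v hv =>
        ide_zero_mul fun φ => by
          simp only [tau]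
          rw [tv_comm_ee (ann_zero φ h) (ann_zero φ hwL) (ann_zero φ hv)]
          exact H.ee_mul_tv_of_mem hL2 hu hw h hwL hv φ
      rw [mul_assoc, this _ h2, this _ h1]
    · rw [← P_mul_PP hL h, mul_assoc, ← PP_comm_ee h, ee_mul_PP_of_notMem H.hψ h hwL, mul_zero]
  have e3 : ∑ w ∈ univ.filter (· ∉ span F {u}), (if w ∈ L then ee ψ R u w else 0) =
      ∑ w ∈ univ.filter (fun w => w ∈ L ∧ w ∉ span F {u}), ee ψ R u w := by
    rw [← Finset.sum_filter, Finset.filter_filter]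
    congr 1
    ext w
    simp [and_comm]
  unfold ff
  rw [e0, smul_mul_assoc, mul_smul_comm, Finset.sum_mul, Finset.mul_sum, ← e3]
  constructor
  · congr 1
    exact Finset.sum_congr rfl fun w hw => e1 w (by simpa using hw)
  · congr 1
    exact Finset.sum_congr rfl fun w hw => e2 w (by simpa using hw)

end Pair

theorem conj_ff (g : SpecialLinearGroup F U) (hg : ∀ x, g.1 x ∈ L ↔ x ∈ L) (u : U) :
    R g * ff ψ R L u = ff ψ R L (g.1 u) * R g := by
  unfold ff
  rw [mul_smul_comm, smul_mul_assoc, Finset.mul_sum, Finset.sum_mul]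
  congr 1
  refine Finset.sum_equiv g.1.toEquiv (fun w => ?_) (fun w _ => conj_ee g u w)
  simp [hg, mem_span_map]

theorem comm_ZZ (g : SpecialLinearGroup F U) (hg : ∀ x, g.1 x ∈ L ↔ x ∈ L) :
    R g * ZZ ψ R L = ZZ ψ R L * R g := by
  unfold ZZ
  rw [Finset.mul_sum, Finset.sum_mul]
  refine Finset.sum_equiv g.1.toEquiv (fun w => ?_) (fun w _ => conj_ff g hg w)
  simp [hg]

theorem cancel_R {g : SpecialLinearGroup F U} {S T : End ℂ V} (h : S * R g = T * R g) : S = T := by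
  have := congrArg (· * R g⁻¹) h
  simpa [mul_assoc, ← map_mul] using this

theorem Mult1.exists_lam (H : Mult1 ψ R) (hL : finrank F L = 2) :
    ∃ lam : ℂ, ∀ u w, u ≠ 0 → w ∉ span F {u} → u ∈ L → w ∈ L →
      ee ψ R u w * ZZ ψ R L = lam • ee ψ R u w := by
  by_cases hex : ∃ u w, u ≠ 0 ∧ w ∉ span F {u} ∧ u ∈ L ∧ w ∈ L
  swap
  · exact ⟨0, fun u w a b c d => absurd ⟨u, w, a, b, c, d⟩ hex⟩
  obtain ⟨u₁, u₂, a1, a2, a3, a4⟩ := hex
  have hc : ZZ ψ R L * ee ψ R u₁ u₂ = ee ψ R u₁ u₂ * ZZ ψ R L := by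
    refine comm_ide (fun φ => (comm_ZZ _ fun x => ?_).symm) _
    rw [tv_apply (mem_An.1 φ.2)]
    exact L.add_mem_iff_left (L.smul_mem _ a3)
  have h1 := rank_one_mul (ee_idem H.hψ u₁ u₂) (H.one _ _ a1 a2) hc
  refine ⟨tr (ee ψ R u₁ u₂ * ZZ ψ R L), fun u w b1 b2 b3 b4 => ?_⟩
  generalize tr (ee ψ R u₁ u₂ * ZZ ψ R L) = lam at h1
  obtain ⟨g, g1, g2⟩ := exists_sl_pair H.dim (li_pair a1 a2) (li_pair b1 b2)
  have hg := stab_of_pair hL a1 a2 a3 a4 g (g1 ▸ b3) (g2 ▸ b4)
  have e := conj_ee (ψ := ψ) (R := R) g u₁ u₂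
  rw [g1, g2] at e
  apply cancel_R (R := R) (g := g)
  rw [mul_assoc, ← comm_ZZ g hg, ← mul_assoc, ← e, mul_assoc, h1, smul_mul_assoc, ← e,
    mul_smul_comm]

theorem Mult1.tr_ff (H : Mult1 ψ R) (hL : finrank F L = 2) {u : U} (hu : u ≠ 0) (h : u ∈ L) :
    tr (ff ψ R L u) = Nat.card F - 1 := by
  classical
  unfold ff tr
  rw [map_smul, map_sum, Finset.sum_congr rfl (g := fun _ => 1), Finset.sum_const,
    nsmul_eq_mul, card_filter_diff ((span_singleton_le_iff_mem _ _).2 h),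
    hL, finrank_span_singleton hu]
  · have := qne F
    simp only [smul_eq_mul]
    field_simp
  · intro w hw
    exact H.one u w hu (by simp at hw; exact hw.2)

theorem Mult1.plane (H : Mult1 ψ R) {u₁ u₂ : U} (h1 : u₁ ≠ 0) (h2 : u₂ ∉ span F {u₁}) :
    ∃ (lam : ℂ) (g : ℕ), Nat.card F ≤ g + 1 ∧
      lam * g = ((Nat.card F : ℂ) ^ 2 - 1) * (Nat.card F - 1) ∧
      lam = (Nat.card F - 1) +
        Nat.card F * tr (ff ψ R (span F {u₁, u₂}) u₁ * ff ψ R (span F {u₁, u₂}) u₂) := by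
  classical
  set L := span F {u₁, u₂} with hLdef
  have hL : finrank F L = 2 := finrank_span_pair h1 h2
  have m1 : u₁ ∈ L := subset_span (by simp)
  have m2 : u₂ ∈ L := subset_span (by simp)
  obtain ⟨lam, hlam⟩ := H.exists_lam hL
  have q1 : (Nat.card F : ℂ) - 1 ≠ 0 := by
    have : 1 < Nat.card F := Finite.one_lt_card
    rw [sub_ne_zero]
    exact_mod_cast this.ne'
  have a1 : ∀ u, u ≠ 0 → u ∈ L → ff ψ R L u * ZZ ψ R L = lam • ff ψ R L u := by
    intro u hu huL
    unfold ff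
    rw [smul_mul_assoc, smul_comm lam, Finset.sum_mul]
    congr 1
    rw [Finset.smul_sum]
    refine Finset.sum_congr rfl fun w hw => ?_
    simp only [mem_filter, mem_univ, true_and] at hw
    exact hlam u w hu hw.2 huL hw.1
  have a2 : ZZ ψ R L * ZZ ψ R L = lam • ZZ ψ R L := by
    conv_lhs => rw [show ZZ ψ R L * ZZ ψ R L = (∑ u ∈ univ.filter
      (fun u => u ∈ L ∧ u ∉ (⊥ : Submodule F U)), ff ψ R L u) * ZZ ψ R L from rfl]
    rw [Finset.sum_mul]
    conv_rhs => unfold ZZ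
    rw [Finset.smul_sum]
    refine Finset.sum_congr rfl fun u hu => ?_
    simp only [mem_filter, mem_univ, true_and, mem_bot] at hu
    exact a1 u hu.2 hu.1
  have a3 : tr (ZZ ψ R L) = ((Nat.card F : ℂ) ^ 2 - 1) * (Nat.card F - 1) := by
    unfold ZZ tr
    rw [map_sum, Finset.sum_congr rfl (g := fun _ => (Nat.card F : ℂ) - 1), Finset.sum_const,
      nsmul_eq_mul, card_filter_diff bot_le, hL, finrank_bot, pow_zero]
    intro u hu
    simp only [mem_filter, mem_univ, true_and, mem_bot] at hu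
    exact H.tr_ff hL hu.2 hu.1
  have idem : ∀ u, u ≠ 0 → u ∈ L → ff ψ R L u * ff ψ R L u = ff ψ R L u := by
    intro u hu huL
    obtain ⟨e1, e2⟩ := H.ff_eq (u₁ := u₁) (u₂ := u₂) rfl hL hu huL
    have e3 := one_sub_idem (ee_idem (R := R) H.hψ u 0)
    have e4 := P_idem (ψ := ψ) (R := R) (u₁ := u₁) (u₂ := u₂) rfl
    rw [← hLdef] at e1 e2 e4
    generalize PP ψ R L u₁ * PP ψ R L u₂ = P at e1 e2 e4
    calc ff ψ R L u * ff ψ R L u = (1 - ee ψ R u 0) * P * (P * (1 - ee ψ R u 0)) := by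
          rw [e1, e2]
      _ = (1 - ee ψ R u 0) * (P * (1 - ee ψ R u 0)) := by rw [mul_assoc, ← mul_assoc P, e4]
      _ = _ := by rw [e2, ← e1, ← mul_assoc, e3]
  have hlam0 : lam ≠ 0 := by
    rintro rfl
    have hn : IsNilpotent (ZZ ψ R L) := ⟨2, by rw [sq, a2, zero_smul]⟩
    have := (LinearMap.isNilpotent_trace_of_isNilpotent hn).eq_zero
    rw [show LinearMap.trace ℂ V (ZZ ψ R L) = tr (ZZ ψ R L) from rfl, a3] at this
    rcases mul_eq_zero.1 this with h | h
    · have h' : ((Nat.card F : ℂ) - 1) * (Nat.card F + 1) = 0 := by linear_combination h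
      rcases mul_eq_zero.1 h' with h | h
      · exact q1 h
      · exact absurd (by exact_mod_cast h) (Nat.succ_ne_zero (Nat.card F))
    · exact q1 h
  set E := lam⁻¹ • ZZ ψ R L with hE
  have b1 : E * E = E := by
    rw [hE, smul_mul_assoc, mul_smul_comm, a2, smul_smul, smul_smul]
    congr 1
    field_simp
  have b2 : E * ff ψ R L u₁ = ff ψ R L u₁ := by
    have : ZZ ψ R L * ff ψ R L u₁ = ff ψ R L u₁ * ZZ ψ R L := by
      unfold ff
      rw [mul_smul_comm, smul_mul_assoc, Finset.mul_sum, Finset.sum_mul]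
      congr 1
      refine Finset.sum_congr rfl fun w _ => comm_ide (fun φ => (comm_ZZ _ fun x => ?_).symm) _
      rw [tv_apply (mem_An.1 φ.2)]
      exact L.add_mem_iff_left (L.smul_mem _ m1)
    rw [hE, smul_mul_assoc, this, a1 u₁ h1 m1, smul_smul, inv_mul_cancel₀ hlam0, one_smul]
  refine ⟨lam, finrank ℂ (LinearMap.range E), ?_, ?_, ?_⟩
  · have c1 := Submodule.finrank_mono (range_le_of_mul_eq b2)
    have c2 := tr_idem (idem u₁ h1 m1)
    rw [H.tr_ff hL h1 m1, sub_eq_iff_eq_add] at c2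
    have c3 : Nat.card F = finrank ℂ (LinearMap.range (ff ψ R L u₁)) + 1 := by exact_mod_cast c2
    omega
  · rw [← tr_idem b1, hE, ← a3]
    unfold tr
    rw [map_smul, smul_eq_mul, mul_inv_cancel_left₀ hlam0]
  · have c1 : tr (ff ψ R L u₁ * ZZ ψ R L) = lam * (Nat.card F - 1) := by
      rw [a1 u₁ h1 m1, ← H.tr_ff hL h1 m1]
      unfold tr
      rw [map_smul, smul_eq_mul]
    set σ := tr (ff ψ R L u₁ * ff ψ R L u₂) with hσ
    have c2 : tr (ff ψ R L u₁ * ZZ ψ R L) = (Nat.card F - 1) * (Nat.card F - 1) +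
        ((Nat.card F : ℂ) ^ 2 - Nat.card F) * σ := by
      unfold ZZ
      rw [Finset.mul_sum, ← Finset.sum_filter_add_sum_filter_not _ (· ∈ span F {u₁}),
        Finset.filter_filter, Finset.filter_filter, tr_add,
        tr_sum_const _ _ ((Nat.card F : ℂ) - 1), tr_sum_const _ _ σ]
      · have d1 := card_filter_diff (F := F) (p := ⊥) (p' := span F {u₁}) bot_le
        have d2 := card_filter_diff (F := F) (p := span F {u₁}) (p' := L)
          ((span_singleton_le_iff_mem _ _).2 m1)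
        rw [finrank_span_singleton h1] at d1 d2
        rw [finrank_bot, pow_zero, pow_one] at d1
        rw [hL, pow_one] at d2
        have d3 : univ.filter (fun x => (x ∈ L ∧ x ∉ (⊥ : Submodule F U)) ∧ x ∈ span F {u₁}) =
            univ.filter (fun x => x ∈ span F {u₁} ∧ x ∉ (⊥ : Submodule F U)) :=
          Finset.filter_congr fun x _ => ⟨fun h => ⟨h.2, h.1.2⟩,
            fun h => ⟨⟨(span_singleton_le_iff_mem _ _).2 m1 h.1, h.2⟩, h.1⟩⟩
        have d4 : univ.filter (fun x => (x ∈ L ∧ x ∉ (⊥ : Submodule F U)) ∧ x ∉ span F {u₁}) =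
            univ.filter (fun x => x ∈ L ∧ x ∉ span F {u₁}) :=
          Finset.filter_congr fun x _ => ⟨fun h => ⟨h.1.1, h.2⟩,
            fun h => ⟨⟨h.1, fun h' => h.2 (bot_le (a := span F {u₁}) h')⟩, h.2⟩⟩
        rw [d3, d4, d1, d2]
      · intro u hu
        simp only [mem_filter, mem_univ, true_and, mem_bot] at hu
        obtain ⟨g, g1, g2⟩ := exists_sl_pair H.dim (li_pair h1 h2) (li_pair h1 hu.2)
        have hg := stab_of_pair hL h1 h2 m1 m2 g (g1.symm ▸ m1) (g2 ▸ hu.1.1)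
        refine (tr_conj R (g := g) ?_).symm
        rw [← mul_assoc, conj_ff g hg, mul_assoc, conj_ff g hg, g1, g2, mul_assoc]
      · intro u hu
        simp only [mem_filter, mem_univ, true_and, mem_bot] at hu
        obtain ⟨c, rfl⟩ := mem_span_singleton.1 hu.2
        have hc : c ≠ 0 := by
          rintro rfl
          simp at hu
        have : ff ψ R L (c • u₁) = ff ψ R L u₁ := by
          rw [← (H.ff_eq (u₁ := u₁) (u₂ := u₂) rfl hL hu.1.2 hu.1.1).1,
            ← (H.ff_eq (u₁ := u₁) (u₂ := u₂) rfl hL h1 m1).1, ee_smul_zero hc]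
        rw [this, idem u₁ h1 m1]
        exact H.tr_ff hL h1 m1
    apply mul_right_cancel₀ q1
    rw [← c1, c2]
    ring

end H2.MD
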