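import Cfsg.Agent.H2.PrRed
import Cfsg.Agent.H1.PrFeit
import Cfsg.Agent.H3.PrNTI
import Cfsg.Agent.H44.PrTI

/-! Feit's theorem on linear groups of degree below `p - 1`. -/

set_option autoImplicit false

namespace H2.PR

universe u

theorem st : JobSt.{u} := H1.PR2.jobSt jobEig

theorem feit : JobFeit.{u} :=
  H1.PR2.jobFeit st (H3.PrN.jobNTI H44.PE.jobEm st jobC) (H44.PT.jobTI' st)

theorem split : JobSplit.{u} := H1.PR2.jobSplit st feit

end H2.PR
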