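import Cfsg.Agent.H2.PrKit

/-! Linear groups of degree below `p - 1`, part 2: Feit's reduction to a Sylow subgroup of order
`p` and the small cases (proofs on paper in `blueprints/PRIME.md`). -/

set_option autoImplicit false

namespace H2.PR

open Cfsg H28 H35 H39 H45 H87 Module
open scoped ComplexConjugate

universe u

section defs

variable {G : Type*} [Group G]

/-- The multiplicity of the eigenvalue `ω` of `u` (for `u ^ p = 1`, `ω ^ p = 1`). -/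
noncomputable def em (p : ℕ) (χ : G → ℂ) (u : G) (ω : ℂ) : ℕ :=
  ⌊((p : ℂ)⁻¹ * ∑ i ∈ Finset.range p, χ (u ^ i) * (ω ^ i)⁻¹).re⌋₊

/-- `O_p(G)` has index at most `p` in a Sylow `p`-subgroup. -/
def FB (p : ℕ) (G : Type*) [Group G] : Prop :=
  ∀ P : Sylow p G, Nat.card (P : Subgroup G) ∣ p * Nat.card (pCore p G)

/-- Structure of a linear group generated by `p`-elements with `|P : O_p| = p`. -/
structure St (p : ℕ) (χ ψ θ : G → ℂ) : Prop where
  irr : IsIrrCharacter G ψ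
  chr : IsCharacter G θ
  add : χ = ψ + θ
  ker : commutator G ≤ charKer θ
  cen : pCore p G ≤ Subgroup.center G
  sup : ∀ g : G, ∃ a ∈ commutator G, ∃ q ∈ pCore p G, g = a * q
  inf : ∀ g ∈ commutator G, g ∈ pCore p G → g = 1
  dvd : p ∣ Nat.card (commutator G)
  syl : ¬ p ^ 2 ∣ Nat.card (commutator G)
  gen : commutator G ≤ Subgroup.closure {s | s ∈ commutator G ∧ orderOf s = p}
  perf : ⁅commutator G, commutator G⁆ = commutator G
  faith : ∀ a ∈ commutator G, ψ a = ψ 1 → a = 1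
  big : p ≤ 2 * charDegree ψ + 1
  eig : ∀ s ∈ commutator G, orderOf s = p →
    (∀ ω : ℂ, ω ^ p = 1 → em p ψ s ω ≤ 1) ∧ (2 * charDegree ψ + 1 = p → em p ψ s 1 = 0)

/-- A minimal counterexample to Feit's theorem. -/
structure Mc (p : ℕ) (P : Sylow p G) (χ : G → ℂ) : Prop where
  irr : IsIrrCharacter G χ
  ker : charKer χ = ⊥
  lt : charDegree χ + 1 < p
  core : pCore p G = ⊥
  gen : Gen (P : Subgroup G)
  big : p ^ 2 ∣ Nat.card (P : Subgroup G)
  sub : ∀ L : Subgroup G, L ≠ ⊤ → FB p L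

end defs

/-- Eigenvalue multiplicities. -/
def JobEm : Prop :=
  ∀ (G : Type u) [Group G] [Finite G] (p : ℕ) [Fact p.Prime] (χ : G → ℂ), IsCharacter G χ →
    (∀ (u : G) (ω : ℂ), u ^ p = 1 → ω ^ p = 1 →
      (em p χ u ω : ℂ) = (p : ℂ)⁻¹ * ∑ i ∈ Finset.range p, χ (u ^ i) * (ω ^ i)⁻¹) ∧
    (∀ u : G, u ^ p = 1 → ∑ ω ∈ Polynomial.nthRootsFinset p (1 : ℂ), em p χ u ω = charDegree χ) ∧
    (∀ (u v : G) (ω ω' : ℂ), u ^ p = 1 → v ^ p = 1 → ω ^ p = 1 → ω' ^ p = 1 → IsIrrCharacter G χ →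
      1 < charDegree χ → Subgroup.closure {u, v} = ⊤ → em p χ u ω + em p χ v ω' ≤ charDegree χ) ∧
    ∀ (x a b : G) (j : ℕ), x ^ p = 1 → Commute a x → Commute b x →
      ((a * b * a⁻¹ * b⁻¹) ^ j) ^ p = 1 → (∀ ω : ℂ, ω ^ p = 1 → ω ≠ 1 → em p χ x ω ≤ 1) →
      charDegree χ ≤ em p χ x 1 + em p χ ((a * b * a⁻¹ * b⁻¹) ^ j) 1

/-- Sylow subgroup of order `p`: centraliser and eigenvalues. -/
def JobEig : Prop :=
  ∀ (G : Type u) [Group G] [Finite G] (p : ℕ) [Fact p.Prime] (P : Sylow p G),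
    Nat.card (P : Subgroup G) = p → ¬ (P : Subgroup G).Normal → ∀ ψ : G → ℂ, IsIrrCharacter G ψ →
    charKer ψ = ⊥ → charDegree ψ + 1 < p →
      Cpl P (Subgroup.center G) ∧ p ≤ 2 * charDegree ψ + 1 ∧ ∀ s ∈ (P : Subgroup G), s ≠ 1 →
        (∀ ω : ℂ, ω ^ p = 1 → em p ψ s ω ≤ 1) ∧ (2 * charDegree ψ + 1 = p → em p ψ s 1 = 0)

/-- `p`-regular elements centralising `P` centralise all conjugates of `P`. -/
def JobC : Prop :=
  ∀ (G : Type u) [Group G] [Finite G] (p : ℕ) [Fact p.Prime] (P : Sylow p G),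
    Nat.card (P : Subgroup G) = p → ∀ χ : G → ℂ, IsCharacter G χ → charKer χ = ⊥ →
    charDegree χ + 1 < p → ∀ v ∈ Cen (P : Subgroup G), ¬ p ∣ orderOf v →
      ∀ s : G, orderOf s = p → Commute v s

def JobSt : Prop :=
  ∀ (G : Type u) [Group G] [Finite G] (p : ℕ) [Fact p.Prime] (P : Sylow p G) (χ : G → ℂ),
    IsCharacter G χ → charKer χ = ⊥ → charDegree χ + 1 < p → Gen (P : Subgroup G) →
    ¬ (P : Subgroup G).Normal → FB p G → ∃ ψ θ, St p χ ψ θ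

/-- In a minimal counterexample centralisers of `p`-elements are `p`-closed. -/
def JobNTI : Prop :=
  ∀ (G : Type u) [Group G] [Finite G] (p : ℕ) [Fact p.Prime] (P : Sylow p G) (χ : G → ℂ),
    Mc p P χ → ∀ x ∈ (P : Subgroup G), x ≠ 1 →
      Subgroup.centralizer ({x} : Set G) ≤ Nor (P : Subgroup G)

/-- Statement S0898. -/
def Job898 : Prop :=
  ∀ {G : Type u} [Group G] [Fintype G] (H : Subgroup G) [Fintype H]
    (_ : ∀ a ∈ H, ∀ b ∈ H, a * b = b * a) (_ : H ⊓ Subgroup.center G = ⊥)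
    (_ : ∀ g : G, g ∉ Subgroup.center G → ∀ a b : G,
      Subgroup.centralizer ({g} : Set G) ⊓ H.map (MulAut.conj a).toMonoidHom ≠ ⊥ →
      Subgroup.centralizer ({g} : Set G) ⊓ H.map (MulAut.conj b).toMonoidHom ≠ ⊥ →
      H.map (MulAut.conj a).toMonoidHom = H.map (MulAut.conj b).toMonoidHom)
    (χ : G → ℂ) (_ : IsIrrCharacter G χ) (_ : ∃ h ∈ H, χ h ≠ χ 1),
    (χ 1).re ^ 2 > (Nat.card H : ℝ) * (classInner (fun h : H => χ h) (fun _ => 1)).re ^ 2 ∧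
      (χ 1 ≠ 1 → (∀ M : Subgroup G, M.Normal → H ≤ M → M = ⊤) →
        (1 + (χ 1).re) ^ 2 > (Nat.card H : ℝ))

def JobTI : Prop :=
  ∀ (G : Type u) [Group G] [Finite G] (p : ℕ) [Fact p.Prime] (P : Sylow p G) (χ : G → ℂ),
    Mc p P χ → (∀ x ∈ (P : Subgroup G), x ≠ 1 →
      Subgroup.centralizer ({x} : Set G) ≤ Nor (P : Subgroup G)) → False

/-- Feit's theorem. -/
def JobFeit : Prop :=
  ∀ (G : Type u) [Group G] [Finite G] (p : ℕ) [Fact p.Prime] (χ : G → ℂ), IsCharacter G χ →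
    charKer χ = ⊥ → charDegree χ + 1 < p → FB p G

/-- Splitting off the central `p`-part. -/
def JobSplit : Prop :=
  ∀ (G : Type u) [Group G] [Finite G] (p : ℕ) [Fact p.Prime] (P : Sylow p G) (χ : G → ℂ),
    IsIrrCharacter G χ → charKer χ = ⊥ → charDegree χ + 1 < p → ¬ (P : Subgroup G).Normal →
    ∃ (K Q : Subgroup G) (R : Sylow p K), Q ≤ Subgroup.center G ∧ K ⊓ Q = ⊥ ∧
      (∀ g : G, ∃ a ∈ K, ∃ q ∈ Q, g = a * q) ∧ Nat.card (R : Subgroup K) = p ∧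
      ¬ (R : Subgroup K).Normal ∧ IsIrrCharacter K fun a => χ a

/-- Degree 16, `p = 19`. -/
def JobP19 : Prop :=
  ∀ (G : Type u) [Group G] [Fintype G] [IsSimpleGroup G] [Fact (Nat.Prime 19)] (P : Sylow 19 G),
    Cpl P ⊥ → (Cen (P : Subgroup G)).relIndex (Nor (P : Subgroup G)) = 3 → 2 ∣ Nat.card G →
    ∀ Ψ : G → ℂ, IsCharacter G Ψ → charDegree Ψ = 256 → mlt Ψ (one G) = 1 → sS 19 Ψ = 16 → False

/-- Degree 4, `p = 7`. -/
def JobP7 : Prop :=
  ∀ (G : Type u) [Group G] [Finite G] [Fact (Nat.Prime 7)] (h : ℕ) (P : Sylow 7 G) (x y : G)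
    (θ : G → ℂ), Lo 7 3 h (P : Subgroup G) x y → Gen (P : Subgroup G) → commutator G = ⊤ →
    IsSimpleGroup (G ⧸ Subgroup.center G) → IsIrrCharacter G θ → charKer θ = ⊥ →
    charDegree θ = 4 →
      Nonempty (G ⧸ Subgroup.center G ≃* Matrix.ProjectiveSpecialLinearGroup (Fin 2) (ZMod 7)) ∨
      Nonempty (G ⧸ Subgroup.center G ≃* alternatingGroup (Fin 7))

/-- Degree 3, `p = 5`. -/
def JobP5 : Prop :=
  ∀ (G : Type u) [Group G] [Finite G] [Fact (Nat.Prime 5)] (θ : G → ℂ), commutator G = ⊤ →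
    IsSimpleGroup (G ⧸ Subgroup.center G) → 5 ∣ Nat.card (G ⧸ Subgroup.center G) →
    IsIrrCharacter G θ → charKer θ = ⊥ → charDegree θ = 3 →
      Nonempty (G ⧸ Subgroup.center G ≃* Matrix.ProjectiveSpecialLinearGroup (Fin 2) (ZMod 5)) ∨
      Nonempty (G ⧸ Subgroup.center G ≃* alternatingGroup (Fin 6))

end H2.PR
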