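import Cfsg.Agent.H2.PrRedA
import Cfsg.Agent.H2.PrSpec2

/-! Linear groups of degree below `p - 1`: eigenvalues, centralisers, the main configuration. -/

set_option autoImplicit false
set_option linter.unusedSectionVars false

namespace H2.PR

open Cfsg H28 H35 H37 H39 H45 H87 H30.PrP H30.PrF Module
open scoped ComplexConjugate

universe u

variable {G : Type u} [Group G] [Finite G] {p : ℕ} [hp : Fact p.Prime] {P : Sylow p G} {ζ : G → ℂ}

theorem two_le_deg (hnn : ¬ (P : Subgroup G).Normal) (hζ : IsIrrCharacter G ζ)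
    (hk : charKer ζ = ⊥) : 2 ≤ charDegree ζ := by
  by_contra h2
  exact hnn (Subgroup.Normal.of_commutator_le _ ((hζ.charDegree_eq_one_iff.1
    (by have := hζ.charDegree_pos; omega)).trans (hk.le.trans bot_le)))

theorem cpl_all [Fintype G] (hP : Nat.card (P : Subgroup G) = p)
    (hnn : ¬ (P : Subgroup G).Normal) (hζ : IsIrrCharacter G ζ) (hk : charKer ζ = ⊥)
    (hd : charDegree ζ + 1 < p) : Cpl P (Subgroup.center G) ∧ p ≤ 2 * charDegree ζ + 1 ∧
      2 ≤ (Cen (P : Subgroup G)).relIndex (Nor (P : Subgroup G)) := by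
  rcases lt_or_ge p (2 * charDegree ζ + 1) with h | h
  · obtain ⟨h1, h2, -⟩ := deg_eq hP hnn hζ hk hd h
    exact ⟨h2, h.le, by omega⟩
  cases nonempty_fintype (P : Subgroup G)
  obtain ⟨h1, -, -, h2, h3⟩ := lin_main hP hnn hζ hk h (fun _ => kk_le) (irr_kk hP hnn hζ hk hd)
  obtain ⟨h4, h5, -⟩ := small_form hP hnn hζ hk h
  refine ⟨⟨hP, Subgroup.center_le_centralizer _, fun v hv h6 =>
    h2 (h6.trans (Subgroup.orderOf_dvd_natCard _ hv)), fun c hc => ?_⟩, h1.ge, h4 ▸ h5⟩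
  obtain ⟨x, hx, h6⟩ := h3 c hc
  exact ⟨x⁻¹, inv_mem hx, _, h6, (inv_mul_cancel_left _ _).symm⟩

theorem exists_typ [Fintype G] [Fintype (P : Subgroup G)] {e h : ℕ} {x y : G}
    (L : Lo p e h (P : Subgroup G) x y) (hζ : IsIrrCharacter G ζ) (hk : charKer ζ = ⊥)
    (hd : charDegree ζ + 1 < p) : ∃ (ν : (P : Subgroup G) →* ℂˣ) (s : ℤ), ν ≠ 1 ∧
      (s = 1 ∧ charDegree ζ = e ∨ s = -1 ∧ charDegree ζ + e = p) ∧
      ∀ z : (P : Subgroup G), z ≠ 1 → ζ z = s * eta ν h e 1 z := by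
  obtain ⟨μ, hμ⟩ := exists_hom_ne_one (A := (P : Subgroup G)) (a := ⟨y, L.mem⟩)
    (fun a b => Subtype.ext (le_centralizer_prime L.card b.2 a a.2))
    fun h => L.ne (congrArg Subtype.val h)
  have h1 : μ ≠ 1 := fun h => hμ (h ▸ rfl)
  obtain ⟨s, k, hs, h2, h3⟩ := typ L h1 hζ (by
    by_contra! h
    exact not_le_ker L.card hk (le_charKer_of_const hp.out L.card hζ.isCharacter hd (c := ζ y)
      fun z hz h1 => h ⟨z, hz⟩ ⟨y, L.mem⟩ (fun h => h1 (congrArg Subtype.val h))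
        fun h => L.ne (congrArg Subtype.val h)))
  obtain ⟨u, hu⟩ : ∃ u : ℕ, mu μ ζ 0 = u :=
    (hζ.isCharacter.restrict _).classInner_nat (isCharacter_of_hom _)
  rw [mu_ty (ph L h1) h2 h3, if_neg ((ph L h1).not_cl_zero h2), zero_add,
    div_eq_iff (Nat.cast_ne_zero.2 hp.out.ne_zero), ← hζ.cast_charDegree] at hu
  have h4 : (charDegree ζ : ℤ) - s * e = u * p := by exact_mod_cast hu
  have h5 := L.e_lt
  have h6 := L.two
  refine ⟨μ ^ k, s, fun h => h2 (Int.modEq_zero_iff_dvd.1 ((pw_eq_iff hp.out L.card h1).1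
    (funext fun z => by rw [pw, h, pw_apply, zpow_zero]; rfl))), ?_, fun z hz => ?_⟩
  · rcases hs with rfl | rfl
    · refine Or.inl ⟨rfl, ?_⟩
      rcases u with _ | u <;> push_cast at h4 <;> nlinarith
    · refine Or.inr ⟨rfl, ?_⟩
      rcases u with _ | _ | u <;> push_cast at h4 <;> nlinarith
  · rw [h3 z hz, eta_apply, eta_apply]
    simp [pw_apply]

theorem jobEig : JobEig.{u} := by
  intro G _ _ p hp P hP hnn ψ hψ hk hd
  cases nonempty_fintype G
  cases nonempty_fintype (P : Subgroup G)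
  obtain ⟨h1, h2, h3⟩ := cpl_all hP hnn hψ hk hd
  refine ⟨h1, h2, fun s hs h4 => ?_⟩
  obtain ⟨r, x, L⟩ := exists_lo h1 rfl h3 hs h4
  obtain ⟨ν, c, hν, h5, h6⟩ := exists_typ L hψ hk hd
  have H := ph L hν
  have h7 : ∀ j : ℕ, em p ψ s ((ν ⟨s, hs⟩ : ℂ) ^ j) = ⌊(mu ν ψ j).re⌋₊ := fun j => by
    rw [em, mu, classInner_def, hP]
    congr 3
    refine Eq.trans (Finset.sum_congr rfl fun i _ => ?_) ((sum_eq_sum_range hP hs h4 fun g => ψ g *
      extendByZero _ (fun z : (P : Subgroup G) => conj (pw ν j z)) g).trans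
        (Finset.sum_congr rfl fun z _ => by rw [H33.ext0_of_mem _ _ z.2]))
    rw [H33.ext0_of_mem _ _ (pow_mem hs i), conj_pw, pw_apply, map_inv, ← pow_mul, mul_comm j,
      pow_mul, ← Units.val_pow_eq_pow_val, ← map_pow]
    simp
  have hp0 : (p : ℂ) ≠ 0 := Nat.cast_ne_zero.2 hp.out.ne_zero
  have h8 := mu_ty H H30.PrC.not_dvd_one h6
  rw [← hψ.cast_charDegree] at h8
  refine ⟨fun ω hω => ?_, fun h9 => ?_⟩
  · have h9 : IsPrimitiveRoot (ν ⟨s, hs⟩ : ℂ) p := by
      have := IsPrimitiveRoot.orderOf (ν ⟨s, hs⟩)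
      rwa [orderOf_injective ν H.inj, Subgroup.orderOf_mk, L.ord,
        ← IsPrimitiveRoot.coe_units_iff] at this
    have : NeZero p := ⟨hp.out.ne_zero⟩
    obtain ⟨j, -, rfl⟩ := h9.eq_pow_of_pow_eq_one hω
    rw [h7, h8]
    rcases h5 with ⟨rfl, h5⟩ | ⟨rfl, h5⟩
    · rw [h5]
      split_ifs <;> simp
    · rw [Int.cast_neg, Int.cast_one, neg_one_mul, sub_neg_eq_add, ← Nat.cast_add, h5, div_self hp0]
      split_ifs <;> simp
  · rw [← pow_zero (ν ⟨s, hs⟩ : ℂ), h7, h8, Nat.cast_zero,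
      if_neg (H.not_cl_zero H30.PrC.not_dvd_one)]
    rcases h5 with ⟨rfl, h5⟩ | ⟨rfl, h5⟩
    · simp [h5]
    have := two_mul_le L.e_dvd (by have := two_le_deg hnn hψ hk; omega)
    omega

theorem jobC : JobC.{u} := by
  intro G _ _ p hp P hP χ hχ hk hd v hv hv' s hs
  cases nonempty_fintype G
  refine mul_inv_eq_iff_eq_mul.1 (mul_inv_eq_one.1 (Subgroup.mem_bot.1 (hk.le
    (hχ.mem_charKer_iff_constituents.2 fun ψ hψ h1 => ?_))))
  have hN := hψ.charKer_normal
  by_cases h2 : p ∣ Nat.card (charKer ψ)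
  · have h3 := mem_of_orderOf hN (sylow_le_of_normal P hP h2) hs
    exact mul_mem (hN.conj_mem s h3 v) (inv_mem h3)
  obtain ⟨η, hη, h5⟩ := hψ.exists_descend _ (QuotientGroup.mk'_surjective (charKer ψ))
    (QuotientGroup.ker_mk' _).le
  have h6 : charDegree η = charDegree ψ := charDegree_congr (h5 1)
  have h7 := card_sylow_quot hP h2
  have h8 : QuotientGroup.mk' (charKer ψ) v ∈ Cen (P.mapSurjective
      (QuotientGroup.mk'_surjective (charKer ψ)) : Subgroup (G ⧸ charKer ψ)) := by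
    rintro _ ⟨y, hy, rfl⟩
    rw [← map_mul, hv y hy, map_mul]
  rw [← QuotientGroup.eq_one_iff, ← QuotientGroup.mk'_apply, map_mul, map_mul, map_mul, map_inv,
    map_inv, mul_inv_eq_one, mul_inv_eq_iff_eq_mul]
  by_cases h9 : (P.mapSurjective (QuotientGroup.mk'_surjective (charKer ψ))).1.Normal
  · exact (h8 _ (mem_of_orderOf (h9.comap (QuotientGroup.mk' _)) (Subgroup.le_comap_map _ _)
      hs)).symm
  cases nonempty_fintype (G ⧸ charKer ψ)
  have h10 := (cpl_all h7 h9 hη (charKer_eq_bot_of_forall fun y hy => by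
      obtain ⟨y, rfl⟩ := QuotientGroup.mk'_surjective _ y
      exact (QuotientGroup.eq_one_iff _).2 (hψ.mem_charKer.2 ((h5 y).symm.trans (hy.trans (h5 1)))))
    (by have := hχ.charDegree_le_of_constituent hψ h1; omega)).1
  obtain ⟨y, hy, z, hz, h11⟩ := h10.ex _ h8
  by_cases h12 : y = 1
  · rw [h11, h12, one_mul, Subgroup.mem_center_iff.1 hz]
  · exact absurd ((h11 ▸ h10.dvd_order hy h12 hz).trans (orderOf_map_dvd _ v)) hv'

theorem exists_dat (hP : Nat.card (P : Subgroup G) = p) (hnn : ¬ (P : Subgroup G).Normal)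
    (gen : Gen (P : Subgroup G)) (hζ : IsIrrCharacter G ζ) (hk : charKer ζ = ⊥)
    (hd : charDegree ζ + 1 < p) (h2 : p < 2 * charDegree ζ + 1) :
    ∃ e t h x y ν α, Dat p e t h (charDegree ζ) P x y ζ ν α := by
  classical
  cases nonempty_fintype G
  cases nonempty_fintype (P : Subgroup G)
  obtain ⟨h1, h3, -⟩ := deg_eq hP hnn hζ hk hd h2
  obtain ⟨y, hy, hy1⟩ := exists_ne_one_mem_prime hP
  obtain ⟨r, x, L⟩ := exists_lo h3 rfl (by omega) hy hy1
  generalize (Cen (P : Subgroup G)).relIndex (Nor (P : Subgroup G)) = e at h1 L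
  obtain ⟨ν, c, hν, h4, h5⟩ := exists_typ L hζ hk hd
  obtain ⟨t, ht⟩ := L.e_dvd
  have h6 := two_mul_le L.e_dvd (by omega)
  obtain ⟨rfl, -⟩ := h4.resolve_left fun h => by omega
  have hp0 : (p : ℂ) ≠ 0 := Nat.cast_ne_zero.2 hp.out.ne_zero
  have h7 : mu ν ζ 0 = 1 := by
    rw [mu_ty (ph L hν) H30.PrC.not_dvd_one h5, if_neg ((ph L hν).not_cl_zero H30.PrC.not_dvd_one),
      ← hζ.cast_charDegree, Int.cast_neg, Int.cast_one, neg_one_mul, sub_neg_eq_add, ← Nat.cast_add,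
      h1, div_self hp0, zero_add]
  obtain ⟨β, h8, h9⟩ := exists_beta L hζ.isClassFunction (h7 ▸ one_ne_zero)
  have h10 : ∀ n : Nor (P : Subgroup G), (n : G) ∉ Cen (P : Subgroup G) → ζ n = β n := fun n hn => by
    have h10 := sum_mul_eq_zero ((hζ.isCharacter.restrict _).sub_irr (isIrrCharacter_of_hom β) h9)
      ((P : Subgroup G).subgroupOf (Nor (P : Subgroup G))) (by
        have h10 := card_mul_classInner (fun z : (P : Subgroup G) => ζ z) (pw ν 0)
        rw [← mu, h7, ← Equiv.sum_comp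
          (Subgroup.subgroupOfEquivOfLe Subgroup.le_normalizer).toEquiv] at h10
        simp only [Pi.sub_apply, Finset.sum_sub_distrib, fun z : (P : Subgroup G).subgroupOf
          (Nor (P : Subgroup G)) => h8 z z.2]
        simp only [pw_zero, map_one, mul_one] at h10
        rw [show ∑ z : (P : Subgroup G).subgroupOf (Nor (P : Subgroup G)), ζ z = _ from h10.symm]
        simp [← Nat.card_eq_fintype_card, H46.card_subgroupOf Subgroup.le_normalizer]) n
    rw [Finset.sum_congr rfl fun z _ => show _ = ζ n - β n by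
      rw [Pi.sub_apply, map_mul, h8 z z.2, one_mul, Subgroup.coe_mul, hζ.isClassFunction.mul_comm,
        ← hζ.isClassFunction.eq_of_isConj (L.isConj (z := z.1) n.2 hn z.2)]] at h10
    simpa [sub_eq_zero] using h10
  obtain ⟨l, hl⟩ := hζ.exists_central_hom (Z := Subgroup.center G) le_rfl
  refine ⟨e, t, r, x, y, ν, β ⟨x, L.x_mem⟩, L, by omega, h1, gen, hζ, hk, rfl, hν,
    fun z hz => by rw [h5 z hz]; simp, fun n hn h11 => ?_, fun i h11 h12 => ?_, ?_⟩
  · rw [h10 ⟨n, hn⟩ h11]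
    exact H29.norm_eq_one_of_pow_eq_one' (orderOf_pos (⟨n, hn⟩ : Nor (P : Subgroup G))).ne'
      (by rw [← Units.val_pow_eq_pow_val, ← map_pow, pow_orderOf_eq_one, map_one, Units.val_one])
  · rw [← Units.val_pow_eq_pow_val, ← map_pow]
    exact h10 (⟨x, L.x_mem⟩ ^ i) fun h =>
      Nat.not_dvd_of_pos_of_lt h11 h12 (L.pow_mem_cen_iff.1 h)
  · have := over_eq (w := (⟨x, L.x_mem⟩ ^ e : Nor (P : Subgroup G))) (a := l ⟨_, L.xe⟩)
      (b := β (⟨x, L.x_mem⟩ ^ e)) (fun g => hl ⟨_, L.xe⟩ g) (fun g => by simp) h9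
    rw [conj_hom, mul_inv_eq_one₀ (Units.ne_zero _)] at this
    rw [← Units.val_pow_eq_pow_val, ← map_pow, ← this, hζ.cast_charDegree, mul_comm, ← hl, mul_one]

end H2.PR
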