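/- STD-SP chapter I, slots A0 and DD. -/
import Cfsg.Agent.H86.SPIKit

set_option autoImplicit false
set_option linter.unusedSectionVars false

namespace H2.SPI

open H67.UA hiding Par
open H67.SP H86.SPI
open H59.SO (Ind exists_ind ind_conj_iff)
open H64.SG (mem_Cz)

universe u

variable {n : ℕ} {F : Type} [Field F] [StarRing F] [TrivialStar F] [CharP F 2] [Finite F] [Par n F]

theorem TT_inj {v w : Vn n F} (h : TT v = TT w) : v = w := by
  by_cases hv : v = 0
  · subst hv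
    exact (TT_eq_one (h.symm.trans TT_zero)).symm
  obtain ⟨z, hz⟩ : ∃ z, hf v z ≠ 0 := by
    by_contra hc
    push Not at hc
    exact hv (eq_of_hf fun z => by rw [hc, hf_zero_left])
  rw [hf_comm] at hz
  have h1 := congrArg (ac · z) h
  simp only [ac_TT, add_right_inj] at h1
  have h2 := congrArg (hf z) h1
  rw [hf_smul_right', hf_smul_right'] at h2
  have h3 : hf z v = hf z w := sq_inj (by rw [pow_two, pow_two, h2])
  rw [← h3] at h1
  exact smul_right_injective _ hz h1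

theorem jobA0 : JobA0.{u} := by
  intro n F _ _ _ _ _ _ G _ _ e t _ _ _ hC h
  have ind : ∀ g, g * t = t * g → ∃ β, Ind e g β := fun g hg =>
    exists_ind h.inj (h.cz (mem_Cz.2 hg.symm))
  have fin : ∀ g s, g * t = t * g → Ind e g (MulAut.conj s) → g = e s ∨ g = t * e s :=
    fun g s hg hs => (h.ck _ (Subgroup.mul_mem _ (mem_Cz.2 hg.symm)
      (Subgroup.inv_mem _ (h.toB1.mem_Cz s))) (ind_conj_iff.1 hs)).imp
      mul_inv_eq_one.1 mul_inv_eq_iff_eq_mul.1
  have fx : ∀ g β p, Ind e g β → g * e p = e p * g → β p = p := fun g β p hβ hp =>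
    h.inj (by rw [← hβ p, hp, mul_inv_cancel_right])
  refine ⟨h.inj, h.inv.1, h.toB1.comm, fun g hg => h.inv.2 ?_, fun g x hg hx hp => ?_,
    fun g x x' hg h0 hl hp => ?_, fun g u hg hu => ?_⟩
  · have : g = 1 := ac_ext fun v => by
      rw [ac_one]
      refine TT_inj (h.inj ?_)
      rw [← TT_conj, map_mul, map_mul, map_inv, ← hg, h.toB1.conj_eq]
    rw [hg, this, map_one]
  · obtain ⟨β, hβ⟩ := ind g hg
    obtain ⟨a, rfl⟩ := hC.c1 β x hx fun p a => fx g β p hβ (hp p a)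
    exact ⟨a, fin g _ hg hβ⟩
  · obtain ⟨β, hβ⟩ := ind g hg
    obtain ⟨a, b, c, rfl⟩ := hC.c2 β x x' h0 hl fun p a b => fx g β p hβ (hp p a b)
    exact ⟨a, b, c, fin g _ hg hβ⟩
  · obtain ⟨β, hβ⟩ := ind g hg
    exact ⟨β u, hC.lr β u hu, hβ u⟩

theorem jobDD : JobDD.{u} := by
  intro n F _ _ _ _ _ _ G _ _ e t _ hT hW _ hV k y h x x' h1 h2 h0
  have h3 : q0 (x + x') = 0 := by simpa using q0_comb h1 h2 h0 1 1
  have cj : ∀ a b c g : G, a * b * c * g * (a * b * c)⁻¹ = a * (b * (c * g * c⁻¹) * b⁻¹) * a⁻¹ :=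
    fun _ _ _ _ => by group
  have cm : ∀ a g g' : G, a * (g * g') * a⁻¹ = a * g * a⁻¹ * (a * g' * a⁻¹) :=
    fun _ _ _ => by group
  refine ⟨fun p a b => ?_, ?_⟩
  · have c : ac p (x + x') = x + x' := by rw [ac_add, a, b]
    rw [← mul_inv_eq_iff_eq_mul, dd, cj, h.act x' p h2 b,
      h.act x _ h1 (hT.fix x' x p h2 (hf_symm h0) b a), hT.add x x' p h1 h2 h0 a b,
      h.act _ _ h3 (hT.fix _ _ p h3 (hf_self _) c c), hT.add _ _ p h3 h3 (hf_self _) c c,
      v_add_self, hT.zero]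
  have s : ∀ v : Vn n F, q0 v = 0 → q0 (k • v) = 0 := fun v a => by rw [q0_smul, a, mul_zero]
  have e1 : TT (k • x) * (TT (k • x') * qq (k • x') x) =
      TT (k • (x + x')) * qq ((k + k ^ 2) • x') x := by
    rw [← mul_assoc, TT_mul (by rw [hf_smul_left, hf_smul_right', h0, mul_zero, mul_zero]),
      smul_add, mul_assoc, ← star_trivial k, ← qq_smul, star_trivial, smul_smul, qq_add_smul h0,
      pow_two, add_comm k]
  have e2 := h.comm_qq hW h1 h2 h0 1 1 (k + k ^ 2)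
  rw [one_smul, one_smul] at e2
  rw [dd, cj, h.tr x' h2, cm (y x), h.tr x h1,
    h.act_TT hT h1 (s _ h2) (by rw [hf_smul_right', h0, mul_zero]), mul_assoc t, ← map_mul, e1,
    map_mul, cm _ t, cm _ (e _), h.tr _ h3,
    h.act_TT hT h3 (s _ h3) (by rw [hf_smul_right', hf_self, mul_zero]), qq_dep, mul_one, e2,
    mul_inv_cancel_right, mul_assoc t, ← mul_assoc (e _), ← map_mul, TT_sq, map_one, one_mul]

end H2.SPI
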